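import Cfsg.Agent.H40.MinDegree
import Cfsg.Agent.H12.Orth

/-!
# A representation of the special linear group moving a transvection has large degree
-/

set_option autoImplicit false

namespace H19.OM

open Module Matrix
open scoped commutatorElement

universe v

variable {F : Type*} [Field F] [Fintype F] [DecidableEq F]

theorem sl_transvection_commutator {n : ℕ} {i j l : Fin n} (hij : i ≠ j) (hil : i ≠ l) (hlj : l ≠ j)
    (c : F) : SpecialLinearGroup.transvection hij c =
      ⁅SpecialLinearGroup.transvection hil c, SpecialLinearGroup.transvection hlj (1 : F)⁆ := by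
  rw [commutatorElement_def, SpecialLinearGroup.transvection_inv, SpecialLinearGroup.transvection_inv]
  apply Subtype.ext
  show Matrix.transvection i j c = Matrix.transvection i l c * Matrix.transvection l j 1 *
    Matrix.transvection i l (-c) * Matrix.transvection l j (-1)
  rw [Matrix.transvection, Matrix.transvection, Matrix.transvection, Matrix.transvection,
    Matrix.transvection]
  simp [mul_add, add_mul, Matrix.single_mul_single_of_ne, hij, hij.symm, hil, hil.symm, hlj,
    hlj.symm]
  ext a b
  simp only [Matrix.add_apply, Matrix.neg_apply, Matrix.single_apply, Matrix.one_apply]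
  split_ifs <;> ring

/-- A group element in the derived group that acts non-trivially gives a constituent of degree at
least two. -/
theorem exists_constituent_two {G : Type*} [Group G] [Finite G] (a b : G) :
    ∀ (n : ℕ) (V : Type v) [AddCommGroup V] [Module ℂ V] [FiniteDimensional ℂ V]
      (ρ : Representation ℂ G V), finrank ℂ V = n → ρ ⁅a, b⁆ ≠ 1 →
      ∃ W : Submodule ℂ V, ∃ hW : ∀ g, ∀ x ∈ W, ρ g x ∈ W,
        (⟨W, fun g x hx => hW g x hx⟩ : Subrepresentation ρ).toRepresentation.IsIrreducible ∧
          2 ≤ finrank ℂ W := by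
  intro n
  induction n using Nat.strong_induction_on with
  | _ n ih =>
  intro V _ _ _ ρ hn hne
  have : Nontrivial V := by
    by_contra h
    rw [not_nontrivial_iff_subsingleton] at h
    exact hne (LinearMap.ext fun x => Subsingleton.elim _ _)
  by_cases hirr : ρ.IsIrreducible
  · by_cases h2 : 2 ≤ finrank ℂ V
    · refine ⟨⊤, fun _ _ _ => Submodule.mem_top, ?_, by rw [finrank_top]; exact h2⟩
      haveI := hirr
      exact H12.isIrreducible_of_equiv (ρ := ρ)
        (σ := (⟨⊤, fun _ _ _ => Submodule.mem_top⟩ : Subrepresentation ρ).toRepresentation)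
        (Representation.Equiv.mk (Submodule.topEquiv.symm) (fun g => LinearMap.ext fun x => rfl))
    · exfalso
      apply hne
      have h1 : finrank ℂ V = 1 := le_antisymm (by omega) Module.finrank_pos
      have hscal : ∀ g, ∃ c : ℂ, ρ g = c • (1 : Module.End ℂ V) := fun g => by
        obtain ⟨v, hv, hspan⟩ := finrank_eq_one_iff'.1 h1
        obtain ⟨c, hc⟩ := hspan (ρ g v)
        refine ⟨c, LinearMap.ext fun x => ?_⟩
        obtain ⟨d, rfl⟩ := hspan x
        rw [map_smul, ← hc, LinearMap.smul_apply, Module.End.one_apply, smul_comm]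
      obtain ⟨ca, hca⟩ := hscal a
      obtain ⟨cb, hcb⟩ := hscal b
      have hcomm : ρ (a * b) = ρ (b * a) := by
        rw [map_mul, map_mul, hca, hcb, smul_mul_smul_comm, smul_mul_smul_comm, mul_comm ca]
      rw [commutatorElement_def, mul_assoc, ← _root_.mul_inv_rev, map_mul, hcomm, ← map_mul,
        mul_inv_cancel, map_one]
  · obtain ⟨p, q, hpq, hp, hq⟩ := H12.exists_proper_decomp ρ hirr
    have key : ∀ (r : Subrepresentation ρ), finrank ℂ r.toSubmodule < finrank ℂ V →
        r.toRepresentation ⁅a, b⁆ ≠ 1 → ∃ W : Submodule ℂ V, ∃ hW : ∀ g, ∀ x ∈ W, ρ g x ∈ W,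
        (⟨W, fun g x hx => hW g x hx⟩ : Subrepresentation ρ).toRepresentation.IsIrreducible ∧
          2 ≤ finrank ℂ W := by
      intro r hr hrne
      obtain ⟨W, hW, hWirr, hW2⟩ := ih _ (hn ▸ hr) r.toSubmodule r.toRepresentation rfl hrne
      let W' := W.map r.toSubmodule.subtype
      have hW' : ∀ g, ∀ x ∈ W', ρ g x ∈ W' := by
        rintro g _ ⟨y, hy, rfl⟩
        exact ⟨r.toRepresentation g y, hW g y hy, rfl⟩
      refine ⟨W', hW', ?_, le_trans hW2 (le_of_eq (Submodule.finrank_map_subtype_eq _ _).symm)⟩
      haveI := hWirr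
      exact H12.isIrreducible_of_equiv (ρ := (⟨W, fun g x hx => hW g x hx⟩ :
          Subrepresentation r.toRepresentation).toRepresentation)
        (Representation.Equiv.mk (Submodule.equivMapOfInjective _ Subtype.val_injective W)
          (fun g => LinearMap.ext fun x => rfl))
    by_cases hpne : p.toRepresentation ⁅a, b⁆ = 1
    · refine key q hq fun hqne => hne (LinearMap.ext fun x => ?_)
      obtain ⟨y, hy, z, hz, rfl⟩ := Submodule.mem_sup.1
        (hpq.sup_eq_top ▸ Submodule.mem_top (x := x))
      have h1 : ρ ⁅a, b⁆ y = y := congrArg Subtype.val (LinearMap.congr_fun hpne ⟨y, hy⟩)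
      have h2 : ρ ⁅a, b⁆ z = z := congrArg Subtype.val (LinearMap.congr_fun hqne ⟨z, hz⟩)
      rw [map_add, h1, h2, Module.End.one_apply]
    · exact key p hp hpne

/-- Moving a transvection costs at least the smallest non-trivial degree. -/
theorem sl_degree_bound {l : ℕ} (hl : 1 ≤ l) (hex : ¬ H40.MinDeg.Exceptional F (l + 2))
    {V : Type v} [AddCommGroup V] [Module ℂ V] [FiniteDimensional ℂ V]
    (ρ : Representation ℂ (SpecialLinearGroup (Fin (l + 1 + 1)) F) V)
    {i j : Fin (l + 1 + 1)} (hij : i ≠ j) (t : F)
    (hne : ρ (SpecialLinearGroup.transvection hij t) ≠ 1) :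
    Fintype.card F ^ (l + 2) - Fintype.card F ≤ (Fintype.card F - 1) * finrank ℂ V := by
  obtain ⟨k, hki, hkj⟩ : ∃ k : Fin (l + 1 + 1), k ≠ i ∧ k ≠ j := by
    obtain ⟨k, hk⟩ : ((Finset.univ : Finset (Fin (l + 1 + 1))) \ {i, j}).Nonempty := by
      rw [← Finset.card_pos]
      have := Finset.le_card_sdiff ({i, j} : Finset (Fin (l + 1 + 1))) Finset.univ
      have := Finset.card_le_two (a := i) (b := j)
      rw [Finset.card_univ, Fintype.card_fin] at *
      omega
    simp only [Finset.mem_sdiff, Finset.mem_univ, true_and, Finset.mem_insert,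
      Finset.mem_singleton, not_or] at hk
    exact ⟨k, hk⟩
  rw [sl_transvection_commutator hij (Ne.symm hki) hkj] at hne
  obtain ⟨W, hW, hirr, h2⟩ := exists_constituent_two _ _ _ V ρ rfl hne
  haveI := hirr
  exact (H40.MinDeg.min_degree l hl hex W
    (⟨W, fun g x hx => hW g x hx⟩ : Subrepresentation ρ).toRepresentation h2).trans
      (Nat.mul_le_mul_left _ (Submodule.finrank_le W))

end H19.OM
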