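import Cfsg.Agent.H40.StarRep

/-!
# Alternating matrices, their characters, and decomposable bivectors
-/

set_option autoImplicit false

namespace H19.OM

open Matrix

variable {F : Type*} [Field F] {m : ℕ}

/-- alternating matrices -/
def Alt (m : ℕ) (F : Type*) [Field F] : AddSubgroup (Matrix (Fin m) (Fin m) F) where
  carrier := {A | (∀ i, A i i = 0) ∧ ∀ i j, A j i = -A i j}
  add_mem' := fun {A B} hA hB => ⟨fun i => by simp [hA.1, hB.1],
    fun i j => by simp only [Matrix.add_apply]; rw [hA.2, hB.2]; ring⟩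
  zero_mem' := ⟨fun _ => rfl, fun _ _ => by simp⟩
  neg_mem' := fun {A} hA => ⟨fun i => by simp [hA.1],
    fun i j => by simp only [Matrix.neg_apply]; rw [hA.2]⟩

namespace Alt

variable (A : Alt m F)

theorem dg (i : Fin m) : A.1 i i = 0 := A.2.1 i

theorem sk (i j : Fin m) : A.1 j i = -A.1 i j := A.2.2 i j

theorem ext {A B : Alt m F} (h : ∀ i j, A.1 i j = B.1 i j) : A = B := Subtype.ext (Matrix.ext h)

end Alt

/-- the wedge of two vectors -/
def wedge (a b : Fin m → F) : Alt m F :=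
  ⟨vecMulVec a b - vecMulVec b a,
    fun i => by simp [vecMulVec_apply, mul_comm],
    fun i j => by simp [vecMulVec_apply]; ring⟩

theorem wedge_apply (a b : Fin m → F) (i j : Fin m) :
    (wedge a b).1 i j = a i * b j - b i * a j := rfl

/-- the upper part -/
def up (A : Alt m F) : Matrix (Fin m) (Fin m) F :=
  Matrix.of fun i j => if i < j then A.1 i j else 0

theorem up_sub (A : Alt m F) : up A - (up A)ᵀ = A.1 := by
  ext i j
  simp only [Matrix.sub_apply, Matrix.transpose_apply, up, Matrix.of_apply]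
  rcases lt_trichotomy i j with h | h | h
  · rw [if_pos h, if_neg (lt_asymm h), sub_zero]
  · subst h; simp [(Alt.dg A)]
  · rw [if_neg (lt_asymm h), if_pos h, zero_sub]; exact ((Alt.sk A) j i).symm

/-- An antisymmetric double sum vanishes. -/
theorem sum_sum_eq_zero_of_skew (f : Fin m → Fin m → F) (h0 : ∀ i, f i i = 0)
    (h : ∀ i j, f j i = -f i j) : ∑ i, ∑ j, f i j = 0 := by
  rw [← Fintype.sum_prod_type']
  refine Finset.sum_involution (fun p _ => p.swap) (fun p _ => ?_) (fun p _ hp heq => hp ?_)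
    (fun p _ => Finset.mem_univ _) (fun p _ => Prod.swap_swap p)
  · show f p.1 p.2 + f p.2 p.1 = 0
    rw [h p.1 p.2, add_neg_cancel]
  · have : p.2 = p.1 := congrArg Prod.fst heq
    rw [this]; exact h0 _

/-- the pairing of alternating matrices -/
def pr (ω A : Alt m F) : F := ∑ i, ∑ j, up ω i j * A.1 i j

theorem pr_of_sub (ω A : Alt m F) (U : Matrix (Fin m) (Fin m) F) (hU : U - Uᵀ = ω.1) :
    pr ω A = ∑ i, ∑ j, U i j * A.1 i j := by
  rw [pr, ← sub_eq_zero, ← Finset.sum_sub_distrib]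
  simp only [← Finset.sum_sub_distrib, ← sub_mul]
  have hsymm : ∀ i j, up ω i j - U i j = up ω j i - U j i := by
    intro i j
    have h1 := congrFun (congrFun (up_sub ω) i) j
    have h2 := congrFun (congrFun hU i) j
    simp only [Matrix.sub_apply, Matrix.transpose_apply] at h1 h2
    linear_combination h1 - h2
  refine sum_sum_eq_zero_of_skew _ (fun i => by rw [(Alt.dg A), mul_zero]) fun i j => ?_
  rw [hsymm j i, (Alt.sk A) i j]; ring

theorem pr_add (ω A B : Alt m F) : pr ω (A + B) = pr ω A + pr ω B := by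
  simp [pr, mul_add, Finset.sum_add_distrib]

theorem pr_zero (ω : Alt m F) : pr ω 0 = 0 := by simp [pr]

theorem pr_add_left (ω ω' A : Alt m F) : pr (ω + ω') A = pr ω A + pr ω' A := by
  rw [pr_of_sub (ω + ω') A (up ω + up ω')]
  · simp [pr, add_mul, Finset.sum_add_distrib]
  · rw [AddSubgroup.coe_add, ← up_sub ω, ← up_sub ω', Matrix.transpose_add]; abel

theorem pr_wedge (ω : Alt m F) (a b : Fin m → F) :
    pr ω (wedge a b) = ∑ i, ∑ j, a i * ω.1 i j * b j := by
  have h1 : pr ω (wedge a b) =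
      ∑ i, ∑ j, up ω i j * (a i * b j) - ∑ i, ∑ j, up ω i j * (b i * a j) := by
    rw [pr, ← Finset.sum_sub_distrib]
    refine Finset.sum_congr rfl fun i _ => ?_
    rw [← Finset.sum_sub_distrib]
    exact Finset.sum_congr rfl fun j _ => by rw [wedge_apply]; ring
  rw [h1, Finset.sum_comm (f := fun i j => up ω i j * (b i * a j)), ← Finset.sum_sub_distrib]
  refine Finset.sum_congr rfl fun i _ => ?_
  rw [← Finset.sum_sub_distrib]
  refine Finset.sum_congr rfl fun j _ => ?_
  rw [← congrFun (congrFun (up_sub ω) i) j]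
  simp only [Matrix.sub_apply, Matrix.transpose_apply]
  ring

theorem pr_wedge_single (ω : Alt m F) (i j : Fin m) (s t : F) :
    pr ω (wedge (Pi.single i s) (Pi.single j t)) = s * t * ω.1 i j := by
  rw [pr_wedge, Finset.sum_eq_single i (fun k _ hk => by simp [Pi.single_eq_of_ne hk]) (by simp),
    Finset.sum_eq_single j (fun k _ hk => by simp [Pi.single_eq_of_ne hk]) (by simp)]
  simp; ring

theorem pr_left_injective {ω ω' : Alt m F} (h : ∀ A, pr ω A = pr ω' A) : ω = ω' := by
  refine Alt.ext fun i j => ?_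
  simpa [pr_wedge_single] using h (wedge (Pi.single i 1) (Pi.single j 1))

/-- congruence `g A gᵀ` -/
def cong (g : Matrix (Fin m) (Fin m) F) (A : Alt m F) : Alt m F :=
  ⟨g * A.1 * gᵀ, by
    have h : g * A.1 * gᵀ = g * up A * gᵀ - (g * up A * gᵀ)ᵀ := by
      simp only [Matrix.transpose_mul, Matrix.transpose_transpose, ← Matrix.mul_assoc]
      rw [← Matrix.sub_mul, ← Matrix.mul_sub, up_sub]
    rw [h]
    generalize g * up A * gᵀ = M
    exact ⟨fun i => by simp, fun i j => by simp⟩⟩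

theorem cong_val (g : Matrix (Fin m) (Fin m) F) (A : Alt m F) : (cong g A).1 = g * A.1 * gᵀ := rfl

theorem cong_mul (g h : Matrix (Fin m) (Fin m) F) (A : Alt m F) :
    cong (g * h) A = cong g (cong h A) :=
  Subtype.ext (by simp [cong_val, Matrix.transpose_mul, Matrix.mul_assoc])

theorem cong_one (A : Alt m F) : cong 1 A = A := Subtype.ext (by simp [cong_val])

theorem cong_add (g : Matrix (Fin m) (Fin m) F) (A B : Alt m F) :
    cong g (A + B) = cong g A + cong g B :=
  Subtype.ext (by simp [cong_val, Matrix.mul_add, Matrix.add_mul])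

theorem cong_zero (g : Matrix (Fin m) (Fin m) F) : cong g (0 : Alt m F) = 0 :=
  Subtype.ext (by simp [cong_val])

theorem cong_wedge (g : Matrix (Fin m) (Fin m) F) (a b : Fin m → F) :
    cong g (wedge a b) = wedge (g *ᵥ a) (g *ᵥ b) := by
  refine Subtype.ext ?_
  simp [cong_val, wedge, Matrix.mul_sub, Matrix.sub_mul, mul_vecMulVec, vecMulVec_mul,
    Matrix.vecMul_transpose]

theorem pr_cong (ω A : Alt m F) (g : Matrix (Fin m) (Fin m) F) :
    pr ω (cong g A) = pr (cong gᵀ ω) A := by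
  rw [pr_of_sub (cong gᵀ ω) A (gᵀ * up ω * g)]
  · have e1 : ∀ M N : Matrix (Fin m) (Fin m) F, ∑ i, ∑ j, M i j * N i j = (Mᵀ * N).trace :=
      fun M N => by
        rw [Finset.sum_comm]; simp [Matrix.trace, Matrix.mul_apply]
    rw [pr, e1, e1, cong_val, Matrix.transpose_mul, Matrix.transpose_mul,
      Matrix.transpose_transpose, ← Matrix.mul_assoc, ← Matrix.mul_assoc, Matrix.trace_mul_comm,
      ← Matrix.mul_assoc, ← Matrix.mul_assoc]
  · rw [cong_val, Matrix.transpose_transpose, ← up_sub ω, Matrix.mul_sub, Matrix.sub_mul]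
    simp [Matrix.transpose_mul, Matrix.mul_assoc]

variable [Fintype F]

noncomputable instance : Fintype (Alt m F) := Fintype.ofFinite _

theorem psi_isPrimitive : (H40.MinDeg.psi F).IsPrimitive :=
  AddChar.IsPrimitive.of_ne_one (H40.MinDeg.psi_ne_one (F := F))

/-- the character attached to an alternating matrix -/
noncomputable def chr (ω : Alt m F) : AddChar (Alt m F) ℂ :=
  (H40.MinDeg.psi F).compAddMonoidHom
    { toFun := pr ω, map_zero' := pr_zero ω, map_add' := pr_add ω }

theorem chr_apply (ω A : Alt m F) : chr ω A = H40.MinDeg.psi F (pr ω A) := rfl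

theorem chr_bijective : Function.Bijective (chr : Alt m F → AddChar (Alt m F) ℂ) := by
  classical
  rw [Fintype.bijective_iff_injective_and_card]
  refine ⟨fun ω ω' h => ?_, by rw [AddChar.card_eq]⟩
  refine pr_left_injective fun A => ?_
  by_contra hne
  have hd : pr ω A - pr ω' A ≠ 0 := sub_ne_zero.2 hne
  apply psi_isPrimitive (F := F) hd
  refine DFunLike.ext _ _ fun x => ?_
  rw [AddChar.mulShift_apply, AddChar.one_apply]
  set B : Alt m F := ⟨x • A.1, fun i => by simp [(Alt.dg A)],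
    fun i j => by simp [(Alt.sk A) i j]⟩
  have hB : ∀ η : Alt m F, pr η B = x * pr η A := fun η => by
    simp only [pr, Finset.mul_sum, B, Matrix.smul_apply, smul_eq_mul]
    exact Finset.sum_congr rfl fun i _ => Finset.sum_congr rfl fun j _ => by ring
  have h1 : H40.MinDeg.psi F (pr ω B) = H40.MinDeg.psi F (pr ω' B) := DFunLike.congr_fun h B
  rw [hB, hB] at h1
  rw [sub_mul, AddChar.map_sub_eq_div, mul_comm, h1, mul_comm (pr ω' A) x,
    div_self (AddChar.val_isUnit _ _).ne_zero]

theorem chr_zero : chr (0 : Alt m F) = 0 := by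
  refine DFunLike.ext _ _ fun A => ?_
  rw [chr_apply, AddChar.zero_apply]
  have : pr 0 A = 0 := by simp [pr, up]
  rw [this, AddChar.map_zero_eq_one]

theorem chr_cong (ω A : Alt m F) (g : Matrix (Fin m) (Fin m) F) :
    chr ω (cong g A) = chr (cong gᵀ ω) A := by
  rw [chr_apply, chr_apply, pr_cong]

/-! ### Decomposable bivectors -/

/-- non-zero decomposable bivectors -/
def Dec (ω : Alt m F) : Prop := ω ≠ 0 ∧ ∃ a b, ω = wedge a b

omit [Fintype F] in
theorem Dec.identity {ω : Alt m F} (h : Dec ω) (i k x y : Fin m) :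
    ω.1 i k * ω.1 x y = ω.1 i x * ω.1 k y - ω.1 i y * ω.1 k x := by
  obtain ⟨-, a, b, rfl⟩ := h
  simp only [wedge_apply]; ring

omit [Fintype F] in
theorem Dec.eq_wedge {ω : Alt m F} (h : Dec ω) {i k : Fin m} (hik : ω.1 i k ≠ 0) :
    ω = wedge ((ω.1 i k)⁻¹ • ω.1 i) (ω.1 k) := by
  refine Alt.ext fun x y => ?_
  rw [wedge_apply, Pi.smul_apply, Pi.smul_apply, smul_eq_mul, smul_eq_mul]
  field_simp
  linear_combination h.identity i k x y

omit [Fintype F] in
theorem Dec.cong_of {ω : Alt m F} (h : Dec ω) {g g' : Matrix (Fin m) (Fin m) F} (hg : g' * g = 1) :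
    Dec (cong g ω) := by
  obtain ⟨h0, a, b, rfl⟩ := h
  refine ⟨fun h => h0 ?_, g *ᵥ a, g *ᵥ b, cong_wedge g a b⟩
  rw [← cong_one (wedge a b), ← hg, cong_mul, h, cong_zero]

/-- the two rows through a non-zero entry determine a decomposable bivector -/
noncomputable def decRowsEquiv (i k : Fin m) (hik : i ≠ k) (c : F) (hc : c ≠ 0) :
    {ω : Alt m F // Dec ω ∧ ω.1 i k = c} ≃
      {rs : (Fin m → F) × (Fin m → F) //
        rs.1 i = 0 ∧ rs.1 k = c ∧ rs.2 k = 0 ∧ rs.2 i = -c} where
  toFun ω := ⟨(ω.1.1 i, ω.1.1 k), (Alt.dg ω.1) i, ω.2.2, (Alt.dg ω.1) k,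
    ((Alt.sk ω.1) i k).trans (congrArg Neg.neg ω.2.2)⟩
  invFun rs := ⟨wedge (c⁻¹ • rs.1.1) rs.1.2, by
    have hv : (wedge (c⁻¹ • rs.1.1) rs.1.2).1 i k = c := by
      rw [wedge_apply]; simp [rs.2.1, rs.2.2.1, rs.2.2.2.1, rs.2.2.2.2, hc]
    exact ⟨⟨fun h => hc (hv ▸ by rw [h]; rfl), _, _, rfl⟩, hv⟩⟩
  left_inv ω := by
    apply Subtype.ext
    conv_rhs => rw [ω.2.1.eq_wedge (i := i) (k := k) (by rw [ω.2.2]; exact hc)]
    simp only [ω.2.2]
  right_inv rs := by
    obtain ⟨⟨r, s⟩, h1, h2, h3, h4⟩ := rs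
    refine Subtype.ext (Prod.ext (funext fun x => ?_) (funext fun x => ?_))
    · show (wedge (c⁻¹ • r) s).1 i x = r x
      rw [wedge_apply]; simp only [Pi.smul_apply, smul_eq_mul] at *; rw [h1, h4]; field_simp; ring
    · show (wedge (c⁻¹ • r) s).1 k x = s x
      rw [wedge_apply]; simp only [Pi.smul_apply, smul_eq_mul] at *; rw [h2, h3]; field_simp; ring

theorem card_fun_two_fixed {i k : Fin m} (hik : i ≠ k) (u v : F) :
    Nat.card {r : Fin m → F // r i = u ∧ r k = v} = Fintype.card F ^ (m - 2) := by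
  classical
  let e : {r : Fin m → F // r i = u ∧ r k = v} ≃ ({x : Fin m // x ≠ i ∧ x ≠ k} → F) :=
    { toFun := fun r x => r.1 x.1
      invFun := fun f => ⟨fun x => if hi : x = i then u else if hk : x = k then v else f ⟨x, hi, hk⟩,
        by simp, by simp [Ne.symm hik]⟩
      left_inv := fun r => Subtype.ext (funext fun x => by
        dsimp only
        split_ifs with hi hk
        · rw [hi, r.2.1]
        · rw [hk, r.2.2]
        · rfl)
      right_inv := fun f => funext fun x => by simp [x.2.1, x.2.2] }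
  rw [Nat.card_congr e, Nat.card_fun, Nat.card_eq_fintype_card, Nat.card_eq_fintype_card]
  congr 1
  rw [Fintype.card_subtype]
  have : (Finset.univ.filter fun x : Fin m => x ≠ i ∧ x ≠ k) = Finset.univ \ {i, k} := by
    ext x; simp
  rw [this, Finset.card_sdiff_of_subset (Finset.subset_univ _), Finset.card_univ, Fintype.card_fin,
    Finset.card_pair hik]

theorem card_dec_entry {i k : Fin m} (hik : i ≠ k) {c : F} (hc : c ≠ 0) :
    Nat.card {ω : Alt m F // Dec ω ∧ ω.1 i k = c} = Fintype.card F ^ (m - 2) * Fintype.card F ^ (m - 2) := by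
  classical
  let e : {rs : (Fin m → F) × (Fin m → F) //
      rs.1 i = 0 ∧ rs.1 k = c ∧ rs.2 k = 0 ∧ rs.2 i = -c} ≃
      {r : Fin m → F // r i = 0 ∧ r k = c} × {s : Fin m → F // s k = 0 ∧ s i = -c} :=
    { toFun := fun rs => (⟨rs.1.1, rs.2.1, rs.2.2.1⟩, ⟨rs.1.2, rs.2.2.2⟩)
      invFun := fun p => ⟨(p.1.1, p.2.1), p.1.2.1, p.1.2.2, p.2.2⟩
      left_inv := fun _ => rfl
      right_inv := fun _ => rfl }
  rw [Nat.card_congr ((decRowsEquiv i k hik c hc).trans e), Nat.card_prod,
    card_fun_two_fixed hik, card_fun_two_fixed (Ne.symm hik)]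

theorem card_dec_row {i k : Fin m} {φ : Fin m → F} (hi : φ i = 0) (hk : φ k ≠ 0) :
    Nat.card {ω : Alt m F // Dec ω ∧ ω.1 i = φ} = Fintype.card F ^ (m - 2) := by
  classical
  have hik : i ≠ k := fun h => hk (h ▸ hi)
  let e : {ω : Alt m F // Dec ω ∧ ω.1 i = φ} ≃ {s : Fin m → F // s k = 0 ∧ s i = -φ k} :=
    { toFun := fun ω => ⟨ω.1.1 k, (Alt.dg ω.1) k,
        by rw [show ω.1.1 k i = -ω.1.1 i k from (Alt.sk ω.1) i k, ω.2.2]⟩
      invFun := fun s => ⟨((decRowsEquiv i k hik (φ k) hk).symm ⟨(φ, s.1), hi, rfl, s.2.1, s.2.2⟩).1,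
        ((decRowsEquiv i k hik (φ k) hk).symm ⟨(φ, s.1), hi, rfl, s.2.1, s.2.2⟩).2.1, by
          have h := (decRowsEquiv i k hik (φ k) hk).apply_symm_apply
            ⟨(φ, s.1), hi, rfl, s.2.1, s.2.2⟩
          exact congrArg (fun p => p.1.1) h⟩
      left_inv := fun ω => by
        apply Subtype.ext
        conv_rhs => rw [ω.2.1.eq_wedge (i := i) (k := k) (by rw [ω.2.2]; exact hk)]
        show wedge _ _ = wedge _ _
        rw [ω.2.2]
      right_inv := fun s => by
        have h := (decRowsEquiv i k hik (φ k) hk).apply_symm_apply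
            ⟨(φ, s.1), hi, rfl, s.2.1, s.2.2⟩
        exact Subtype.ext (congrArg (fun p => p.1.2) h) }
  rw [Nat.card_congr e, card_fun_two_fixed (Ne.symm hik)]

theorem card_dec_row_zero (m : ℕ) :
    Nat.card {ω : Alt (m + 1) F // Dec ω ∧ ω.1 0 = 0} = Nat.card {ω : Alt m F // Dec ω} := by
  classical
  let down : Alt (m + 1) F → Alt m F := fun ω =>
    ⟨ω.1.submatrix Fin.succ Fin.succ, fun i => (Alt.dg ω) _, fun i j => (Alt.sk ω) _ _⟩
  let upw : Alt m F → Alt (m + 1) F := fun ω =>
    ⟨Matrix.of (Fin.cons 0 fun i => Fin.cons 0 (ω.1 i)),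
      fun i => by refine Fin.cases ?_ (fun i => ?_) i <;> simp [(Alt.dg ω)],
      fun i j => by
        refine Fin.cases ?_ (fun i => ?_) i <;> refine Fin.cases ?_ (fun j => ?_) j <;> simp
        exact Alt.sk ω i j⟩
  refine Nat.card_congr
    { toFun := fun ω => ⟨down ω.1, ?_⟩
      invFun := fun ω => ⟨upw ω.1, ?_⟩
      left_inv := fun ω => ?_
      right_inv := fun ω => Subtype.ext (Alt.ext fun i j => by simp [down, upw]) }
  · obtain ⟨⟨h0, a, b, hab⟩, hrow⟩ := ω.2
    refine ⟨fun h => h0 (Alt.ext fun i j => ?_), a ∘ Fin.succ, b ∘ Fin.succ,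
      Alt.ext fun i j => by simp only [down, hab]; rfl⟩
    refine Fin.cases ?_ (fun i => ?_) i
    · rw [hrow]; rfl
    · refine Fin.cases ?_ (fun j => ?_) j
      · rw [(Alt.sk ω.1) 0 i.succ, hrow]; simp
      · exact congrFun (congrFun (congrArg Subtype.val h) i) j
  · obtain ⟨h0, a, b, hab⟩ := ω.2
    refine ⟨⟨fun h => h0 (Alt.ext fun i j => ?_), Fin.cons 0 a, Fin.cons 0 b,
      Alt.ext fun i j => ?_⟩, funext fun j => by simp [upw]⟩
    · simpa [upw] using congrFun (congrFun (congrArg Subtype.val h) i.succ) j.succ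
    · refine Fin.cases ?_ (fun i => ?_) i <;> refine Fin.cases ?_ (fun j => ?_) j <;>
        simp [upw, wedge_apply, hab]
  · obtain ⟨-, hrow⟩ := ω.2
    refine Subtype.ext (Alt.ext fun i j => ?_)
    refine Fin.cases ?_ (fun i => ?_) i
    · rw [hrow]; simp [upw, down]
    · refine Fin.cases ?_ (fun j => ?_) j
      · rw [(Alt.sk ω.1) 0 i.succ, hrow]; simp [upw, down]
      · simp [upw, down]

theorem card_dec_succ (m : ℕ) :
    Nat.card {ω : Alt (m + 1) F // Dec ω} = Nat.card {ω : Alt m F // Dec ω} +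
      (Fintype.card F ^ m - 1) * Fintype.card F ^ (m - 1) := by
  classical
  let P : Alt (m + 1) F → Prop := fun ω => Dec ω
  have hsplit : Nat.card {ω : Alt (m + 1) F // Dec ω} =
      ∑ r : Fin m → F, Nat.card {ω : Alt (m + 1) F // Dec ω ∧ ω.1 0 = Fin.cons 0 r} := by
    rw [← Nat.card_sigma]
    refine Nat.card_congr
      { toFun := fun ω => ⟨fun j => ω.1.1 0 j.succ, ω.1, ω.2, funext fun j => by
          refine Fin.cases ?_ (fun j => ?_) j <;> simp [(Alt.dg ω.1)]⟩
        invFun := fun p => ⟨p.2.1, p.2.2.1⟩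
        left_inv := fun _ => rfl
        right_inv := fun p => by
          obtain ⟨r, ω, h1, h2⟩ := p
          have hr : r = fun j => ω.1 0 j.succ := funext fun j => by rw [h2]; simp
          subst hr
          rfl }
  rw [hsplit, ← Finset.add_sum_erase _ _ (Finset.mem_univ (0 : Fin m → F))]
  have hz : (Fin.cons 0 (0 : Fin m → F) : Fin (m + 1) → F) = 0 := by
    funext i; refine Fin.cases ?_ (fun i => ?_) i <;> simp
  rw [hz, card_dec_row_zero]
  congr 1
  rw [Finset.sum_congr rfl (g := fun _ => Fintype.card F ^ (m - 1)), Finset.sum_const,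
    Finset.card_erase_of_mem (Finset.mem_univ _), Finset.card_univ, Fintype.card_fun,
    Fintype.card_fin, smul_eq_mul]
  intro r hr
  obtain ⟨j, hj⟩ := Function.ne_iff.1 (Finset.ne_of_mem_erase hr)
  rw [card_dec_row (k := j.succ) (Fin.cons_zero _ _) (by simpa using hj)]
  congr 1

/-- the number of decomposable bivectors -/
theorem card_dec (m : ℕ) :
    ((Fintype.card F : ℤ) ^ 2 - 1) * Nat.card {ω : Alt (m + 1) F // Dec ω} =
      ((Fintype.card F : ℤ) ^ (m + 1) - 1) * ((Fintype.card F : ℤ) ^ m - 1) := by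
  induction m with
  | zero =>
    have : IsEmpty {ω : Alt 1 F // Dec ω} :=
      ⟨fun ω => ω.2.1 (Alt.ext fun i j => by
        rw [Subsingleton.elim j i, (Alt.dg ω.1)]; rfl)⟩
    simp [Nat.card_of_isEmpty]
  | succ m ih =>
    rw [card_dec_succ (m + 1), Nat.cast_add, mul_add, ih, Nat.cast_mul,
      Nat.cast_sub (Nat.one_le_pow _ _ Fintype.card_pos), Nat.cast_pow, Nat.cast_pow,
      Nat.cast_one, show m + 1 - 1 = m by omega]
    ring

end H19.OM
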