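import Cfsg.Agent.H43.Basic
import Cfsg.Agent.H19.OM.Biv
import Cfsg.Agent.H37.Generation

/-!
# The Siegel parabolic of the orthogonal group of `x · y + Q₀(w)`
-/

set_option autoImplicit false

namespace H19.OM

open Matrix
open scoped commutatorElement
open H43 (polB orthGroup orth_ext orth_mul_apply)

variable {F : Type*} [Field F] {m δ : ℕ}

/-- the ambient space -/
abbrev Sp (m δ : ℕ) (F : Type*) : Type _ := (Fin m → F) × (Fin m → F) × (Fin δ → F)

variable (Q0 : QuadraticForm F (Fin δ → F))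

/-- the form `x · y + Q₀(w)` -/
noncomputable def Qf (m : ℕ) (Q0 : QuadraticForm F (Fin δ → F)) : QuadraticForm F (Sp m δ F) :=
  LinearMap.BilinMap.toQuadraticMap
      ((dotProductBilin F F).compl₁₂ (LinearMap.fst F (Fin m → F) ((Fin m → F) × (Fin δ → F)))
        ((LinearMap.fst F (Fin m → F) (Fin δ → F)).comp
          (LinearMap.snd F (Fin m → F) ((Fin m → F) × (Fin δ → F))))) +
    Q0.comp ((LinearMap.snd F (Fin m → F) (Fin δ → F)).comp
      (LinearMap.snd F (Fin m → F) ((Fin m → F) × (Fin δ → F))))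

theorem Qf_apply (x y : Fin m → F) (w : Fin δ → F) :
    Qf m Q0 (x, y, w) = x ⬝ᵥ y + Q0 w := by
  simp [Qf]

theorem polB_Qf (x y : Fin m → F) (w : Fin δ → F) (x' y' : Fin m → F) (w' : Fin δ → F) :
    polB (Qf m Q0) (x, y, w) (x', y', w') = x ⬝ᵥ y' + x' ⬝ᵥ y + polB Q0 w w' := by
  rw [H43.polB_apply, H43.polB_apply, QuadraticMap.polar, QuadraticMap.polar, Prod.mk_add_mk,
    Prod.mk_add_mk, Qf_apply, Qf_apply, Qf_apply, add_dotProduct, dotProduct_add, dotProduct_add]
  ring

/-- The group of isometries. -/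
noncomputable abbrev OO (m : ℕ) (Q0 : QuadraticForm F (Fin δ → F)) := orthGroup (Qf m Q0)

/-- Its derived group. -/
noncomputable abbrev GG (m : ℕ) (Q0 : QuadraticForm F (Fin δ → F)) := commutator (OO m Q0)

theorem alt_self (A : Alt m F) (y : Fin m → F) : (A.1 *ᵥ y) ⬝ᵥ y = 0 := by
  simp only [dotProduct, mulVec, Finset.sum_mul]
  exact sum_sum_eq_zero_of_skew _ (fun i => by rw [Alt.dg A i, zero_mul, zero_mul])
    fun i j => by rw [Alt.sk A i j]; ring

/-- the underlying map of `z A` -/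
def zLin (A : Alt m F) : Sp m δ F →ₗ[F] Sp m δ F where
  toFun v := (v.1 + A.1 *ᵥ v.2.1, v.2.1, v.2.2)
  map_add' u v := by
    refine Prod.ext ?_ rfl
    simp only [Prod.fst_add, Prod.snd_add, mulVec_add]; abel
  map_smul' c v := by
    refine Prod.ext ?_ rfl
    simp [mulVec_smul, smul_add]

theorem zLin_comp (A B : Alt m F) (v : Sp m δ F) : zLin A (zLin B v) = zLin (A + B) v := by
  refine Prod.ext ?_ rfl
  simp only [zLin, LinearMap.coe_mk, AddHom.coe_mk, AddSubgroup.coe_add, add_mulVec]; abel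

theorem zLin_zero (v : Sp m δ F) : zLin (0 : Alt m F) v = v := by
  refine Prod.ext ?_ rfl
  simp [zLin]

/-- `(x, y, w) ↦ (x + A y, y, w)` -/
noncomputable def zO (A : Alt m F) : OO m Q0 :=
  ⟨LinearEquiv.ofLinearMap (zLin A) (zLin (-A))
      (LinearMap.ext fun v => by
        rw [LinearMap.comp_apply, zLin_comp, add_neg_cancel, zLin_zero]; rfl)
      (LinearMap.ext fun v => by
        rw [LinearMap.comp_apply, zLin_comp, neg_add_cancel, zLin_zero]; rfl),
    fun v => by
      obtain ⟨x, y, w⟩ := v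
      show Qf m Q0 (x + A.1 *ᵥ y, y, w) = _
      rw [Qf_apply, Qf_apply, add_dotProduct, alt_self, add_zero]⟩

theorem zO_apply (A : Alt m F) (x y : Fin m → F) (w : Fin δ → F) :
    (zO Q0 A).1 (x, y, w) = (x + A.1 *ᵥ y, y, w) := rfl

theorem zO_add (A B : Alt m F) : zO Q0 (A + B) = zO Q0 A * zO Q0 B :=
  orth_ext fun v => (zLin_comp A B v).symm

theorem zO_zero : zO Q0 (0 : Alt m F) = 1 := orth_ext fun v => zLin_zero v

theorem zO_inv (A : Alt m F) : (zO Q0 A)⁻¹ = zO Q0 (-A) :=
  inv_eq_of_mul_eq_one_right (by rw [← zO_add, add_neg_cancel, zO_zero])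

/-- the underlying map of `lev g` -/
def levLin (g h : Matrix (Fin m) (Fin m) F) : Sp m δ F →ₗ[F] Sp m δ F :=
  (mulVecLin g).prodMap ((mulVecLin hᵀ).prodMap LinearMap.id)

theorem levLin_apply (g h : Matrix (Fin m) (Fin m) F) (x y : Fin m → F) (w : Fin δ → F) :
    levLin g h (x, y, w) = (g *ᵥ x, hᵀ *ᵥ y, w) := rfl

/-- `(x, y, w) ↦ (g x, g⁻ᵀ y, w)` -/
noncomputable def levO : GL (Fin m) F →* OO m Q0 where
  toFun g := ⟨LinearEquiv.ofLinearMap (levLin g.1 g⁻¹.1) (levLin g⁻¹.1 g.1)
      (LinearMap.ext fun v => by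
        obtain ⟨x, y, w⟩ := v
        rw [LinearMap.comp_apply, levLin_apply, levLin_apply, mulVec_mulVec, mulVec_mulVec,
          ← Matrix.transpose_mul, Units.mul_inv, Matrix.transpose_one, one_mulVec, one_mulVec]
        rfl)
      (LinearMap.ext fun v => by
        obtain ⟨x, y, w⟩ := v
        rw [LinearMap.comp_apply, levLin_apply, levLin_apply, mulVec_mulVec, mulVec_mulVec,
          ← Matrix.transpose_mul, Units.inv_mul, Matrix.transpose_one, one_mulVec, one_mulVec]
        rfl),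
    fun v => by
      obtain ⟨x, y, w⟩ := v
      show Qf m Q0 (g.1 *ᵥ x, (g⁻¹.1)ᵀ *ᵥ y, w) = _
      rw [Qf_apply, Qf_apply, dotProduct_mulVec, vecMul_transpose, mulVec_mulVec,
        Units.inv_mul, one_mulVec]⟩
  map_one' := orth_ext fun v => by
    obtain ⟨x, y, w⟩ := v
    show levLin _ _ (x, y, w) = _
    simp [levLin_apply]
  map_mul' g h := orth_ext fun v => by
    obtain ⟨x, y, w⟩ := v
    show levLin _ _ (x, y, w) = levLin _ _ (levLin _ _ (x, y, w))
    simp only [levLin_apply, _root_.mul_inv_rev, Units.val_mul, Matrix.transpose_mul,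
      mulVec_mulVec]

theorem levO_apply (g : GL (Fin m) F) (x y : Fin m → F) (w : Fin δ → F) :
    (levO Q0 g).1 (x, y, w) = (g.1 *ᵥ x, (g⁻¹.1)ᵀ *ᵥ y, w) := rfl

theorem levO_zO (g : GL (Fin m) F) (A : Alt m F) :
    levO Q0 g * zO Q0 A = zO Q0 (cong g.1 A) * levO Q0 g := by
  refine orth_ext fun v => ?_
  obtain ⟨x, y, w⟩ := v
  rw [orth_mul_apply, orth_mul_apply, zO_apply, levO_apply, levO_apply, zO_apply, cong_val,
    mulVec_add, mulVec_mulVec, mulVec_mulVec]
  congr 3
  rw [Matrix.mul_assoc, ← Matrix.transpose_mul, Units.inv_mul, Matrix.transpose_one,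
    Matrix.mul_one]

/-- Eichler element attached to `s ∈ S` and `w ∈ W` -/
noncomputable def uO (s : Fin m → F) (w : Fin δ → F) : OO m Q0 :=
  H43.eichler (Qf m Q0) (s, 0, 0) (0, 0, w)

theorem uO_apply (s : Fin m → F) (w0 : Fin δ → F) (x y : Fin m → F) (w : Fin δ → F) :
    (uO Q0 s w0).1 (x, y, w) =
      (x - (polB Q0 w w0 + Q0 w0 * (s ⬝ᵥ y)) • s, y, w + (s ⬝ᵥ y) • w0) := by
  rw [uO, H43.eichler_apply (by simp [Qf_apply]) (by simp [polB_Qf]), polB_Qf, polB_Qf, Qf_apply]
  simp only [dotProduct_zero, zero_dotProduct, zero_add, add_zero, map_zero, Prod.smul_mk,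
    smul_zero, Prod.mk_add_mk, Prod.mk_sub_mk, sub_zero, Prod.mk.injEq, and_true, true_and]
  module

theorem uO_add_right (s : Fin m → F) (w w' : Fin δ → F) :
    uO Q0 s (w + w') = uO Q0 s w * uO Q0 s w' := by
  rw [uO, uO, uO, H43.eichler_mul (by simp [Qf_apply]) (by simp [polB_Qf]) (by simp [polB_Qf])]
  simp

theorem uO_zero_right (s : Fin m → F) : uO Q0 s (0 : Fin δ → F) = 1 :=
  H43.eichler_zero (by simp [Qf_apply])

theorem uO_smul (s : Fin m → F) (c : F) (w : Fin δ → F) : uO Q0 (c • s) w = uO Q0 s (c • w) := by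
  refine orth_ext fun v => ?_
  obtain ⟨x, y, z⟩ := v
  simp only [uO_apply, smul_dotProduct, smul_eq_mul, map_smul, H43.qmap_smul, smul_smul,
    Prod.mk.injEq, true_and]
  exact ⟨by ring_nf, by rw [mul_comm]⟩

theorem uO_zero_left (w : Fin δ → F) : uO Q0 (0 : Fin m → F) w = 1 := by
  have h := uO_smul Q0 (0 : Fin m → F) 0 w
  rwa [zero_smul, zero_smul, uO_zero_right] at h

theorem wedge_mulVec (a b y : Fin m → F) :
    (wedge a b).1 *ᵥ y = (b ⬝ᵥ y) • a - (a ⬝ᵥ y) • b := by
  simp [wedge, sub_mulVec, vecMulVec_mulVec]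

theorem wedge_smul (c : F) (a b : Fin m → F) : wedge (c • a) b = wedge a (c • b) :=
  Alt.ext fun i j => by simp [wedge_apply]; ring

theorem uO_add_left (s s' : Fin m → F) (w : Fin δ → F) :
    uO Q0 s w * uO Q0 s' w = zO Q0 (wedge (-Q0 w • s) s') * uO Q0 (s + s') w := by
  refine orth_ext fun v => ?_
  obtain ⟨x, y, z⟩ := v
  rw [orth_mul_apply, orth_mul_apply, uO_apply, uO_apply, uO_apply, zO_apply]
  simp only [wedge_mulVec, map_add, map_smul, LinearMap.add_apply, LinearMap.smul_apply,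
    smul_dotProduct, add_dotProduct, smul_eq_mul, H43.polB_self, Prod.mk.injEq, true_and]
  exact ⟨by module, by module⟩

theorem uO_comm (s s' : Fin m → F) (w w' : Fin δ → F) :
    uO Q0 s w * uO Q0 s' w' =
      zO Q0 (wedge (-polB Q0 w w' • s) s') * (uO Q0 s' w' * uO Q0 s w) := by
  refine orth_ext fun v => ?_
  obtain ⟨x, y, z⟩ := v
  rw [orth_mul_apply, orth_mul_apply, orth_mul_apply, uO_apply, uO_apply, uO_apply, uO_apply,
    zO_apply]
  simp only [wedge_mulVec, map_add, map_smul, LinearMap.add_apply, LinearMap.smul_apply,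
    smul_dotProduct, smul_eq_mul, H43.polB_comm (Q := Q0) w' w, Prod.mk.injEq, true_and]
  exact ⟨by module, by module⟩

theorem zO_uO (A : Alt m F) (s : Fin m → F) (w : Fin δ → F) :
    zO Q0 A * uO Q0 s w = uO Q0 s w * zO Q0 A := by
  refine orth_ext fun v => ?_
  obtain ⟨x, y, z⟩ := v
  simp only [orth_mul_apply, uO_apply, zO_apply, Prod.mk.injEq, true_and, and_true]
  abel

theorem levO_uO (g : GL (Fin m) F) (s : Fin m → F) (w : Fin δ → F) :
    levO Q0 g * uO Q0 s w = uO Q0 (g.1 *ᵥ s) w * levO Q0 g := by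
  refine orth_ext fun v => ?_
  obtain ⟨x, y, z⟩ := v
  have hd : (g.1 *ᵥ s) ⬝ᵥ ((g⁻¹.1)ᵀ *ᵥ y) = s ⬝ᵥ y := by
    rw [dotProduct_mulVec, vecMul_transpose, mulVec_mulVec, Units.inv_mul, one_mulVec]
  simp only [orth_mul_apply, uO_apply, levO_apply, hd, mulVec_sub, mulVec_smul]

def flipLin (S : Fin m → Bool) : Sp m δ F →ₗ[F] Sp m δ F where
  toFun v := (fun i => if S i then v.2.1 i else v.1 i, fun i => if S i then v.1 i else v.2.1 i, v.2.2)
  map_add' u v := by
    refine Prod.ext (funext fun i => ?_) (Prod.ext (funext fun i => ?_) rfl) <;>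
      simp only [Prod.fst_add, Prod.snd_add, Pi.add_apply] <;> split_ifs <;> rfl
  map_smul' c v := by
    refine Prod.ext (funext fun i => ?_) (Prod.ext (funext fun i => ?_) rfl) <;>
      simp only [Prod.smul_fst, Prod.smul_snd, Pi.smul_apply, RingHom.id_apply] <;> split_ifs <;> rfl

theorem flipLin_involutive (S : Fin m → Bool) : Function.Involutive (flipLin (δ := δ) (F := F) S) := by
  intro v
  refine Prod.ext (funext fun i => ?_) (Prod.ext (funext fun i => ?_) rfl) <;>
    simp only [flipLin, LinearMap.coe_mk, AddHom.coe_mk] <;> split_ifs <;> rfl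

/-- the exchange as an isometry -/
noncomputable def flipO (S : Fin m → Bool) : OO m Q0 :=
  ⟨LinearEquiv.ofInvolutive (flipLin S) (flipLin_involutive S), fun v => by
    obtain ⟨x, y, w⟩ := v
    show Qf m Q0 (_, _, w) = _
    rw [Qf_apply, Qf_apply]
    congr 1
    simp only [dotProduct]
    exact Finset.sum_congr rfl fun i _ => by split_ifs <;> ring⟩

theorem flipO_apply (S : Fin m → Bool) (x y : Fin m → F) (w : Fin δ → F) :
    (flipO Q0 S).1 (x, y, w) =
      (fun i => if S i then y i else x i, fun i => if S i then x i else y i, w) := rfl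

theorem flipO_inv (S : Fin m → Bool) : (flipO Q0 S)⁻¹ = flipO Q0 S :=
  inv_eq_of_mul_eq_one_left (orth_ext fun v => flipLin_involutive S v)

/-- an invertible diagonal matrix -/
def dgGL (d : Fin m → Fˣ) : GL (Fin m) F :=
  ⟨diagonal fun i => (d i : F), diagonal fun i => ((d i)⁻¹ : Fˣ).1,
    by simp [diagonal_mul_diagonal], by simp [diagonal_mul_diagonal]⟩

theorem dgGL_mul (d e : Fin m → Fˣ) : dgGL (d * e) = dgGL d * dgGL e :=
  Units.ext (by simp [dgGL, diagonal_mul_diagonal])

/-- flipping the sign of exponents -/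
def flipU (S : Fin m → Bool) (d : Fin m → Fˣ) : Fin m → Fˣ := fun i => if S i then (d i)⁻¹ else d i

theorem flipO_dg (S : Fin m → Bool) (d : Fin m → Fˣ) :
    flipO Q0 S * levO Q0 (dgGL d) = levO Q0 (dgGL (flipU S d)) * flipO Q0 S := by
  refine orth_ext fun v => ?_
  obtain ⟨x, y, w⟩ := v
  simp only [orth_mul_apply, flipO_apply, levO_apply, Prod.mk.injEq, and_true]
  refine ⟨funext fun i => ?_, funext fun i => ?_⟩ <;>
    by_cases h : S i <;> simp [dgGL, flipU, mulVec_diagonal, h]

/-! ### membership in the derived group -/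

theorem comm_mem (a b : OO m Q0) : ⁅a, b⁆ ∈ GG m Q0 := by
  rw [GG, commutator_def]
  exact Subgroup.commutator_mem_commutator (Subgroup.mem_top _) (Subgroup.mem_top _)

/-- a transvection -/
def tvG {i j : Fin m} (hij : i ≠ j) (t : F) : GL (Fin m) F :=
  ⟨Matrix.transvection i j t, Matrix.transvection i j (-t),
    by rw [Matrix.transvection_mul_transvection_same _ _ hij, add_neg_cancel, transvection_zero],
    by rw [Matrix.transvection_mul_transvection_same _ _ hij, neg_add_cancel, transvection_zero]⟩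

theorem tvG_val {i j : Fin m} (hij : i ≠ j) (t : F) :
    (tvG hij t).1 = Matrix.transvection i j t := rfl

theorem tvG_inv {i j : Fin m} (hij : i ≠ j) (t : F) : (tvG hij t)⁻¹ = tvG hij (-t) :=
  Units.ext rfl

theorem transvection_mulVec (i j : Fin m) (t : F) (v : Fin m → F) :
    Matrix.transvection i j t *ᵥ v = v + Pi.single i (t * v j) := by
  rw [Matrix.transvection, add_mulVec, one_mulVec, Matrix.single_mulVec]
  congr 1

theorem exists_ne_ne (hm : 3 ≤ m) (i j : Fin m) : ∃ k, k ≠ i ∧ k ≠ j := by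
  obtain ⟨k, hk⟩ : ((Finset.univ : Finset (Fin m)) \ {i, j}).Nonempty := by
    rw [← Finset.card_pos]
    have := Finset.le_card_sdiff ({i, j} : Finset (Fin m)) Finset.univ
    have := Finset.card_le_two (a := i) (b := j)
    rw [Finset.card_univ, Fintype.card_fin] at *
    omega
  simp only [Finset.mem_sdiff, Finset.mem_univ, true_and, Finset.mem_insert,
    Finset.mem_singleton, not_or] at hk
  exact ⟨k, hk⟩

theorem zO_wedge_mem (hm : 3 ≤ m) (i j : Fin m) (s t : F) :
    zO Q0 (wedge (Pi.single i s) (Pi.single j t)) ∈ GG m Q0 := by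
  obtain ⟨k, hki, hkj⟩ := exists_ne_ne hm i j
  have h : zO Q0 (wedge (Pi.single i s) (Pi.single j t)) =
      ⁅levO Q0 (tvG (Ne.symm hki) s), zO Q0 (wedge (Pi.single k (1 : F)) (Pi.single j t))⁆ := by
    rw [commutatorElement_def, levO_zO, mul_inv_cancel_right, zO_inv, ← zO_add, cong_wedge,
      tvG_val, transvection_mulVec, transvection_mulVec, Pi.single_eq_same,
      Pi.single_eq_of_ne hkj, mul_zero, Pi.single_zero, add_zero, mul_one]
    congr 1
    refine Alt.ext fun a b => ?_
    simp only [AddSubgroup.coe_add, AddSubgroup.coe_neg, Matrix.add_apply, Matrix.neg_apply,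
      wedge_apply, Pi.add_apply]
    ring
  rw [h]; exact comm_mem Q0 _ _

theorem wedge_sum (i : Fin m) (s : F) (f : Fin m → F) :
    wedge (Pi.single i s) f = ∑ j, wedge (Pi.single i s) (Pi.single j (f j)) := by
  refine Alt.ext fun a b => ?_
  rw [AddSubgroup.val_finsetSum, Matrix.sum_apply]
  simp only [wedge_apply, Finset.sum_sub_distrib, ← Finset.mul_sum, ← Finset.sum_mul,
    Finset.sum_pi_single, Finset.mem_univ, if_true]

theorem zO_mem (hm : 3 ≤ m) (A : Alt m F) : zO Q0 A ∈ GG m Q0 := by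
  let H : AddSubgroup (Alt m F) :=
    { carrier := {A | zO Q0 A ∈ GG m Q0}
      add_mem' := fun {a b} ha hb => by
        show zO Q0 (a + b) ∈ GG m Q0
        rw [zO_add]; exact mul_mem ha hb
      zero_mem' := by
        show zO Q0 (0 : Alt m F) ∈ GG m Q0
        rw [zO_zero]; exact one_mem _
      neg_mem' := fun {a} ha => by
        show zO Q0 (-a) ∈ GG m Q0
        rw [← zO_inv]; exact inv_mem ha }
  have hA : A = ∑ i, wedge (Pi.single i (1 : F)) (up A i) := by
    refine Alt.ext fun a b => ?_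
    rw [AddSubgroup.val_finsetSum, Matrix.sum_apply]
    simp only [wedge_apply, Finset.sum_sub_distrib, Pi.single_apply, ite_mul, mul_ite, one_mul,
      zero_mul, mul_zero, mul_one, Finset.sum_ite_eq, Finset.mem_univ, if_true]
    exact congrFun (congrFun (up_sub A).symm a) b
  show A ∈ H
  rw [hA]
  refine sum_mem fun i _ => ?_
  rw [wedge_sum]
  exact sum_mem fun j _ => zO_wedge_mem Q0 hm i j _ _

theorem uO_single_mem (hm : 3 ≤ m) (i : Fin m) (t : F) (w : Fin δ → F) :
    uO Q0 (Pi.single i t) w ∈ GG m Q0 := by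
  obtain ⟨k, hk, -⟩ := exists_ne_ne hm i i
  have h : ⁅levO Q0 (tvG (Ne.symm hk) t), uO Q0 (Pi.single k (1 : F)) w⁆ ∈ GG m Q0 :=
    comm_mem Q0 _ _
  rw [commutatorElement_def, levO_uO, mul_inv_cancel_right, tvG_val, transvection_mulVec,
    Pi.single_eq_same, mul_one, add_comm] at h
  have h2 := uO_add_left Q0 (Pi.single i t) (Pi.single k (1 : F)) w
  have h3 : uO Q0 (Pi.single i t + Pi.single k (1 : F)) w =
      (zO Q0 (wedge (-Q0 w • Pi.single i t) (Pi.single k 1)))⁻¹ *
        (uO Q0 (Pi.single i t) w * uO Q0 (Pi.single k 1) w) := by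
    rw [h2, inv_mul_cancel_left]
  rw [h3, mul_assoc, mul_assoc, mul_inv_cancel, mul_one] at h
  have h4 := mul_mem (zO_mem Q0 hm (wedge (-Q0 w • Pi.single i t) (Pi.single k 1))) h
  rwa [mul_inv_cancel_left] at h4

theorem uO_mem (hm : 3 ≤ m) (s : Fin m → F) (w : Fin δ → F) : uO Q0 s w ∈ GG m Q0 := by
  rw [← Finset.univ_sum_single s]
  induction (Finset.univ : Finset (Fin m)) using Finset.induction_on with
  | empty => rw [Finset.sum_empty, uO_zero_left]; exact one_mem _
  | insert a t ha ih =>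
    rw [Finset.sum_insert ha]
    have h := uO_add_left Q0 (Pi.single a (s a)) (∑ x ∈ t, Pi.single x (s x)) w
    have hp := mul_mem (uO_single_mem Q0 hm a (s a) w) ih
    rw [h] at hp
    have := mul_mem (inv_mem (zO_mem Q0 hm (wedge (-Q0 w • Pi.single a (s a))
      (∑ x ∈ t, Pi.single x (s x))))) hp
    rwa [inv_mul_cancel_left] at this

/-- `lev` on the special linear group -/
noncomputable def levSO : SpecialLinearGroup (Fin m) F →* OO m Q0 :=
  (levO Q0).comp SpecialLinearGroup.toGL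

theorem toGL_transvection {i j : Fin m} (hij : i ≠ j) (t : F) :
    SpecialLinearGroup.toGL (SpecialLinearGroup.transvection hij t) = tvG hij t :=
  Units.ext rfl

theorem levSO_mem (hm : 3 ≤ m) (g : SpecialLinearGroup (Fin m) F) : levSO Q0 g ∈ GG m Q0 := by
  have : (GG m Q0).comap (levSO Q0) = ⊤ := by
    refine H37.eq_top_of_transvection_mem _ fun i j hij c => ?_
    obtain ⟨k, hki, hkj⟩ := exists_ne_ne hm i j
    show levSO Q0 _ ∈ GG m Q0
    have h : tvG hij c = ⁅tvG (Ne.symm hki) c, tvG hkj (1 : F)⁆ := by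
      apply Units.ext
      simp only [commutatorElement_def, tvG_inv, Units.val_mul, tvG_val]
      rw [Matrix.transvection, Matrix.transvection, Matrix.transvection, Matrix.transvection,
        Matrix.transvection]
      simp [mul_add, add_mul, Matrix.single_mul_single_same,
        Matrix.single_mul_single_of_ne, hij, hij.symm, hki, hki.symm, hkj, hkj.symm]
      ext a b
      simp only [Matrix.add_apply, Matrix.neg_apply, Matrix.single_apply, Matrix.one_apply]
      split_ifs <;> ring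
    rw [levSO, MonoidHom.comp_apply, toGL_transvection, h, map_commutatorElement]
    exact comm_mem Q0 _ _
  have hg : g ∈ (GG m Q0).comap (levSO Q0) := by rw [this]; exact Subgroup.mem_top g
  exact hg

theorem levO_sq_mem (i : Fin m) (a : Fˣ) :
    levO Q0 (dgGL (Pi.mulSingle i (a * a))) ∈ GG m Q0 := by
  have h : ⁅levO Q0 (dgGL (Pi.mulSingle i a)), flipO Q0 (fun j => decide (j = i))⁆ ∈ GG m Q0 :=
    comm_mem Q0 _ _
  have hd : flipU (fun j => decide (j = i)) (Pi.mulSingle i a)⁻¹ = Pi.mulSingle i a := by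
    funext j
    by_cases hj : j = i
    · subst hj; simp [flipU]
    · simp [flipU, hj, Pi.mulSingle_eq_of_ne hj]
  have hinv : (dgGL (Pi.mulSingle i a))⁻¹ = dgGL (Pi.mulSingle i a)⁻¹ := by
    refine inv_eq_of_mul_eq_one_right ?_
    rw [← dgGL_mul, mul_inv_cancel]
    exact Units.ext (by simp [dgGL])
  rw [commutatorElement_def, ← map_inv, hinv, flipO_inv, mul_assoc _ (flipO Q0 _) (levO Q0 _),
    flipO_dg, hd, ← mul_assoc, mul_assoc (levO Q0 _ * levO Q0 _), ← map_mul,
    show flipO Q0 (fun j => decide (j = i)) * flipO Q0 (fun j => decide (j = i)) = 1 from by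
      conv_lhs => arg 2; rw [← flipO_inv]
      rw [mul_inv_cancel],
    mul_one, ← dgGL_mul] at h
  convert h using 4
  rw [← Pi.mulSingle_mul]

theorem flipO_pair_mem (i k : Fin m) (hik : i ≠ k) :
    flipO Q0 (fun j => decide (j = i ∨ j = k)) ∈ GG m Q0 := by
  let P : GL (Fin m) F :=
    ⟨(Equiv.swap i k).toPEquiv.toMatrix, (Equiv.swap i k).toPEquiv.toMatrix,
      by rw [← PEquiv.toMatrix_trans, ← Equiv.toPEquiv_trans]; simp,
      by rw [← PEquiv.toMatrix_trans, ← Equiv.toPEquiv_trans]; simp⟩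
  have hP : ∀ v : Fin m → F, P.1 *ᵥ v = v ∘ (Equiv.swap i k) := fun v => by
    funext x; simp [P, mulVec, dotProduct, PEquiv.toMatrix_apply, Equiv.toPEquiv_apply]
  have hPi : ∀ v : Fin m → F, (P⁻¹.1)ᵀ *ᵥ v = v ∘ (Equiv.swap i k) := fun v => by
    funext x
    simp [P, mulVec, dotProduct, PEquiv.toMatrix_apply, Equiv.toPEquiv_apply,
      Equiv.swap_apply_eq_iff]
  have hPinv : ∀ v : Fin m → F, P⁻¹.1 *ᵥ v = v ∘ (Equiv.swap i k) := hP
  have hPT : ∀ v : Fin m → F, P.1ᵀ *ᵥ v = v ∘ (Equiv.swap i k) := hPi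
  have h : flipO Q0 (fun j => decide (j = i ∨ j = k)) =
      ⁅flipO Q0 (fun j => decide (j = i)), levO Q0 P⁆ := by
    refine orth_ext fun v => ?_
    obtain ⟨x, y, w⟩ := v
    rw [commutatorElement_def, flipO_inv, ← map_inv]
    simp only [orth_mul_apply, flipO_apply, levO_apply, hP, hPi, hPinv, inv_inv, hPT,
      Prod.mk.injEq, and_true]
    refine ⟨funext fun j => ?_, funext fun j => ?_⟩ <;>
    · simp only [Function.comp_apply, decide_eq_true_eq, Equiv.swap_apply_def]
      split_ifs <;> simp_all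
  rw [h]; exact comm_mem Q0 _ _

end H19.OM
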