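import Cfsg.Agent.H19.OM.Spec
import Cfsg.Agent.H19.OM.Frame
import Cfsg.Agent.H40.FixedVec

/-!
# Representations of the derived orthogonal group, restricted to the Siegel parabolic
-/

set_option autoImplicit false
set_option linter.unusedSectionVars false

namespace H19.OM

open Module Matrix H50.LS
open H43 (polB)

variable {F : Type*} [Field F] [Fintype F] {k δ : ℕ} (Q0 : QuadraticForm F (Fin δ → F))

/-- `z A` in the derived group -/
noncomputable def gz (A : Alt (k + 3) F) : GG (k + 3) Q0 := ⟨zO Q0 A, zO_mem Q0 (by omega) A⟩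

/-- `u s w` in the derived group -/
noncomputable def gu (s : Fin (k + 3) → F) (w : Fin δ → F) : GG (k + 3) Q0 :=
  ⟨uO Q0 s w, uO_mem Q0 (by omega) s w⟩

/-- the special linear Levi in the derived group -/
noncomputable def gl : SpecialLinearGroup (Fin (k + 3)) F →* GG (k + 3) Q0 :=
  (levSO Q0).codRestrict _ (levSO_mem Q0 (by omega))

/-- the diagonal element with a square at one place -/
noncomputable def gd (i : Fin (k + 3)) (a : Fˣ) : GG (k + 3) Q0 :=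
  ⟨levO Q0 (dgGL (Pi.mulSingle i (a * a))), levO_sq_mem Q0 i a⟩

theorem gz_add (A B : Alt (k + 3) F) : gz Q0 (A + B) = gz Q0 A * gz Q0 B := Subtype.ext (zO_add Q0 A B)

theorem gz_zero : gz Q0 (0 : Alt (k + 3) F) = 1 := Subtype.ext (zO_zero Q0)

theorem gu_add_right (s : Fin (k + 3) → F) (w w' : Fin δ → F) :
    gu Q0 s (w + w') = gu Q0 s w * gu Q0 s w' := Subtype.ext (uO_add_right Q0 s w w')

theorem gu_zero_right (s : Fin (k + 3) → F) : gu Q0 s 0 = 1 := Subtype.ext (uO_zero_right Q0 s)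

theorem gu_smul (s : Fin (k + 3) → F) (c : F) (w : Fin δ → F) :
    gu Q0 (c • s) w = gu Q0 s (c • w) := Subtype.ext (uO_smul Q0 s c w)

theorem gu_add_left (s s' : Fin (k + 3) → F) (w : Fin δ → F) :
    gu Q0 s w * gu Q0 s' w = gz Q0 (wedge (-Q0 w • s) s') * gu Q0 (s + s') w :=
  Subtype.ext (uO_add_left Q0 s s' w)

theorem gu_comm (s s' : Fin (k + 3) → F) (w w' : Fin δ → F) :
    gu Q0 s w * gu Q0 s' w' =
      gz Q0 (wedge (-polB Q0 w w' • s) s') * (gu Q0 s' w' * gu Q0 s w) :=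
  Subtype.ext (uO_comm Q0 s s' w w')

theorem gz_gu (A : Alt (k + 3) F) (s : Fin (k + 3) → F) (w : Fin δ → F) :
    gz Q0 A * gu Q0 s w = gu Q0 s w * gz Q0 A := Subtype.ext (zO_uO Q0 A s w)

/-- `t` lies in the Levi with matrix `g` -/
def IsLev (t : GG (k + 3) Q0) (g : GL (Fin (k + 3)) F) : Prop := t.1 = levO Q0 g

theorem isLev_gl (g : SpecialLinearGroup (Fin (k + 3)) F) :
    IsLev Q0 (gl Q0 g) (SpecialLinearGroup.toGL g) := rfl

theorem isLev_gd (i : Fin (k + 3)) (a : Fˣ) :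
    IsLev Q0 (gd Q0 i a) (dgGL (Pi.mulSingle i (a * a))) := rfl

variable {Q0}

theorem IsLev.inv {t : GG (k + 3) Q0} {g : GL (Fin (k + 3)) F} (h : IsLev Q0 t g) :
    IsLev Q0 t⁻¹ g⁻¹ := by
  show (t⁻¹ : GG (k + 3) Q0).1 = levO Q0 g⁻¹
  rw [Subgroup.coe_inv, h, map_inv]

theorem IsLev.mul_gz {t : GG (k + 3) Q0} {g : GL (Fin (k + 3)) F} (h : IsLev Q0 t g)
    (A : Alt (k + 3) F) : t * gz Q0 A = gz Q0 (cong g.1 A) * t := by
  apply Subtype.ext
  show t.1 * zO Q0 A = zO Q0 (cong g.1 A) * t.1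
  rw [h, levO_zO]

theorem IsLev.mul_gu {t : GG (k + 3) Q0} {g : GL (Fin (k + 3)) F} (h : IsLev Q0 t g)
    (s : Fin (k + 3) → F) (w : Fin δ → F) : t * gu Q0 s w = gu Q0 (g.1 *ᵥ s) w * t := by
  apply Subtype.ext
  show t.1 * uO Q0 s w = uO Q0 (g.1 *ᵥ s) w * t.1
  rw [h, levO_uO]

variable {V : Type*} [AddCommGroup V] [Module ℂ V]
variable (ρ : GG (k + 3) Q0 →* Module.End ℂ V)

/-- the root subgroup `Z` in the representation -/
noncomputable def Zr : Multiplicative (Alt (k + 3) F) →* Module.End ℂ V where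
  toFun A := ρ (gz Q0 A.toAdd)
  map_one' := by rw [toAdd_one, gz_zero, map_one]
  map_mul' A B := by rw [toAdd_mul, gz_add, map_mul]

theorem Zr_apply (A : Alt (k + 3) F) : Zr ρ (Multiplicative.ofAdd A) = ρ (gz Q0 A) := rfl

/-- the eigenspace of a bivector -/
noncomputable def Vw (ω : Alt (k + 3) F) : Submodule ℂ V := eigSp (Zr ρ) (chr ω)

/-- its dimension -/
noncomputable def eV (ω : Alt (k + 3) F) : ℕ := finrank ℂ (Vw ρ ω)

theorem mem_Vw {ω : Alt (k + 3) F} {x : V} :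
    x ∈ Vw ρ ω ↔ ∀ A, ρ (gz Q0 A) x = chr ω A • x := Iff.rfl

theorem gz_apply {ω : Alt (k + 3) F} {x : V} (hx : x ∈ Vw ρ ω) (A : Alt (k + 3) F) :
    ρ (gz Q0 A) x = chr ω A • x := hx A

theorem rho_inv_mul (t : GG (k + 3) Q0) : ρ t⁻¹ * ρ t = 1 := by
  rw [← map_mul, inv_mul_cancel, map_one]

theorem gu_mem {ω : Alt (k + 3) F} {x : V} (hx : x ∈ Vw ρ ω) (s : Fin (k + 3) → F)
    (w : Fin δ → F) : ρ (gu Q0 s w) x ∈ Vw ρ ω := fun A => by
  show ρ (gz Q0 A) (ρ (gu Q0 s w) x) = _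
  rw [← Module.End.mul_apply, ← map_mul, gz_gu, map_mul, Module.End.mul_apply, gz_apply ρ hx,
    map_smul]

theorem lev_mem {t : GG (k + 3) Q0} {g : GL (Fin (k + 3)) F} (h : IsLev Q0 t g)
    {ω : Alt (k + 3) F} {x : V} (hx : x ∈ Vw ρ ω) :
    ρ t x ∈ Vw ρ (cong (g⁻¹.1)ᵀ ω) := by
  refine eigSp_map (Zr ρ) (σ := cong g⁻¹.1) (fun A => ?_) (fun A => (chr_cong ω A g⁻¹.1).symm) hx
  rw [Zr_apply, Zr_apply, ← map_mul, ← map_mul, h.mul_gz, ← cong_mul, Units.mul_inv, cong_one]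

theorem eV_cong_le [FiniteDimensional ℂ V] {t : GG (k + 3) Q0} {g : GL (Fin (k + 3)) F}
    (h : IsLev Q0 t g) (ω : Alt (k + 3) F) : eV ρ ω ≤ eV ρ (cong (g⁻¹.1)ᵀ ω) :=
  finrank_le_of_map (rho_inv_mul ρ t) fun _ hx => lev_mem ρ h hx

theorem eV_cong [FiniteDimensional ℂ V] {t : GG (k + 3) Q0} {g : GL (Fin (k + 3)) F}
    (h : IsLev Q0 t g) (ω : Alt (k + 3) F) : eV ρ (cong (g⁻¹.1)ᵀ ω) = eV ρ ω := by
  refine le_antisymm ?_ (eV_cong_le ρ h ω)
  refine (eV_cong_le ρ h.inv (cong (g⁻¹.1)ᵀ ω)).trans (le_of_eq ?_)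
  rw [inv_inv, ← cong_mul, ← Matrix.transpose_mul, Units.inv_mul, Matrix.transpose_one, cong_one]

theorem eV_cong_sl [FiniteDimensional ℂ V] (h : SpecialLinearGroup (Fin (k + 3)) F)
    (ω : Alt (k + 3) F) : eV ρ (cong h.1 ω) = eV ρ ω := by
  have h1 := eV_cong ρ (isLev_gl Q0 (h.transpose)⁻¹) ω
  rw [← map_inv, inv_inv] at h1
  have h2 : ((SpecialLinearGroup.toGL h.transpose).1)ᵀ = h.1 := Matrix.transpose_transpose _
  rwa [h2] at h1

theorem eV_cong_diag [FiniteDimensional ℂ V] (i : Fin (k + 3)) (a : Fˣ) (ω : Alt (k + 3) F) :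
    eV ρ (cong (diagonal fun j => ((Pi.mulSingle i (a * a) : Fin (k + 3) → Fˣ) j : F)) ω) =
      eV ρ ω := by
  have h1 := eV_cong ρ (isLev_gd Q0 i a).inv ω
  rw [inv_inv] at h1
  simpa [dgGL] using h1

theorem mem_Vw_iff_cong {t : GG (k + 3) Q0} {g : GL (Fin (k + 3)) F} (h : IsLev Q0 t g)
    {ω : Alt (k + 3) F} (hω : cong (g⁻¹.1)ᵀ ω = ω) {x : V} (hx : x ∈ Vw ρ ω) :
    ρ t x ∈ Vw ρ ω := by
  have := lev_mem ρ h hx
  rwa [hω] at this

theorem sum_eV_le [FiniteDimensional ℂ V] (S : Finset (Alt (k + 3) F)) :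
    ∑ ω ∈ S, eV ρ ω ≤ finrank ℂ V := by
  classical
  have h := sum_finset_le (Zr ρ) (S.image chr)
  rwa [Finset.sum_image fun a _ b _ hab => chr_bijective.1 hab] at h

theorem sum_eV [FiniteDimensional ℂ V] : ∑ ω : Alt (k + 3) F, eV ρ ω = finrank ℂ V := by
  rw [← sum_finrank_eigSp (Zr ρ)]
  exact Fintype.sum_equiv (Equiv.ofBijective _ chr_bijective) _ _ fun _ => rfl

/-- `chr ω` at a wedge -/
theorem chr_wedge (ω : Alt (k + 3) F) (a b : Fin (k + 3) → F) :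
    chr ω (wedge a b) = H40.MinDeg.psi F (∑ i, ∑ j, a i * ω.1 i j * b j) := by
  rw [chr_apply, pr_wedge]

/-- the value of `ω` on two vectors -/
def ev (ω : Alt (k + 3) F) (a b : Fin (k + 3) → F) : F := ∑ i, ∑ j, a i * ω.1 i j * b j

theorem ev_smul_left (ω : Alt (k + 3) F) (c : F) (a b : Fin (k + 3) → F) :
    ev ω (c • a) b = c * ev ω a b := by
  simp only [ev, Pi.smul_apply, smul_eq_mul, Finset.mul_sum, mul_assoc]

theorem ev_single (ω : Alt (k + 3) F) (i j : Fin (k + 3)) (s t : F) :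
    ev ω (Pi.single i s) (Pi.single j t) = s * t * ω.1 i j := by
  rw [ev, ← pr_wedge, pr_wedge_single]

theorem ev_eq_zero_of_row {ω : Alt (k + 3) F} {i : Fin (k + 3)} (h : ω.1 i = 0) (s : F)
    (b : Fin (k + 3) → F) : ev ω (Pi.single i s) b = 0 := by
  rw [ev, Finset.sum_eq_single i (fun j _ hj => by simp [Pi.single_eq_of_ne hj]) (by simp)]
  simp [h]

theorem ev_swap (ω : Alt (k + 3) F) (a b : Fin (k + 3) → F) : ev ω b a = -ev ω a b := by
  rw [ev, ev, Finset.sum_comm, ← Finset.sum_neg_distrib]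
  refine Finset.sum_congr rfl fun i _ => ?_
  rw [← Finset.sum_neg_distrib]
  exact Finset.sum_congr rfl fun j _ => by rw [Alt.sk ω i j]; ring

/-! ### The Heisenberg splitting -/

theorem gu_comm_apply {ω : Alt (k + 3) F} {x : V} (hx : x ∈ Vw ρ ω)
    (s s' : Fin (k + 3) → F) (w w' : Fin δ → F) :
    ρ (gu Q0 s w) (ρ (gu Q0 s' w') x) =
      H40.MinDeg.psi F (-polB Q0 w w' * ev ω s s') • ρ (gu Q0 s' w') (ρ (gu Q0 s w) x) := by
  rw [← Module.End.mul_apply, ← map_mul, gu_comm, map_mul, map_mul, Module.End.mul_apply,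
    Module.End.mul_apply, gz_apply ρ (gu_mem ρ (gu_mem ρ hx s w) s' w'), chr_wedge]
  congr 2
  rw [← ev, ev_smul_left]

/-- the vectors of `U` fixed by all `u(s, ·)` -/
noncomputable def uFix (U : Submodule ℂ V) (s : Fin (k + 3) → F) : Submodule ℂ V where
  carrier := {x | x ∈ U ∧ ∀ w, ρ (gu Q0 s w) x = x}
  add_mem' {x y} hx hy := ⟨add_mem hx.1 hy.1, fun w => by rw [map_add, hx.2, hy.2]⟩
  zero_mem' := ⟨zero_mem _, fun _ => map_zero _⟩
  smul_mem' c x hx := ⟨Submodule.smul_mem _ c hx.1, fun w => by rw [map_smul, hx.2]⟩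

theorem mem_uFix {U : Submodule ℂ V} {s : Fin (k + 3) → F} {x : V} :
    x ∈ uFix ρ U s ↔ x ∈ U ∧ ∀ w, ρ (gu Q0 s w) x = x := Iff.rfl

/-- the action of `u(s, ·)` on an invariant subspace -/
noncomputable def uRep (U : Submodule ℂ V) (s : Fin (k + 3) → F)
    (hU : ∀ w, ∀ x ∈ U, ρ (gu Q0 s w) x ∈ U) :
    Multiplicative (Fin δ → F) →* Module.End ℂ U where
  toFun w := (ρ (gu Q0 s w.toAdd)).restrict (hU w.toAdd)
  map_one' := LinearMap.ext fun x => Subtype.ext (by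
    show ρ (gu Q0 s 0) x.1 = x.1
    rw [gu_zero_right, map_one, Module.End.one_apply])
  map_mul' v w := LinearMap.ext fun x => Subtype.ext (by
    show ρ (gu Q0 s (v.toAdd + w.toAdd)) x.1 = ρ (gu Q0 s v.toAdd) (ρ (gu Q0 s w.toAdd) x.1)
    rw [gu_add_right, map_mul, Module.End.mul_apply])

theorem uRep_apply (U : Submodule ℂ V) (s : Fin (k + 3) → F)
    (hU : ∀ w, ∀ x ∈ U, ρ (gu Q0 s w) x ∈ U) (w : Fin δ → F) (x : U) :
    ((uRep ρ U s hU (Multiplicative.ofAdd w) x : U) : V) = ρ (gu Q0 s w) x.1 := rfl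

theorem eigSp_uRep_zero (U : Submodule ℂ V) (s : Fin (k + 3) → F)
    (hU : ∀ w, ∀ x ∈ U, ρ (gu Q0 s w) x ∈ U) :
    (eigSp (uRep ρ U s hU) 0).map U.subtype = uFix ρ U s := by
  ext x
  constructor
  · rintro ⟨y, hy, rfl⟩
    exact ⟨y.2, fun w => congrArg Subtype.val (mem_eigSp_zero.1 hy w)⟩
  · rintro ⟨hxU, hx⟩
    exact ⟨⟨x, hxU⟩, mem_eigSp_zero.2 fun w => Subtype.ext (hx w), rfl⟩

variable (hQ0 : (polB Q0).Nondegenerate)

include hQ0 in
/-- the shifts realise every character -/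
theorem exists_shift (θ : AddChar (Fin δ → F) ℂ) :
    ∃ b, ∀ a, θ a = H40.MinDeg.psi F (-polB Q0 a b) := by
  classical
  let f : (Fin δ → F) → AddChar (Fin δ → F) ℂ := fun b =>
    (H40.MinDeg.psi F).compAddMonoidHom
      { toFun := fun a => -polB Q0 a b, map_zero' := by simp,
        map_add' := fun a a' => by simp [add_comm] }
  have hinj : Function.Injective f := by
    intro b b' h
    by_contra hne
    have h0 : b - b' ≠ 0 := sub_ne_zero.2 hne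
    obtain ⟨a, ha⟩ := H43.exists_polB_ne_zero hQ0 h0
    apply psi_isPrimitive (F := F) ha
    refine DFunLike.ext _ _ fun x => ?_
    rw [AddChar.mulShift_apply, AddChar.one_apply]
    have h1 : H40.MinDeg.psi F (-polB Q0 (-x • a) b) = H40.MinDeg.psi F (-polB Q0 (-x • a) b') :=
      DFunLike.congr_fun h (-x • a)
    rw [map_smul, LinearMap.smul_apply, LinearMap.smul_apply, smul_eq_mul, smul_eq_mul] at h1
    rw [H43.polB_comm, map_sub, show (polB Q0 a b - polB Q0 a b') * x =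
      -(-x * polB Q0 a b) - -(-x * polB Q0 a b') by ring, AddChar.map_sub_eq_div, h1,
      div_self (AddChar.val_isUnit _ _).ne_zero]
  have hbij : Function.Bijective f := by
    rw [Fintype.bijective_iff_injective_and_card, AddChar.card_eq]
    exact ⟨hinj, rfl⟩
  obtain ⟨b, hb⟩ := hbij.2 θ
  exact ⟨b, fun a => by rw [← hb]; rfl⟩

include hQ0 in
/-- Heisenberg: all eigenspaces of `u(s, ·)` in `U` are reached from one another. -/
theorem exists_translate {ω : Alt (k + 3) F} {U : Submodule ℂ V} (hUω : U ≤ Vw ρ ω)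
    {s t : Fin (k + 3) → F} (hst : ev ω s t = 1) (hs : ∀ w, ∀ x ∈ U, ρ (gu Q0 s w) x ∈ U)
    (ht : ∀ w, ∀ x ∈ U, ρ (gu Q0 t w) x ∈ U) (θ θ' : AddChar (Fin δ → F) ℂ) :
    ∃ b, ∀ x ∈ eigSp (uRep ρ U s hs) θ, (ρ (gu Q0 t b)).restrict (ht b) x ∈ eigSp (uRep ρ U s hs) θ' := by
  obtain ⟨b, hb⟩ := exists_shift hQ0 (θ⁻¹ * θ')
  refine ⟨b, fun x hx a => Subtype.ext ?_⟩
  show ρ (gu Q0 s a) (ρ (gu Q0 t b) x.1) = θ' a • ρ (gu Q0 t b) x.1
  have hx' : ρ (gu Q0 s a) x.1 = θ a • x.1 := congrArg Subtype.val (hx a)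
  rw [gu_comm_apply ρ (hUω x.2), hst, mul_one, ← hb, hx', map_smul, smul_smul, AddChar.mul_apply,
    AddChar.inv_apply]
  have h1 : θ (-a) * θ a = 1 := by
    rw [← AddChar.map_add_eq_mul, neg_add_cancel, AddChar.map_zero_eq_one]
  congr 1
  linear_combination θ' a * h1

include hQ0 in
theorem finrank_eq_uFix [FiniteDimensional ℂ V] {ω : Alt (k + 3) F} {U : Submodule ℂ V}
    (hUω : U ≤ Vw ρ ω) {s t : Fin (k + 3) → F} (hst : ev ω s t = 1)
    (hs : ∀ w, ∀ x ∈ U, ρ (gu Q0 s w) x ∈ U) (ht : ∀ w, ∀ x ∈ U, ρ (gu Q0 t w) x ∈ U) :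
    finrank ℂ U = Fintype.card F ^ δ * finrank ℂ (uFix ρ U s) := by
  classical
  rw [← eigSp_uRep_zero ρ U s hs, Submodule.finrank_map_subtype_eq,
    ← card_mul_finrank_eigSp (uRep ρ U s hs) ?_ 0, Fintype.card_fun, Fintype.card_fin]
  intro θ θ'
  obtain ⟨b, hb⟩ := exists_translate ρ hQ0 hUω hst hs ht θ θ'
  refine finrank_le_of_map (T := (ρ (gu Q0 t b)).restrict (ht b))
    (T' := (ρ (gu Q0 t (-b))).restrict (ht (-b))) ?_ hb
  refine LinearMap.ext fun x => Subtype.ext ?_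
  show ρ (gu Q0 t (-b)) (ρ (gu Q0 t b) x.1) = x.1
  rw [← Module.End.mul_apply, ← map_mul, ← gu_add_right, neg_add_cancel, gu_zero_right, map_one,
    Module.End.one_apply]

theorem exists_ev_pair {ω : Alt (k + 3) F} (hω : ω ≠ 0) :
    ∃ s t : Fin (k + 3) → F, ev ω s t = 1 := by
  obtain ⟨i, j, hij⟩ : ∃ i j, ω.1 i j ≠ 0 := by
    by_contra h
    push Not at h
    exact hω (Alt.ext h)
  exact ⟨Pi.single i 1, Pi.single j (ω.1 i j)⁻¹, by
    rw [ev_single, one_mul, inv_mul_cancel₀ hij]⟩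

include hQ0 in
theorem card_dvd_eV [FiniteDimensional ℂ V] {ω : Alt (k + 3) F} (hω : ω ≠ 0) :
    ∃ d, eV ρ ω = Fintype.card F ^ δ * d := by
  obtain ⟨s, t, hst⟩ := exists_ev_pair hω
  exact ⟨_, finrank_eq_uFix ρ hQ0 le_rfl hst (fun w _ hx => gu_mem ρ hx s w)
    (fun w _ hx => gu_mem ρ hx t w)⟩

include hQ0 in
/-- An operator commuting with the translations acts as a scalar when the multiplicity is one. -/
theorem scalar_of_commute [FiniteDimensional ℂ V] {ω : Alt (k + 3) F}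
    (hd : eV ρ ω = Fintype.card F ^ δ) {T : Module.End ℂ V} (hT : ∀ x ∈ Vw ρ ω, T x ∈ Vw ρ ω)
    (hω : ω ≠ 0)
    (hc : ∀ i, ∀ c : F, ∀ w, ∀ x ∈ Vw ρ ω,
      T (ρ (gu Q0 (Pi.single i c) w) x) = ρ (gu Q0 (Pi.single i c) w) (T x)) :
    ∃ lam : ℂ, ∀ x ∈ Vw ρ ω, T x = lam • x := by
  classical
  obtain ⟨i, j, hij⟩ : ∃ i j, ω.1 i j ≠ 0 := by
    by_contra h
    push Not at h
    exact hω (Alt.ext h)
  set s : Fin (k + 3) → F := Pi.single i 1
  set t : Fin (k + 3) → F := Pi.single j (ω.1 i j)⁻¹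
  have hst : ev ω s t = 1 := by rw [ev_single, one_mul, inv_mul_cancel₀ hij]
  have hU : ∀ v : Fin (k + 3) → F, ∀ w, ∀ x ∈ Vw ρ ω, ρ (gu Q0 v w) x ∈ Vw ρ ω :=
    fun v w _ hx => gu_mem ρ hx v w
  have h1 : finrank ℂ (uFix ρ (Vw ρ ω) s) = 1 := by
    have h := finrank_eq_uFix ρ hQ0 (le_refl (Vw ρ ω)) hst (hU s) (hU t)
    rw [eV] at hd
    rw [hd] at h
    exact (Nat.mul_eq_left (pow_ne_zero _ Fintype.card_ne_zero)).1 h.symm
  obtain ⟨⟨v, hv⟩, hv0, hspan⟩ := finrank_eq_one_iff'.1 h1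
  have hTv : T v ∈ uFix ρ (Vw ρ ω) s :=
    ⟨hT v hv.1, fun w => by rw [← hc i 1 w v hv.1, hv.2 w]⟩
  obtain ⟨lam, hlam⟩ := hspan ⟨T v, hTv⟩
  have hlam' : lam • v = T v := congrArg Subtype.val hlam
  refine ⟨lam, fun x hx => ?_⟩
  let R := uRep ρ (Vw ρ ω) s (hU s)
  have key : ∀ θ, ∀ y ∈ eigSp R θ, T y.1 = lam • y.1 := by
    intro θ y hy
    obtain ⟨b, hb⟩ := exists_translate ρ hQ0 (le_refl (Vw ρ ω)) hst (hU s) (hU t) θ 0
    set y' : Vw ρ ω := (ρ (gu Q0 t b)).restrict (hU t b) y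
    have hy' : y'.1 ∈ uFix ρ (Vw ρ ω) s :=
      ⟨y'.2, fun w => congrArg Subtype.val (mem_eigSp_zero.1 (hb y hy) w)⟩
    obtain ⟨c, hc'⟩ := hspan ⟨y'.1, hy'⟩
    have hcv : c • v = ρ (gu Q0 t b) y.1 := congrArg Subtype.val hc'
    have hy2 : y.1 = c • ρ (gu Q0 t (-b)) v := by
      rw [← map_smul, hcv, ← Module.End.mul_apply, ← map_mul, ← gu_add_right, neg_add_cancel,
        gu_zero_right, map_one, Module.End.one_apply]
    rw [hy2, map_smul, hc j _ (-b) v hv.1, ← hlam', map_smul, smul_comm lam]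
  have hsum := congrArg Subtype.val (sum_eigProj R (⟨x, hx⟩ : Vw ρ ω))
  simp only [Submodule.coe_sum] at hsum
  calc T x = ∑ θ, T (eigProj R θ (⟨x, hx⟩ : Vw ρ ω)).1 := by rw [← map_sum, hsum]
    _ = ∑ θ, lam • (eigProj R θ (⟨x, hx⟩ : Vw ρ ω)).1 :=
      Finset.sum_congr rfl fun θ _ => key θ _ (eigProj_mem R θ _)
    _ = lam • x := by rw [← Finset.smul_sum, hsum]

end H19.OM
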