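import Cfsg.Agent.H19.OM.Torus
import Cfsg.Agent.H19.OM.Constituent
import Cfsg.Agent.H43.Simple

/-!
# The three possible shapes of a non-trivial representation
-/

set_option autoImplicit false
set_option linter.unusedSectionVars false

namespace H19.OM

open Module Matrix H50.LS
open H43 (polB orthGroup)

variable {F : Type*} [Field F] [Fintype F] [DecidableEq F] {k δ : ℕ}
variable {Q0 : QuadraticForm F (Fin δ → F)}
variable {V : Type*} [AddCommGroup V] [Module ℂ V] [FiniteDimensional ℂ V]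

theorem polB_Qf_nondeg {m : ℕ} (hQ0 : (polB Q0).Nondegenerate) :
    (polB (Qf m Q0)).Nondegenerate := by
  have h : ∀ u : Sp m δ F, (∀ v, polB (Qf m Q0) u v = 0) → u = 0 := by
    rintro ⟨x, y, w⟩ hu
    refine Prod.ext (funext fun i => ?_) (Prod.ext (funext fun i => ?_) ?_)
    · simpa [polB_Qf] using hu (0, Pi.single i 1, 0)
    · simpa [polB_Qf] using hu (Pi.single i 1, 0, 0)
    · exact H43.eq_zero_of_polB_eq_zero hQ0 fun w' => by simpa [polB_Qf] using hu (0, 0, w')
  exact ⟨h, fun v hv => h v fun u => by rw [H43.polB_comm]; exact hv u⟩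

theorem gz_E01_not_central :
    gz Q0 (E01 k F) ∉ Subgroup.center (GG (k + 3) Q0) := by
  intro h
  have h20 : (2 : Fin (k + 3)) ≠ 0 := by
    intro h
    have := congrArg Fin.val h
    simp [Nat.mod_eq_of_lt (show 2 < k + 3 by omega)] at this
  have h21 : (2 : Fin (k + 3)) ≠ 1 := two_ne_one.symm
  set t := gl Q0 (SpecialLinearGroup.transvection h20 (1 : F))
  have ht : IsLev Q0 t (tvG h20 1) := by
    rw [← toGL_transvection]; exact isLev_gl Q0 _
  have h1 := Subgroup.mem_center_iff.1 h t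
  rw [ht.mul_gz, mul_left_inj] at h1
  have h2 : zO Q0 (cong (tvG h20 (1 : F)).1 (E01 k F)) = zO Q0 (E01 k F) := congrArg Subtype.val h1
  have h3 := congrArg (fun g : OO (k + 3) Q0 => (g.1 (0, Pi.single 1 1, 0)).1 2) h2
  simp only [zO_apply, E01, cong_wedge, wedge_mulVec, tvG_val, transvection_mulVec,
    dotProduct_single, Pi.add_apply, Pi.single_apply, Pi.sub_apply, Pi.smul_apply, smul_eq_mul] at h3
  simp [h20, h21, h21.symm] at h3

/-- A non-trivial representation is non-trivial on the radical. -/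
theorem radical_nontrivial (hQ0 : (polB Q0).Nondegenerate)
    (ρ : GG (k + 3) Q0 →* Module.End ℂ V) {g : GG (k + 3) Q0} (hg : ρ g ≠ 1) :
    ρ (gz Q0 (E01 k F)) ≠ 1 := by
  intro h
  have hQ := polB_Qf_nondeg (m := k + 3) hQ0
  have h5 : 5 ≤ finrank F (Sp (k + 3) δ F) := by
    simp only [Sp, finrank_prod, Module.finrank_fin_fun]; omega
  haveI := H43.isSimpleGroup_commutator_quot hQ h5
  have hperf : commutator (GG (k + 3) Q0) = ⊤ := by
    apply Subgroup.map_injective (Subgroup.subtype_injective (GG (k + 3) Q0))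
    rw [← MonoidHom.range_eq_map, Subgroup.range_subtype, commutator_def, Subgroup.map_commutator,
      ← MonoidHom.range_eq_map, Subgroup.range_subtype]
    exact H43.commutator_perfect hQ h5
  let π := QuotientGroup.mk' (Subgroup.center (GG (k + 3) Q0))
  have hN : (ρ.ker.map π).Normal :=
    Subgroup.Normal.map inferInstance π (QuotientGroup.mk'_surjective _)
  rcases hN.eq_bot_or_eq_top with hb | ht
  · refine gz_E01_not_central (F := F) (k := k) (Q0 := Q0) ((QuotientGroup.eq_one_iff _).1 ?_)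
    exact (Subgroup.eq_bot_iff_forall _).1 hb _ ⟨_, MonoidHom.mem_ker.2 h, rfl⟩
  · have hsup : ρ.ker ⊔ Subgroup.center (GG (k + 3) Q0) = ⊤ := by
      have := congrArg (Subgroup.comap π) ht
      rwa [Subgroup.comap_map_eq, QuotientGroup.ker_mk', Subgroup.comap_top] at this
    have hle : commutator (GG (k + 3) Q0) ≤ ρ.ker := by
      rw [commutator_def]
      refine Subgroup.commutator_le.2 fun a _ b _ => ?_
      have ha : a ∈ ρ.ker ⊔ Subgroup.center (GG (k + 3) Q0) := by rw [hsup]; exact Subgroup.mem_top a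
      have hb : b ∈ ρ.ker ⊔ Subgroup.center (GG (k + 3) Q0) := by rw [hsup]; exact Subgroup.mem_top b
      obtain ⟨a1, ha1, za, hza, rfl⟩ := Subgroup.mem_sup_of_normal_right.1 ha
      obtain ⟨b1, hb1, zb, hzb, rfl⟩ := Subgroup.mem_sup_of_normal_right.1 hb
      rw [MonoidHom.mem_ker]
      have hza' := Subgroup.mem_center_iff.1 hza
      have hzb' := Subgroup.mem_center_iff.1 hzb
      have e : ρ (a1 * za) = ρ za := by rw [map_mul, MonoidHom.mem_ker.1 ha1, one_mul]
      have e' : ρ (b1 * zb) = ρ zb := by rw [map_mul, MonoidHom.mem_ker.1 hb1, one_mul]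
      have ei : ρ (a1 * za)⁻¹ = ρ za⁻¹ := by
        rw [_root_.mul_inv_rev, map_mul, MonoidHom.mem_ker.1 (inv_mem ha1), mul_one]
      have ei' : ρ (b1 * zb)⁻¹ = ρ zb⁻¹ := by
        rw [_root_.mul_inv_rev, map_mul, MonoidHom.mem_ker.1 (inv_mem hb1), mul_one]
      rw [commutatorElement_def, map_mul, map_mul, map_mul, e, e', ei, ei', ← map_mul, ← map_mul,
        ← map_mul]
      rw [show za * zb * za⁻¹ * zb⁻¹ = 1 by rw [← hza' zb]; group, map_one]
    have hgm : g ∈ commutator (GG (k + 3) Q0) := by rw [hperf]; exact Subgroup.mem_top g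
    exact hg (MonoidHom.mem_ker.1 (hle hgm))

variable (ρ : GG (k + 3) Q0 →* Module.End ℂ V)

/-- the Levi on the fixed space of the radical's centre -/
noncomputable def levN : Representation ℂ (SpecialLinearGroup (Fin (k + 1 + 1 + 1)) F) (Vw ρ 0) where
  toFun g := (ρ (gl Q0 g)).restrict fun _ hx =>
    mem_Vw_iff_cong ρ (isLev_gl Q0 g) (cong_zero _) hx
  map_one' := LinearMap.ext fun x => Subtype.ext (by
    show ρ (gl Q0 1) x.1 = x.1
    rw [map_one, map_one, Module.End.one_apply])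
  map_mul' a b := LinearMap.ext fun x => Subtype.ext (by
    show ρ (gl Q0 (a * b)) x.1 = ρ (gl Q0 a) (ρ (gl Q0 b) x.1)
    rw [map_mul, map_mul, Module.End.mul_apply])

/-- A moved fixed vector gives the lower bound of the special linear group. -/
theorem eV_zero_bound (hex : ¬ H40.MinDeg.Exceptional F (k + 3)) {t : F} {x : V}
    (hx : x ∈ Vw ρ 0) (hxt : ρ (gY t) x ≠ x) :
    Fintype.card F ^ (k + 3) - Fintype.card F ≤ (Fintype.card F - 1) * eV ρ 0 :=
  sl_degree_bound (l := k + 1) (by omega) hex (levN ρ) (one_ne_zero' (k := k)) t fun h1 =>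
    hxt (congrArg Subtype.val (LinearMap.congr_fun h1 ⟨x, hx⟩))

open scoped Classical in
/-- The shapes, given the action of the Levi root group on the non-trivial eigenspaces. -/
theorem shapes_of (hQ0 : (polB Q0).Nondegenerate) 
    (hroot : (∀ ω : Alt (k + 3) F, ω ≠ 0 → eV ρ ω = if Dec ω then Fintype.card F ^ δ else 0) →
      (∀ ω : Alt (k + 3) F, Dec ω → ω.1 0 = 0 → ∀ t, ∀ x ∈ Vw ρ ω, ρ (gY t) x = x) ∧
        ∃ x ∈ Vw ρ (E01 k F), x ≠ 0 ∧ ∀ t, ρ (gY t) x = x)
    (hne : ρ (gz Q0 (E01 k F)) ≠ 1)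
    {κ : Type*} [Fintype κ] (sq : κ → Fˣ) (hsq : Function.Injective fun x => sq x * sq x) :
    (Fintype.card F ^ (k + 2) - 1) * Fintype.card F ^ (k + 1) * Fintype.card κ *
        Fintype.card F ^ (2 * δ) ≤ finrank ℂ V ∨
      2 * (Fintype.card F ^ δ * Nat.card {ω : Alt (k + 3) F // Dec ω}) ≤ finrank ℂ V ∨
      (finrank ℂ V = Fintype.card F ^ δ * Nat.card {ω : Alt (k + 3) F // Dec ω} + eV ρ 0 ∧
        (∀ ω : Alt (k + 3) F, ω ≠ 0 → eV ρ ω = if Dec ω then Fintype.card F ^ δ else 0) ∧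
        (Fintype.card F ^ (k + 3) - 1 ≤ eV ρ 0 ∨
          ((∀ s w, ∀ x ∈ Vw ρ 0, ρ (gu Q0 s w) x = x) ∧
            ∃ t, ∃ x ∈ Vw ρ 0, ρ (gY t) x ≠ x))) := by
  by_cases hbig : ∃ ω : Alt (k + 3) F, ω ≠ 0 ∧ ¬ Dec ω ∧ eV ρ ω ≠ 0
  · obtain ⟨ω, h1, h2, h3⟩ := hbig
    exact Or.inl (big_bound Q0 ρ hQ0 h1 h2 h3 sq hsq)
  push Not at hbig
  right
  obtain ⟨d, hd⟩ := card_dvd_eV ρ hQ0 (dec_E01 (k := k) (F := F)).1
  have heV : ∀ ω : Alt (k + 3) F, ω ≠ 0 →
      eV ρ ω = if Dec ω then Fintype.card F ^ δ * d else 0 := fun ω hω => by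
    split_ifs with h
    · rw [eV_dec Q0 ρ h, hd]
    · exact hbig ω hω h
  have hd0 : d ≠ 0 := by
    intro h
    apply hne
    refine LinearMap.ext fun x => ?_
    rw [← sum_eigProj (Zr ρ) x, map_sum, Module.End.one_apply]
    refine Finset.sum_congr rfl fun χ _ => ?_
    obtain ⟨ω, rfl⟩ := chr_bijective.2 χ
    by_cases hω : ω = 0
    · subst hω
      exact gz_fix ρ (eigProj_mem _ _ x) _
    · have h0 := heV ω hω
      rw [h, mul_zero, ite_self] at h0
      rw [eigProj_eq_zero_of_bot (Zr ρ) (Submodule.finrank_eq_zero.1 h0), LinearMap.zero_apply,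
        map_zero]
  have hfin : finrank ℂ V =
      Fintype.card F ^ δ * d * Nat.card {ω : Alt (k + 3) F // Dec ω} + eV ρ 0 := by
    rw [← sum_eV ρ, ← Finset.add_sum_erase _ _ (Finset.mem_univ (0 : Alt (k + 3) F)), add_comm,
      Finset.sum_congr rfl fun ω hω => heV ω (Finset.ne_of_mem_erase hω), ← Finset.sum_filter,
      Finset.sum_const, smul_eq_mul, mul_comm, Nat.card_eq_fintype_card, Fintype.card_subtype]
    congr 3
    ext ω
    simp only [Finset.mem_filter, Finset.mem_erase, Finset.mem_univ, and_true, true_and]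
    exact ⟨fun a => a.2, fun a => ⟨a.1, a⟩⟩
  by_cases hd1 : d = 1
  swap
  · left
    rw [hfin]
    have : 2 * (Fintype.card F ^ δ * Nat.card {ω : Alt (k + 3) F // Dec ω}) ≤
        Fintype.card F ^ δ * d * Nat.card {ω : Alt (k + 3) F // Dec ω} := by
      rw [show Fintype.card F ^ δ * d * Nat.card {ω : Alt (k + 3) F // Dec ω} =
        d * (Fintype.card F ^ δ * Nat.card {ω : Alt (k + 3) F // Dec ω}) by ring]
      exact Nat.mul_le_mul_right _ (by omega)
    omega
  right
  subst hd1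
  rw [mul_one] at hfin hd
  simp only [mul_one] at heV
  refine ⟨hfin, heV, ?_⟩
  rcases fixed_dichotomy ρ with h | h
  · exact Or.inl h
  refine Or.inr ⟨h, ?_⟩
  have hY := not_trivial_on_fixed ρ (Fintype.card F ^ δ) (pow_pos Fintype.card_pos _) heV
    (hroot heV).1 (hroot heV).2
  push Not at hY
  obtain ⟨t, x, hx, hxt⟩ := hY
  exact ⟨t, x, hx, hxt⟩

open scoped Classical in
/-- The shapes of a representation non-trivial on the radical, for `q > 3`. -/
theorem shapes (hQ0 : (polB Q0).Nondegenerate) (hq : 3 < Fintype.card F)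
    (hex : ¬ H40.MinDeg.Exceptional F (k + 3)) (hne : ρ (gz Q0 (E01 k F)) ≠ 1)
    {κ : Type*} [Fintype κ] (sq : κ → Fˣ) (hsq : Function.Injective fun x => sq x * sq x) :
    (Fintype.card F ^ (k + 2) - 1) * Fintype.card F ^ (k + 1) * Fintype.card κ *
        Fintype.card F ^ (2 * δ) ≤ finrank ℂ V ∨
      2 * (Fintype.card F ^ δ * Nat.card {ω : Alt (k + 3) F // Dec ω}) ≤ finrank ℂ V ∨
      (finrank ℂ V = Fintype.card F ^ δ * Nat.card {ω : Alt (k + 3) F // Dec ω} + eV ρ 0 ∧
        (∀ ω : Alt (k + 3) F, ω ≠ 0 → eV ρ ω = if Dec ω then Fintype.card F ^ δ else 0) ∧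
        (Fintype.card F ^ (k + 3) - 1 ≤ eV ρ 0 ∨
          ((∀ s w, ∀ x ∈ Vw ρ 0, ρ (gu Q0 s w) x = x) ∧
            Fintype.card F ^ (k + 3) - Fintype.card F ≤ (Fintype.card F - 1) * eV ρ 0))) := by
  refine (shapes_of ρ hQ0 (fun heV => ?_) hne sq hsq).imp id (Or.imp id ?_)
  · have hdω : ∀ ω : Alt (k + 3) F, Dec ω → eV ρ ω = Fintype.card F ^ δ := fun ω hω => by
      rw [heV ω hω.1, if_pos hω]
    exact ⟨fun ω hω h0 => gY_trivial ρ hQ0 hq hω.1 h0 (hdω ω hω),
      exists_fixed_E01 ρ hQ0 hq (hdω _ dec_E01)⟩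
  · rintro ⟨h1, h2, h3⟩
    refine ⟨h1, h2, h3.imp id fun ⟨hU, t, x, hx, hxt⟩ => ⟨hU, ?_⟩⟩
    exact eV_zero_bound ρ hex hx hxt

theorem irreducible_comp_surjective {G H W : Type*} [Monoid G] [Monoid H] [AddCommGroup W]
    [Module ℂ W] (π : Representation ℂ G W) [hπ : π.IsIrreducible] (f : H →* G)
    (hf : Function.Surjective f) : Representation.IsIrreducible (π.comp f : Representation ℂ H W) := by
  let e : Subrepresentation (π.comp f : Representation ℂ H W) ≃o Subrepresentation π :=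
    { toFun := fun W => ⟨W.toSubmodule, fun g v hv => by
        obtain ⟨h, rfl⟩ := hf g
        exact W.apply_mem_toSubmodule h hv⟩
      invFun := fun W => ⟨W.toSubmodule, fun h v hv => W.apply_mem_toSubmodule (f h) hv⟩
      left_inv := fun W => rfl
      right_inv := fun W => rfl
      map_rel_iff' := Iff.rfl }
  exact e.isSimpleOrder_iff.mpr hπ

/-- transport along an isometry of quadratic spaces -/
noncomputable def omegaIso {ι : Type} [Fintype ι] [DecidableEq ι] (Q : QuadraticForm F (ι → F))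
    {m : ℕ} (L : (ι → F) ≃ₗ[F] Sp m δ F) (hL : ∀ v, Qf m Q0 (L v) = Q v) :
    Cfsg.Omega F ⇑Q ≃* GG m Q0 :=
  (H43.omegaEquiv Q).trans (by
    let e : orthGroup Q ≃* OO m Q0 :=
      { toFun := fun g => ⟨L.symm.trans (g.1.trans L), fun v => by
          show Qf m Q0 (L (g.1 (L.symm v))) = _
          rw [hL, g.2, ← hL, L.apply_symm_apply]⟩
        invFun := fun g => ⟨L.trans (g.1.trans L.symm), fun v => by
          show Q (L.symm (g.1 (L v))) = _
          rw [← hL, L.apply_symm_apply, g.2, hL]⟩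
        left_inv := fun g => H43.orth_ext fun v => by simp
        right_inv := fun g => H43.orth_ext fun v => by simp
        map_mul' := fun g h => H43.orth_ext fun v => by simp [H43.orth_mul_apply] }
    exact (e.subgroupMap _).trans (MulEquiv.subgroupCongr (by
      show (commutator (orthGroup Q)).map (e : orthGroup Q →* OO m Q0) = _
      rw [commutator_def, Subgroup.map_commutator,
        Subgroup.map_top_of_surjective _ e.surjective, GG, commutator_def])))

/-- the data of a complex representation of the matrix group, moved to the standard model -/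
theorem exists_model {ι : Type} [Fintype ι] [DecidableEq ι] (Q : QuadraticForm F (ι → F))
    (hQ0 : (polB Q0).Nondegenerate) (L : (ι → F) ≃ₗ[F] Sp (k + 3) δ F)
    (hL : ∀ v, Qf (k + 3) Q0 (L v) = Q v) {d : ℕ}
    (ρ : Representation ℂ (Cfsg.Omega F ⇑Q) (Fin d → ℂ)) (hρ : ρ.IsIrreducible) (hd : 2 ≤ d) :
    ∃ σ : Representation ℂ (GG (k + 3) Q0) (Fin d → ℂ),
      σ.IsIrreducible ∧ σ (gz Q0 (E01 k F)) ≠ 1 := by
  let e := omegaIso Q L hL
  haveI := hρ
  let σ : Representation ℂ (GG (k + 3) Q0) (Fin d → ℂ) := ρ.comp e.symm.toMonoidHom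
  refine ⟨σ, irreducible_comp_surjective ρ e.symm.toMonoidHom e.symm.surjective, ?_⟩
  obtain ⟨g, hg⟩ : ∃ g, σ g ≠ 1 := by
    by_contra h
    push Not at h
    have h1 : ∀ g, ρ g = 1 := fun g => by
      have := h (e g)
      simpa [σ] using this
    have hv : (fun _ => (1 : ℂ)) ≠ (0 : Fin d → ℂ) := fun h0 => one_ne_zero (congrFun h0 ⟨0, by omega⟩)
    have htop := H13.eq_top_of_irreducible ρ (Submodule.span ℂ {fun _ => (1 : ℂ)})
      (fun g x hx => by rw [h1 g]; exact hx) (by rwa [Ne, Submodule.span_singleton_eq_bot])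
    have h2 := finrank_span_singleton (K := ℂ) hv
    rw [htop, finrank_top, Module.finrank_fin_fun] at h2
    omega
  exact radical_nontrivial hQ0 σ hg

end H19.OM
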