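import Cfsg.Agent.H19.OM.Weights

/-!
# Exchange operators on the vectors fixed by the upper unipotent group
-/

set_option autoImplicit false
set_option linter.unusedSectionVars false

namespace H19.OM

open Module Matrix
open H40.MinDeg

variable {F : Type*} [Field F] [Fintype F] [DecidableEq F] {k : ℕ}
variable {W : Type*} [AddCommGroup W] [Module ℂ W] [FiniteDimensional ℂ W]
variable (σ : Representation ℂ (sqDet (k + 3) F) W)

theorem upFix_apply {v : W} (hv : v ∈ upFix (slPart σ)) {a b : Fin (k + 3)} (h : a < b) (t : F) :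
    σ (xT (ne_of_lt h) t) v = v := hv a b h t

theorem tor_upFix (d : sqTor (k + 3) F) {v : W} (hv : v ∈ upFix (slPart σ)) :
    σ (tor (k + 3) F d) v ∈ upFix (slPart σ) := by
  intro a b hab t
  show σ (xT (ne_of_lt hab) t) _ = _
  set t' : F := ((d.1 a)⁻¹ : Fˣ) * t * (d.1 b : F)
  have e : xT (ne_of_lt hab) t * tor (k + 3) F d = tor (k + 3) F d * xT (ne_of_lt hab) t' := by
    rw [tor_xT]
    congr 2
    simp only [t']
    have := (d.1 a).ne_zero
    have := (d.1 b).ne_zero
    field_simp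
    simp [mul_comm, mul_left_comm]
  rw [← rep_mul_apply, e, rep_mul_apply, upFix_apply σ hv hab t']

/-- adjacent places -/
abbrev lp (p : Fin (k + 2)) : Fin (k + 3) := p.castSucc

/-- the second of two adjacent places -/
abbrev rp (p : Fin (k + 2)) : Fin (k + 3) := p.succ

theorem lp_lt_rp (p : Fin (k + 2)) : lp p < rp p := Fin.castSucc_lt_succ

theorem lp_adj (p : Fin (k + 2)) (c : Fin (k + 3)) : ¬ (lp p < c ∧ c < rp p) := by
  rintro ⟨h1, h2⟩
  have e1 : (p : ℕ) < c.val := h1
  have e2 : c.val < (p : ℕ) + 1 := h2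
  omega

/-- the exchange element at adjacent places -/
noncomputable abbrev wP (p : Fin (k + 2)) : sqDet (k + 3) F := wEx (ne_of_lt (lp_lt_rp p))

/-- the exchange operator -/
noncomputable def hR (p : Fin (k + 2)) : Module.End ℂ W :=
  ∑ t : F, σ (xT (ne_of_lt (lp_lt_rp p)) t * wP p)

theorem hR_apply (p : Fin (k + 2)) (v : W) :
    hR σ p v = ∑ t : F, σ (xT (ne_of_lt (lp_lt_rp p)) t) (σ (wP p) v) := by
  simp [hR, LinearMap.sum_apply, map_mul]

theorem wP_fix (p : Fin (k + 2)) {v : W} (hv : v ∈ upFix (slPart σ)) {a b : Fin (k + 3)}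
    (hab : a < b) (hne : ¬ (a = lp p ∧ b = rp p)) (t : F) :
    σ (xT (ne_of_lt hab) t) (σ (wP p) v) = σ (wP p) v := by
  have hij := lp_lt_rp p
  set π := Equiv.swap (lp p) (rp p)
  have hlt : π a < π b := by
    have ha := lp_adj p a
    have hb := lp_adj p b
    simp only [π, Equiv.swap_apply_def]
    have h1 : (lp p).val + 1 = (rp p).val := by simp
    have hab' : a.val < b.val := hab
    split_ifs with a1 a2 b1 b2 b3 b4 <;> first
      | exact absurd ⟨by assumption, by assumption⟩ hne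
      | (show _ < _; simp only [Fin.ext_iff, Fin.lt_def] at *; omega)
  obtain ⟨ε, hε⟩ : ∃ ε : F, ∀ u : F, wP p * xT (ne_of_lt hlt) u = xT (ne_of_lt hab) (ε * u) * wP p := by
    refine ⟨(if π a = lp p then -1 else 1) * (if π b = lp p then -1 else 1), fun u =>
      sqDet_ext fun x => ?_⟩
    rw [mul_mulVec_sq, mul_mulVec_sq, xT_mulVec, xT_mulVec, mulVec_add, wEx_single]
    have hb' : ((wP (F := F) p).1.1 *ᵥ x) b = if π b = lp p then -x (π b) else x (π b) := by
      have := wEx_at_swap (F := F) (ne_of_lt hij) x (π b)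
      rwa [show Equiv.swap (lp p) (rp p) (π b) = b from Equiv.swap_apply_self _ _ _] at this
    rw [show Equiv.swap (lp p) (rp p) (π a) = a from Equiv.swap_apply_self _ _ _, hb']
    congr 2
    split_ifs <;> ring
  have hε0 : ε ≠ 0 := by
    intro h
    have h1 := hε 1
    rw [h, zero_mul, xT_zero, one_mul, mul_eq_left] at h1
    have h2 := congrArg (fun g : sqDet (k + 3) F => (g.1.1 *ᵥ Pi.single (π b) 1) (π a)) h1
    simp only [xT_mulVec, OneMemClass.coe_one, Units.val_one, one_mulVec, Pi.add_apply,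
      Pi.single_eq_same, mul_one] at h2
    simp [(ne_of_lt hlt)] at h2
  rw [← rep_mul_apply, show t = ε * (t / ε) by field_simp, ← hε, rep_mul_apply,
    upFix_apply σ hv hlt]

theorem hR_upFix (p : Fin (k + 2)) {v : W} (hv : v ∈ upFix (slPart σ)) :
    hR σ p v ∈ upFix (slPart σ) := by
  intro a b hab s
  show σ (xT (ne_of_lt hab) s) _ = _
  rw [hR_apply, map_sum]
  by_cases hsame : a = lp p ∧ b = rp p
  · obtain ⟨rfl, rfl⟩ := hsame
    refine Fintype.sum_equiv (Equiv.addLeft s) _ _ fun t => ?_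
    rw [Equiv.coe_addLeft, ← rep_mul_apply, ← xT_add]
  refine Finset.sum_congr rfl fun t _ => ?_
  obtain ⟨g, hg, hcase⟩ := xT_past (ne_of_lt (lp_lt_rp p)) hab (lp_lt_rp p) (lp_adj p) s t
  rw [← rep_mul_apply, hg, rep_mul_apply]
  congr 1
  rcases hcase with rfl | ⟨e, he, r, hne, rfl⟩ | ⟨e, he, r, hne, rfl⟩
  · exact wP_fix σ p hv hab hsame s
  · rw [rep_mul_apply, wP_fix σ p hv he hne r, wP_fix σ p hv hab hsame s]
  · rw [rep_mul_apply, wP_fix σ p hv he hne r, wP_fix σ p hv hab hsame s]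

/-- a common eigenvector of the torus among the vectors fixed by the upper unipotent group -/
def IsWt (v : W) (c : sqTor (k + 3) F → ℂ) : Prop :=
  v ≠ 0 ∧ v ∈ upFix (slPart σ) ∧ ∀ d, σ (tor (k + 3) F d) v = c d • v

variable {σ}

theorem IsWt.mul {v : W} {c : sqTor (k + 3) F → ℂ} (h : IsWt σ v c) (d e : sqTor (k + 3) F) :
    c (d * e) = c d * c e := by
  refine smul_left_injective ℂ h.1 ?_
  simp only
  rw [← h.2.2, map_mul, rep_mul_apply, h.2.2 e, map_smul, h.2.2 d, smul_smul, mul_comm]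

theorem IsWt.one {v : W} {c : sqTor (k + 3) F → ℂ} (h : IsWt σ v c) : c 1 = 1 := by
  refine smul_left_injective ℂ h.1 ?_
  simp only
  rw [← h.2.2, map_one, map_one, Module.End.one_apply, one_smul]

theorem IsWt.ne_zero {v : W} {c : sqTor (k + 3) F → ℂ} (h : IsWt σ v c) (d : sqTor (k + 3) F) :
    c d ≠ 0 := by
  intro h0
  have := h.mul d d⁻¹
  rw [mul_inv_cancel, h.one, h0, zero_mul] at this
  exact one_ne_zero this

theorem tor_hR (p : Fin (k + 2)) (d : sqTor (k + 3) F) (v : W) :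
    σ (tor (k + 3) F d) (hR σ p v) =
      hR σ p (σ (tor (k + 3) F (permTor (Equiv.swap (lp p) (rp p)) d)) v) := by
  rw [hR_apply, hR_apply, map_sum]
  refine Fintype.sum_equiv (Equiv.mulLeft₀
    ((d.1 (lp p) : F) * ((d.1 (rp p))⁻¹ : Fˣ)) (mul_ne_zero (Units.ne_zero _) (Units.ne_zero _)))
    _ _ fun t => ?_
  rw [← rep_mul_apply, tor_xT, rep_mul_apply, ← rep_mul_apply σ (tor _ _ d), tor_wEx, rep_mul_apply]
  congr 3
  show _ = (d.1 (lp p) : F) * ((d.1 (rp p))⁻¹ : Fˣ) * t
  ring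

/-- the quadratic relation makes the exchange operators injective on weight vectors -/
theorem hR_ne_zero (p : Fin (k + 2)) {v : W} {c : sqTor (k + 3) F → ℂ} (h : IsWt σ v c) :
    hR σ p v ≠ 0 := by
  intro h0
  have hne := ne_of_lt (lp_lt_rp p)
  have h2 : ∑ t : F, σ (xT hne t) (σ (wP p) (hR σ p v)) = 0 := by
    rw [h0]
    exact Finset.sum_eq_zero fun t _ => by rw [map_zero, map_zero]
  rw [hR_apply σ p v] at h2
  simp only [map_sum] at h2
  rw [Finset.sum_comm, ← Finset.add_sum_erase _ _ (Finset.mem_univ (0 : F))] at h2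
  have hzero : ∑ t : F, σ (xT hne t) (σ (wP p) (σ (xT hne 0) (σ (wP p) v))) =
      ((Fintype.card F : ℂ) * c (hPair (p := lp p) (q := rp p) (-1))) • v := by
    have : ∀ t : F, σ (xT hne t) (σ (wP p) (σ (xT hne 0) (σ (wP p) v))) =
        c (hPair (p := lp p) (q := rp p) (-1)) • v := fun t => by
      rw [xT_zero, map_one, Module.End.one_apply, ← rep_mul_apply σ (wP p), wEx_sq, h.2.2,
        map_smul, upFix_apply σ h.2.1 (lp_lt_rp p)]
    rw [Finset.sum_congr rfl fun t _ => this t, Finset.sum_const, Finset.card_univ,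
      ← Nat.cast_smul_eq_nsmul ℂ, smul_smul]
  rw [hzero, Finset.sum_eq_zero, add_zero] at h2
  · exact h.1 ((smul_eq_zero.1 h2).resolve_left
      (mul_ne_zero (Nat.cast_ne_zero.2 Fintype.card_ne_zero) (h.ne_zero _)))
  intro s hs
  set u : Fˣ := Units.mk0 s (Finset.ne_of_mem_erase hs)
  set a : F := ((-u⁻¹ : Fˣ) : F)
  set d := hPair (p := lp p) (q := rp p) (-u⁻¹ : Fˣ)
  have hterm : ∀ t, σ (xT hne t) (σ (wP p) (σ (xT hne s) (σ (wP p) v))) =
      c (permTor (Equiv.swap (lp p) (rp p)) d) • σ (xT hne (t + a)) (σ (wP p) v) := by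
    intro t
    rw [← rep_mul_apply σ (xT hne s), ← rep_mul_apply σ (wP p), ← mul_assoc,
      show (s : F) = (u : F) from rfl, wEx_xT_wEx hne u, rep_mul_apply,
      upFix_apply σ h.2.1 (lp_lt_rp p), mul_assoc, tor_wEx, ← mul_assoc, rep_mul_apply,
      h.2.2, map_smul, map_smul, ← rep_mul_apply σ (xT hne t), ← mul_assoc, ← xT_add, rep_mul_apply]
  rw [Finset.sum_congr rfl fun t _ => hterm t, ← Finset.smul_sum,
    Fintype.sum_equiv (Equiv.addRight a) (fun t => σ (xT hne (t + a)) (σ (wP p) v))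
      (fun t => σ (xT hne t) (σ (wP p) v)) (fun t => rfl), ← hR_apply σ p v, h0, smul_zero]

/-- the exchange moves a weight to the swapped one -/
theorem IsWt.swap {v : W} {c : sqTor (k + 3) F → ℂ} (h : IsWt σ v c) (p : Fin (k + 2)) :
    IsWt σ (hR σ p v) fun d => c (permTor (Equiv.swap (lp p) (rp p)) d) :=
  ⟨hR_ne_zero p h, hR_upFix σ p h.2.1, fun d => by rw [tor_hR, h.2.2, map_smul]⟩

theorem permTor_mul (π ρ' : Equiv.Perm (Fin (k + 3))) (d : sqTor (k + 3) F) :
    permTor π (permTor ρ' d) = permTor (ρ' * π) d := Subtype.ext rfl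

/-- every permutation of a weight is again one -/
theorem IsWt.perm {v : W} {c : sqTor (k + 3) F → ℂ} (h : IsWt σ v c)
    (π : Equiv.Perm (Fin (k + 3))) : ∃ v', IsWt σ v' fun d => c (permTor π d) := by
  suffices ∀ (v : W) (c : sqTor (k + 3) F → ℂ), IsWt σ v c →
      ∃ v', IsWt σ v' fun d => c (permTor π d) from this v c h
  have hmem : π ∈ Submonoid.closure
      (Set.range fun i : Fin (k + 2) ↦ Equiv.swap i.castSucc i.succ) := by
    rw [Equiv.Perm.mclosure_swap_castSucc_succ]; trivial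
  refine Submonoid.closure_induction (motive := fun π _ => ∀ (v : W) (c : sqTor (k + 3) F → ℂ),
    IsWt σ v c → ∃ v', IsWt σ v' fun d => c (permTor π d)) ?_ ?_ ?_ hmem
  · rintro _ ⟨p, rfl⟩ v c h
    exact ⟨_, h.swap p⟩
  · exact fun v c h => ⟨v, h⟩
  · intro x y _ _ hx hy v c h
    obtain ⟨v1, h1⟩ := hy v c h
    obtain ⟨v2, h2⟩ := hx v1 _ h1
    refine ⟨v2, h2.1, h2.2.1, fun d => ?_⟩
    rw [h2.2.2 d]
    show c (permTor y (permTor x d)) • v2 = _
    rw [permTor_mul]

omit [Fintype F] [DecidableEq F] in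
theorem wEx_wEx_mulVec {i j l : Fin (k + 3)} (hij : i < j) (hjl : j < l) (x : Fin (k + 3) → F)
    (a : Fin (k + 3)) :
    ((wEx (F := F) (ne_of_lt hij) * wEx (ne_of_lt hjl)).1.1 *ᵥ x) a =
      if a = i then x l else if a = j then -x i else if a = l then -x j else x a := by
  have hil := lt_trans hij hjl
  rw [mul_mulVec_sq, wEx_mulVec, wEx_mulVec, wEx_mulVec, wEx_mulVec]
  by_cases ai : a = i
  · simp [ai]
  · by_cases aj : a = j
    · simp [aj, hij.ne', hij.ne, hil.ne]
    · by_cases al : a = l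
      · simp [al, hil.ne', hjl.ne']
      · simp [ai, aj, al]

theorem pair_step {i j l : Fin (k + 3)} (hij : i < j) (hjl : j < l) {v : W}
    (hfix : ∀ t, σ (xT hij.ne.symm t) v = v) (t : F) :
    σ (xT hjl.ne.symm t) (∑ α : F, σ (xT hij.ne α) (σ (wEx hij.ne)
      (∑ β : F, σ (xT hjl.ne β) (σ (wEx hjl.ne) v)))) =
    ∑ α : F, σ (xT hij.ne α) (σ (wEx hij.ne)
      (∑ β : F, σ (xT hjl.ne β) (σ (wEx hjl.ne) v))) := by
  have hil := lt_trans hij hjl
  set w : sqDet (k + 3) F := wEx hij.ne * wEx hjl.ne with hwdef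
  have hw : ∀ x : Fin (k + 3) → F, ∀ a, (w.1.1 *ᵥ x) a =
      if a = i then x l else if a = j then -x i else if a = l then -x j else x a :=
    fun x a => wEx_wEx_mulVec hij hjl x a
  have hexp : (∑ α : F, σ (xT hij.ne α) (σ (wEx hij.ne)
      (∑ β : F, σ (xT hjl.ne β) (σ (wEx hjl.ne) v)))) = ∑ α : F, ∑ β : F,
      σ (xT hij.ne α * xT hil.ne β) (σ w v) := by
    refine Finset.sum_congr rfl fun α _ => ?_
    rw [map_sum, map_sum]
    refine Finset.sum_congr rfl fun β _ => ?_
    have e : wEx (F := F) hij.ne * xT hjl.ne β = xT hil.ne β * wEx hij.ne := by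
      refine sqDet_ext fun x => funext fun a => ?_
      simp only [mul_mulVec_sq, xT_mulVec, wEx_mulVec, Pi.add_apply]
      by_cases ai : a = i
      · simp [ai, hil.ne', hjl.ne', hij.ne']
      · by_cases aj : a = j
        · simp [aj, hij.ne', hij.ne, hil.ne, hjl.ne, hjl.ne']
        · simp [ai, aj, hil.ne', hjl.ne', Pi.single_apply]
    rw [rep_mul_apply, hwdef, rep_mul_apply σ (wEx hij.ne), ← rep_mul_apply σ (wEx hij.ne), e,
      rep_mul_apply]
  rw [hexp]
  simp only [map_sum]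
  have hwx : xT hjl.ne.symm t * w = w * xT hij.ne.symm (t : F) := by
    refine sqDet_ext fun x => funext fun a => ?_
    simp only [mul_mulVec_sq, xT_mulVec, hw, Pi.add_apply]
    by_cases ai : a = i
    · simp [ai, hil.ne, hil.ne', hjl.ne', hij.ne, hij.ne']
    · by_cases aj : a = j
      · simp [aj, hjl.ne, hij.ne', hij.ne]
      · by_cases al : a = l
        · simp [al, hij.ne', hil.ne', hjl.ne']; ring
        · simp [ai, aj, al]
  have hterm : ∀ α β : F, σ (xT hjl.ne.symm t) (σ (xT hij.ne α * xT hil.ne β) (σ w v)) =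
      σ (xT hij.ne (α - β * t) * xT hil.ne β) (σ w v) := by
    intro α β
    have e : xT hjl.ne.symm t * (xT hij.ne α * xT hil.ne β) =
        xT hij.ne (α - β * t) * xT hil.ne β * xT hjl.ne.symm t := by
      refine sqDet_ext fun x => funext fun a => ?_
      simp only [mul_mulVec_sq, xT_mulVec, Pi.add_apply]
      by_cases ai : a = i
      · simp [ai, hil.ne, hij.ne, hjl.ne', hjl.ne, hil.ne']; ring
      · by_cases al : a = l
        · simp [al, hjl.ne', hil.ne', hij.ne', hjl.ne]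
        · simp [ai, al]
    rw [← rep_mul_apply, e, rep_mul_apply _ _ (xT hjl.ne.symm t),
      ← rep_mul_apply σ (xT hjl.ne.symm t), hwx, rep_mul_apply σ w, hfix t]
  simp only [hterm]
  rw [Finset.sum_comm]
  conv_rhs => rw [Finset.sum_comm]
  refine Finset.sum_congr rfl fun β _ => ?_
  exact Fintype.sum_equiv (Equiv.subRight (β * t)) _ _ fun α => rfl

/-- two applications carry the pair subgroup one step along -/
theorem hR_pair (p q : Fin (k + 2)) (hpq : rp p = lp q) {v : W}
    (hfix : ∀ t, σ (xT (ne_of_lt (lp_lt_rp p)).symm t) v = v) (t : F) :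
    σ (xT (ne_of_lt (lp_lt_rp q)).symm t) (hR σ p (hR σ q v)) = hR σ p (hR σ q v) := by
  have key : ∀ (a b : Fin (k + 3)) (ha : lp p < a) (hb : b < rp q), a = b →
      (∀ t, σ (xT ha.ne.symm t) v = v) →
      σ (xT hb.ne.symm t) (∑ α : F, σ (xT ha.ne α) (σ (wEx ha.ne)
        (∑ β : F, σ (xT hb.ne β) (σ (wEx hb.ne) v)))) =
      ∑ α : F, σ (xT ha.ne α) (σ (wEx ha.ne)
        (∑ β : F, σ (xT hb.ne β) (σ (wEx hb.ne) v))) := by
    intro a b ha hb e hf
    subst e
    exact pair_step ha hb hf t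
  have h2 := key (rp p) (lp q) (lp_lt_rp p) (lp_lt_rp q) hpq hfix
  simp only [hR_apply]
  exact h2

end H19.OM
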