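import Cfsg.Agent.H19.OM.Constituent

/-!
# `SL₃` with a single line fixed by the translations, moved by its stabiliser
-/

set_option autoImplicit false
set_option linter.unusedSectionVars false

namespace H19.OM

open Module Matrix
open H40 (leviSL translSL levi transl)
open H40.MinDeg

variable {F : Type*} [Field F] [Fintype F] [DecidableEq F]
variable {V : Type*} [AddCommGroup V] [Module ℂ V] [FiniteDimensional ℂ V]
variable (σ : Representation ℂ (SpecialLinearGroup (Fin (2 + 1)) F) V)

/-- the character on the line -/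
theorem exists_line_char (hc : cdim σ = 1) :
    ∃ (v : V) (χ : SpecialLinearGroup (Fin 2) F →* ℂ), v ≠ 0 ∧
      (∀ x, σ (translSL x) v = v) ∧ (∀ A, σ (leviSL A) v = χ A • v) ∧
      ∀ w, proj σ 0 w = w → ∃ c : ℂ, w = c • v := by
  have h1 : finrank ℂ (LinearMap.range (proj σ (0 : Fin 2 → F))) = 1 := hc
  obtain ⟨⟨v, hv⟩, hv0, hspan⟩ := finrank_eq_one_iff'.1 h1
  have hv' : v ≠ 0 := fun h => hv0 (Subtype.ext h)
  have hpv : proj σ 0 v = v := by
    obtain ⟨u, rfl⟩ := hv
    rw [← Module.End.mul_apply, proj_mul_proj, if_pos rfl]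
  have hA : ∀ A, ∃ c : ℂ, σ (leviSL A) v = c • v := fun A => by
    obtain ⟨c, hc'⟩ := hspan ⟨σ (leviSL A) v, σ (leviSL A) v, by
      rw [← Module.End.mul_apply, ← proj_zero_mul_levi, Module.End.mul_apply, hpv]⟩
    exact ⟨c, (congrArg Subtype.val hc').symm⟩
  choose χ hχ using hA
  refine ⟨v, { toFun := χ, map_one' := ?_, map_mul' := fun A B => ?_ }, hv', fun x => ?_, hχ,
    fun w hw => ?_⟩
  · refine smul_left_injective ℂ hv' ?_
    simp only
    rw [← hχ, leviSL_one, map_one, Module.End.one_apply, one_smul]
  · refine smul_left_injective ℂ hv' ?_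
    simp only
    rw [← hχ, leviSL_mul, map_mul, Module.End.mul_apply, hχ B, map_smul, hχ A, smul_smul,
      mul_comm]
  · have h := LinearMap.congr_fun (transl_mul_proj σ x 0) v
    rwa [Module.End.mul_apply, hpv, LinearMap.smul_apply, hpv, dotProduct_zero,
      AddChar.map_zero_eq_one, one_smul] at h
  · obtain ⟨c, hc'⟩ := hspan ⟨w, w, hw⟩
    exact ⟨c, (congrArg Subtype.val hc').symm⟩

/-- over a field with a square other than one the line is fixed -/
theorem line_trivial (hq : 3 < Fintype.card F) {v : V} (hv : v ≠ 0)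
    {χ : SpecialLinearGroup (Fin 2) F →* ℂ} (hA : ∀ A, σ (leviSL A) v = χ A • v) (t : F) :
    σ (leviSL (SpecialLinearGroup.transvection (show (0 : Fin 2) ≠ 1 by decide) t)) v = v := by
  obtain ⟨s, hs⟩ := exists_pow_ne_one (F := F) (k := 2)
    fun h => by have := Nat.le_of_dvd (by omega) h; omega
  have h01 : (0 : Fin 2) ≠ 1 := by decide
  set e := (s : F) * s - 1
  have he : e ≠ 0 := by
    refine sub_ne_zero.2 fun h => hs (Units.ext ?_)
    rw [sq, Units.val_mul, h, Units.val_one]
  let D : SpecialLinearGroup (Fin 2) F :=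
    ⟨!![(s : F), 0; 0, (s⁻¹ : Fˣ).1], by simp [det_fin_two]⟩
  set T : F → SpecialLinearGroup (Fin 2) F := fun u => SpecialLinearGroup.transvection h01 u
  have hD : ∀ u, D * T u = T ((s : F) * s * u) * D := fun u => by
    apply Subtype.ext
    show D.1 * Matrix.transvection 0 1 u = Matrix.transvection 0 1 _ * D.1
    ext i j
    fin_cases i <;> fin_cases j <;>
      simp [D, Matrix.transvection, Matrix.mul_apply, Fin.sum_univ_two]
    field_simp
  have hadd : ∀ a b, T (a + b) = T a * T b := fun a b =>
    Subtype.ext (Matrix.transvection_mul_transvection_same _ _ h01 _ _).symm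
  obtain ⟨u, rfl⟩ : ∃ u, e * u = t := ⟨t / e, by field_simp⟩
  have h := congrArg χ (hD u)
  rw [show (s : F) * s * u = e * u + u by ring, hadd, map_mul, map_mul, map_mul] at h
  have hne : ∀ A, χ A ≠ 0 := fun A h0 => by
    have := congrArg χ (mul_inv_cancel A)
    rw [map_mul, h0, zero_mul, map_one] at this
    exact zero_ne_one this
  have h1 : χ (T (e * u)) = 1 := by
    apply mul_right_cancel₀ (mul_ne_zero (hne (T u)) (hne D))
    linear_combination -h
  rw [hA]
  show χ (T (e * u)) • v = v
  rw [h1, one_smul]

/-- over two elements a moved line gives seven independent vectors -/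
theorem line_seven (hq : Fintype.card F = 2) {v : V} (hv : v ≠ 0)
    (hx : ∀ x, σ (translSL x) v = v)
    {χ : SpecialLinearGroup (Fin 2) F →* ℂ} (hA : ∀ A, σ (leviSL A) v = χ A • v)
    (hspan : ∀ w, proj σ 0 w = w → ∃ c : ℂ, w = c • v)
    {t : F}
    (hmove : σ (leviSL (SpecialLinearGroup.transvection (show (0 : Fin 2) ≠ 1 by decide) t)) v ≠ v) :
    7 ≤ finrank ℂ V := by
  classical
  have hF : ∀ a : F, a = 0 ∨ a = 1 := by
    have : (Finset.univ : Finset F) = {0, 1} := by
      symm
      apply Finset.eq_univ_of_card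
      rw [Finset.card_pair zero_ne_one, hq]
    intro a
    have h := Finset.mem_univ a
    rw [this] at h
    simpa using h
  have h2 : (2 : F) = 0 := by
    have := FiniteField.cast_card_eq_zero F
    rw [hq] at this; exact_mod_cast this
  have hneg : ∀ a : F, -a = a := fun a => by linear_combination (-a) * h2
  set T01 : SpecialLinearGroup (Fin 2) F :=
    SpecialLinearGroup.transvection (show (0 : Fin 2) ≠ 1 by decide) (1 : F)
  set T10 : SpecialLinearGroup (Fin 2) F :=
    SpecialLinearGroup.transvection (show (1 : Fin 2) ≠ 0 by decide) (1 : F)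
  have hs01 : χ T01 = -1 := by
    rcases hF t with rfl | rfl
    · exfalso
      apply hmove
      rw [show SpecialLinearGroup.transvection _ (0 : F) = 1 from
        Subtype.ext (Matrix.transvection_zero _ _), leviSL_one, map_one, Module.End.one_apply]
    have hsq : χ T01 * χ T01 = 1 := by
      rw [← map_mul, show T01 * T01 = 1 from Subtype.ext (by
        show Matrix.transvection 0 1 (1 : F) * Matrix.transvection 0 1 1 = 1
        rw [Matrix.transvection_mul_transvection_same _ _ (by decide),
          show (1 : F) + 1 = 0 by linear_combination h2, Matrix.transvection_zero]), map_one]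
    rcases mul_self_eq_one_iff.1 hsq with h | h
    · exact absurd (by rw [hA]; show χ T01 • v = v; rw [h, one_smul]) hmove
    · exact h
  have hW : T01 * T10 * T01 = ⟨!![0, 1; 1, 0], by simp [det_fin_two, hneg]⟩ := by
    apply Subtype.ext
    show Matrix.transvection 0 1 (1 : F) * Matrix.transvection 1 0 1 * Matrix.transvection 0 1 1 = _
    ext i j
    fin_cases i <;> fin_cases j <;>
      simp [Matrix.transvection, Matrix.mul_apply, Fin.sum_univ_two] <;>
      linear_combination h2
  have hcj : T10 * (T01 * T10 * T01) = (T01 * T10 * T01) * T01 := by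
    rw [hW]
    apply Subtype.ext
    show Matrix.transvection 1 0 (1 : F) * !![(0 : F), 1; 1, 0] =
      !![(0 : F), 1; 1, 0] * Matrix.transvection 0 1 1
    ext i j
    fin_cases i <;> fin_cases j <;>
      simp [Matrix.transvection, Matrix.mul_apply, Fin.sum_univ_two]
  have hs10 : χ T10 = -1 := by
    have h := congrArg χ hcj
    simp only [map_mul, hs01] at h
    have : χ T10 * (χ T10 + 1) = 0 := by linear_combination h
    rcases mul_eq_zero.1 this with h0 | h0
    · exfalso
      have := congrArg χ (mul_inv_cancel T10)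
      rw [map_mul, h0, zero_mul, map_one] at this
      exact zero_ne_one this
    · linear_combination h0
  -- every involution acts by `-1`
  have hinv : ∀ A : SpecialLinearGroup (Fin 2) F, A * A = 1 → A ≠ 1 → χ A = -1 := by
    intro A hAA hA1
    have hdet : A.1 0 0 * A.1 1 1 - A.1 0 1 * A.1 1 0 = 1 := by rw [← det_fin_two]; exact A.2
    have h00 : (A.1 * A.1) 0 1 = 0 := by rw [← Matrix.SpecialLinearGroup.coe_mul, hAA]; simp
    have h11 : (A.1 * A.1) 0 0 = 1 := by rw [← Matrix.SpecialLinearGroup.coe_mul, hAA]; simp
    simp [Matrix.mul_apply, Fin.sum_univ_two] at h00 h11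
    have hext : ∀ (B : SpecialLinearGroup (Fin 2) F), A.1 0 0 = B.1 0 0 → A.1 0 1 = B.1 0 1 →
        A.1 1 0 = B.1 1 0 → A.1 1 1 = B.1 1 1 → A = B := fun B a b c d =>
      Subtype.ext (Matrix.ext fun i j => by fin_cases i <;> fin_cases j <;> assumption)
    rcases hF (A.1 0 0) with a | a <;> rcases hF (A.1 0 1) with b | b <;>
      rcases hF (A.1 1 0) with c | c <;> rcases hF (A.1 1 1) with d | d <;>
      simp [a, b, c, d, show (1 : F) + 1 = 0 by linear_combination h2] at hdet h00 h11
    all_goals first
      | (refine absurd (hext 1 ?_ ?_ ?_ ?_) hA1 <;> simp [a, b, c, d] <;> done)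
      | (refine (congrArg χ (hext T01 ?_ ?_ ?_ ?_)).trans hs01 <;>
          simp [T01, Matrix.SpecialLinearGroup.transvection, Matrix.transvection, a, b, c, d] <;> done)
      | (refine (congrArg χ (hext T10 ?_ ?_ ?_ ?_)).trans hs10 <;>
          simp [T10, Matrix.SpecialLinearGroup.transvection, Matrix.transvection, a, b, c, d] <;> done)
      | (refine (congrArg χ ((hext ⟨!![0, 1; 1, 0], by simp [det_fin_two, hneg]⟩ ?_ ?_ ?_ ?_).trans
            hW.symm)).trans (by rw [map_mul, map_mul, hs01, hs10]; ring) <;>
          simp [a, b, c, d] <;> done)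
  let e : Fin (2 + 1) → F := Fin.cons 1 0
  -- the projection kills every translate at another point
  have hkey : ∀ g : SpecialLinearGroup (Fin (2 + 1)) F, g.1 *ᵥ e ≠ e → proj σ 0 (σ g v) = 0 := by
    intro g hg
    set r := g.1 *ᵥ e with hr
    have hr0 : r ≠ 0 := fun h => by
      have := congrArg ((↑(g⁻¹) : Matrix (Fin (2 + 1)) (Fin (2 + 1)) F) *ᵥ ·) h
      simp only [hr, mulVec_mulVec, ← Matrix.SpecialLinearGroup.coe_mul, inv_mul_cancel,
        Matrix.SpecialLinearGroup.coe_one, one_mulVec, mulVec_zero] at this
      simpa [e] using congrFun this 0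
    have htail : Fin.tail r ≠ 0 := fun h => by
      rcases hF (r 0) with h0 | h0
      · exact hr0 (by rw [← Fin.cons_self_tail r, h, h0]; exact Matrix.cons_zero_zero)
      · exact hg (by rw [← Fin.cons_self_tail r, h, h0])
    set x : Fin 2 → F := ![Fin.tail r 1, Fin.tail r 0]
    have hx0 : x ≠ 0 := fun h => htail (funext fun i => by
      have h0 := congrFun h 0
      have h1 := congrFun h 1
      fin_cases i <;> simp [x] at h0 h1 ⊢ <;> assumption)
    have hxr : x ⬝ᵥ Fin.tail r = 0 := by
      simp [x, dotProduct, Fin.sum_univ_two]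
      linear_combination (Fin.tail r 0 * Fin.tail r 1) * h2
    set h := g⁻¹ * translSL x * g with hh
    have hav : (translSL x).1 *ᵥ r = r := by
      funext i
      refine Fin.cases ?_ (fun i => ?_) i
      · show (transl x *ᵥ r) 0 = r 0
        have h1 : (transl x *ᵥ r) 0 = r 0 + x ⬝ᵥ Fin.tail r := by
          simp [transl, mulVec, dotProduct, Fin.sum_univ_succ, Fin.tail]
        rw [h1, hxr, add_zero]
      · simp [translSL, transl, mulVec, dotProduct, Fin.sum_univ_succ, Matrix.one_apply]
    have hhe : h.1 *ᵥ e = e := by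
      rw [hh, Matrix.SpecialLinearGroup.coe_mul, Matrix.SpecialLinearGroup.coe_mul,
        ← mulVec_mulVec, ← mulVec_mulVec, ← hr, hav, hr, mulVec_mulVec,
        ← Matrix.SpecialLinearGroup.coe_mul, inv_mul_cancel, Matrix.SpecialLinearGroup.coe_one,
        one_mulVec]
    have hcol : ∀ i, h.1 i 0 = e i := fun i => by
      have := congrFun hhe i
      simpa [e, mulVec, dotProduct, Fin.sum_univ_succ] using this
    have hdet : (h.1.submatrix Fin.succ Fin.succ).det = 1 := by
      have h1 : h.1.det = 1 := h.2
      rw [det_succ_column_zero, Fin.sum_univ_succ] at h1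
      simp only [hcol, e, Fin.cons_zero, Fin.cons_succ, Pi.zero_apply, mul_zero, zero_mul,
        Finset.sum_const_zero, add_zero, Fin.val_zero, pow_zero, one_mul,
        Fin.succAbove_zero] at h1
      exact h1
    let A : SpecialLinearGroup (Fin 2) F := ⟨h.1.submatrix Fin.succ Fin.succ, hdet⟩
    have hdecomp : h = leviSL A * translSL (fun j => h.1 0 j.succ) := by
      apply Subtype.ext
      show h.1 = levi (h.1.submatrix Fin.succ Fin.succ) * transl _
      ext i j
      refine Fin.cases ?_ (fun i => ?_) i <;> refine Fin.cases ?_ (fun j => ?_) j <;>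
        simp [levi, transl, Matrix.mul_apply, Fin.sum_univ_succ, hcol, e, Matrix.one_apply]
    have hhh : h * h = 1 := by
      have : translSL x * translSL x = (1 : SpecialLinearGroup (Fin (2 + 1)) F) := by
        rw [← H40.translSL_add, ← translSL_zero]
        congr 1
        funext i
        show x i + x i = 0
        linear_combination x i * h2
      calc h * h = g⁻¹ * (translSL x * translSL x) * g := by rw [hh]; group
        _ = 1 := by rw [this]; group
    have hAA : A * A = 1 := by
      apply Subtype.ext
      ext i j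
      have := congrFun (congrFun (congrArg Subtype.val hhh) i.succ) j.succ
      rw [Matrix.SpecialLinearGroup.coe_mul, Matrix.mul_apply, Fin.sum_univ_succ, hcol] at this
      show (A.1 * A.1) i j = (1 : Matrix (Fin 2) (Fin 2) F) i j
      simpa [A, Matrix.mul_apply, e, Matrix.one_apply] using this
    have hA1 : A ≠ 1 := by
      intro hA1
      rw [hA1, leviSL_one, one_mul] at hdecomp
      set y : Fin 2 → F := fun j => h.1 0 j.succ
      have hga : translSL x * g = g * translSL y := by rw [← hdecomp, hh]; group
      obtain ⟨j, hj⟩ := Function.ne_iff.1 hx0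
      have hj1 : x j = 1 := (hF _).resolve_left hj
      set u : Fin (2 + 1) → F := (↑(g⁻¹) : Matrix (Fin (2 + 1)) (Fin (2 + 1)) F) *ᵥ Pi.single j.succ 1
      have hgu : g.1 *ᵥ u = Pi.single j.succ 1 := by
        rw [mulVec_mulVec, ← Matrix.SpecialLinearGroup.coe_mul, mul_inv_cancel,
          Matrix.SpecialLinearGroup.coe_one, one_mulVec]
      have hlhs : (translSL x).1 *ᵥ (g.1 *ᵥ u) = Pi.single j.succ 1 + Pi.single 0 1 := by
        rw [hgu]
        funext i
        refine Fin.cases ?_ (fun i => ?_) i
        · simp [translSL, transl, mulVec, hj1]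
        · simp [translSL, transl, mulVec, dotProduct, Fin.sum_univ_succ, Matrix.one_apply,
            Pi.single_apply]
      have hrhs : ∃ c : F, g.1 *ᵥ ((translSL y).1 *ᵥ u) = Pi.single j.succ 1 + c • r := by
        refine ⟨y ⬝ᵥ Fin.tail u, ?_⟩
        have : (translSL y).1 *ᵥ u = u + (y ⬝ᵥ Fin.tail u) • e := by
          funext i
          refine Fin.cases ?_ (fun i => ?_) i
          · simp [translSL, transl, mulVec, dotProduct, Fin.sum_univ_succ, e, Fin.tail]
          · simp [translSL, transl, mulVec, dotProduct, Fin.sum_univ_succ, e, Matrix.one_apply]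
        rw [this, mulVec_add, mulVec_smul, hgu]
      obtain ⟨c, hc⟩ := hrhs
      have := congrArg (fun M : SpecialLinearGroup (Fin (2 + 1)) F => M.1 *ᵥ u) hga
      simp only [Matrix.SpecialLinearGroup.coe_mul, ← mulVec_mulVec] at this
      rw [hlhs, hc, add_left_cancel_iff] at this
      rcases hF c with rfl | rfl
      · simpa using congrFun this 0
      · rw [one_smul] at this
        exact htail (by rw [← this]; funext i; simp [Fin.tail])
    have hhv : σ h v = -v := by
      rw [hdecomp, map_mul, Module.End.mul_apply, hx, hA, hinv A hAA hA1, neg_one_smul]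
    have hag : σ (translSL x) (σ g v) = -σ g v := by
      rw [← Module.End.mul_apply, ← map_mul, show translSL x * g = g * h by rw [hh]; group,
        map_mul, Module.End.mul_apply, hhv, map_neg]
    have hp : proj σ 0 * σ (translSL x) = proj σ 0 := by
      simp only [proj, smul_mul_assoc, Finset.sum_mul]
      congr 1
      refine Fintype.sum_equiv (Equiv.addRight x) _ _ fun z => ?_
      rw [Equiv.coe_addRight, ← map_mul, ← H40.translSL_add]
      simp
    have := LinearMap.congr_fun hp (σ g v)
    rw [Module.End.mul_apply, hag, map_neg] at this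
    have h2' : (2 : ℂ) • proj σ 0 (σ g v) = 0 := by
      rw [two_smul]
      nth_rw 1 [← this]
      exact neg_add_cancel _
    exact (smul_eq_zero.1 h2').resolve_left two_ne_zero
  have hpv : proj σ 0 v = v := by
    have hz : ∀ z : Fin 2 → F, H40.MinDeg.psi F (-(z ⬝ᵥ 0)) • σ (translSL z) v = v := fun z => by
      rw [hx, dotProduct_zero, neg_zero, AddChar.map_zero_eq_one, one_smul]
    simp only [proj, LinearMap.smul_apply, LinearMap.sum_apply, hz, Finset.sum_const,
      Finset.card_univ, Fintype.card_fun, Fintype.card_fin]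
    rw [← Nat.cast_smul_eq_nsmul ℂ, smul_smul, Nat.cast_pow, inv_mul_cancel₀ card_pow_ne_zero,
      one_smul]
  let R := {r : Fin (2 + 1) → F // r ≠ 0}
  have hG : ∀ r : R, ∃ g : SpecialLinearGroup (Fin (2 + 1)) F, g.1 *ᵥ e = r.1 := fun r =>
    H40.exists_SL_mulVec_eq (by omega) (fun h => by simpa [e] using congrFun h 0) r.2
  choose G hG using hG
  have hli : LinearIndependent ℂ (fun r : R => σ (G r) v) := by
    rw [Fintype.linearIndependent_iff]
    intro c hc r
    have h := congrArg (fun w => proj σ 0 (σ (G r)⁻¹ w)) hc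
    simp only [map_sum, map_smul, map_zero] at h
    rw [Finset.sum_eq_single r] at h
    · rw [← Module.End.mul_apply (σ (G r)⁻¹), ← map_mul, inv_mul_cancel, map_one,
        Module.End.one_apply, hpv] at h
      exact (smul_eq_zero.1 h).resolve_right hv
    · intro s _ hs
      rw [← Module.End.mul_apply (σ (G r)⁻¹), ← map_mul, hkey _ ?_, smul_zero]
      intro he
      apply hs
      rw [Matrix.SpecialLinearGroup.coe_mul, ← mulVec_mulVec, hG] at he
      have := congrArg ((G r).1 *ᵥ ·) he
      simp only [mulVec_mulVec, ← Matrix.SpecialLinearGroup.coe_mul, mul_inv_cancel,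
        Matrix.SpecialLinearGroup.coe_one, one_mulVec] at this
      rw [hG] at this
      exact Subtype.ext this
    · simp
  have := hli.fintype_card_le_finrank
  rw [Fintype.card_subtype_compl, Fintype.card_subtype_eq, Fintype.card_fun, Fintype.card_fin,
    hq] at this
  simpa using this

end H19.OM
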