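import Cfsg.Agent.H19.OM.Plus

/-!
# The class of a long root element
-/

set_option autoImplicit false
set_option linter.unusedSectionVars false

namespace H19.OM

open Module Matrix H50.LS
open H43 (polB orthGroup)

variable {F : Type*} [Field F] [Fintype F] [DecidableEq F] {k δ : ℕ}
variable (Q0 : QuadraticForm F (Fin δ → F))

/-- the number of singular vectors -/
noncomputable def nSing (m : ℕ) : ℕ := Nat.card {u : Sp m δ F // u ≠ 0 ∧ Qf m Q0 u = 0}

/-- singular orthogonal pairs -/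
def SPair (k : ℕ) (p : Sp (k + 3) δ F × Sp (k + 3) δ F) : Prop :=
  LinearIndependent F ![p.1, p.2] ∧ Qf (k + 3) Q0 p.1 = 0 ∧ Qf (k + 3) Q0 p.2 = 0 ∧
    polB (Qf (k + 3) Q0) p.1 p.2 = 0

/-- the standard pair -/
def sPair0 (k δ : ℕ) (F : Type*) [Field F] : Sp (k + 3) δ F × Sp (k + 3) δ F :=
  ((Pi.single 0 1, 0, 0), (Pi.single 1 1, 0, 0))

theorem sPair_sPair0 : SPair Q0 k (sPair0 k δ F) := by
  refine ⟨?_, by simp [sPair0, Qf_apply], by simp [sPair0, Qf_apply], by simp [sPair0, polB_Qf]⟩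
  rw [LinearIndependent.pair_iff]
  intro s t h
  have h0 := congrArg (fun v : Sp (k + 3) δ F => v.1 0) h
  have h1 := congrArg (fun v : Sp (k + 3) δ F => v.1 1) h
  simp [sPair0] at h0 h1
  exact ⟨h0, h1⟩

theorem zO_E01_apply_gen (v : Sp (k + 3) δ F) :
    (zO Q0 (E01 k F)).1 v = v + polB (Qf (k + 3) Q0) v (sPair0 k δ F).2 • (sPair0 k δ F).1 -
      polB (Qf (k + 3) Q0) v (sPair0 k δ F).1 • (sPair0 k δ F).2 := by
  obtain ⟨x, y, w⟩ := v
  rw [zO_apply, E01, wedge_mulVec]
  simp only [sPair0, polB_Qf, dotProduct_zero, zero_add, map_zero, add_zero, Prod.smul_mk,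
    smul_zero, Prod.mk_add_mk, Prod.mk_sub_mk, sub_zero, sub_eq_add_neg, neg_zero, add_assoc,
    Prod.neg_mk]

/-- the centralizer of the standard long root element -/
noncomputable abbrev cRoot (k : ℕ) : Subgroup (OO (k + 3) Q0) :=
  Subgroup.centralizer ({zO Q0 (E01 k F)} : Set (OO (k + 3) Q0))

theorem mem_cRoot_of_fix {g : OO (k + 3) Q0} (h1 : g.1 (sPair0 k δ F).1 = (sPair0 k δ F).1)
    (h2 : g.1 (sPair0 k δ F).2 = (sPair0 k δ F).2) : g ∈ cRoot Q0 k := by
  rw [Subgroup.mem_centralizer_singleton_iff]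
  refine H43.orth_ext fun v => ?_
  have e1 := H43.orth_polB_map g v (sPair0 k δ F).1
  have e2 := H43.orth_polB_map g v (sPair0 k δ F).2
  rw [h1] at e1
  rw [h2] at e2
  rw [H43.orth_mul_apply, H43.orth_mul_apply, zO_E01_apply_gen, zO_E01_apply_gen, map_sub, map_add,
    map_smul, map_smul, h1, h2, e1, e2]

variable {Q0}
variable (hQ0 : (polB Q0).Nondegenerate)

include hQ0 in
/-- orbit–stabiliser on pairs -/
theorem exists_stab :
    ∃ St : Subgroup (OO (k + 3) Q0), St.index = Nat.card {p // SPair Q0 k p} ∧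
      ∀ g, g ∈ St ↔
        g.1 (sPair0 k δ F).1 = (sPair0 k δ F).1 ∧ g.1 (sPair0 k δ F).2 = (sPair0 k δ F).2 := by
  classical
  let X := {p : Sp (k + 3) δ F × Sp (k + 3) δ F // SPair Q0 k p}
  have hmem : ∀ (g : OO (k + 3) Q0) (p : X), SPair Q0 k (g.1 p.1.1, g.1 p.1.2) := by
    rintro g ⟨p, hli, h1, h2, h3⟩
    refine ⟨?_, (g.2 _).trans h1, (g.2 _).trans h2, (H43.orth_polB_map g _ _).trans h3⟩
    have := hli.map' (g.1 : Sp (k + 3) δ F →ₗ[F] Sp (k + 3) δ F) (LinearEquiv.ker g.1)
    have hfun : ![g.1 p.1, g.1 p.2] =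
        (g.1 : Sp (k + 3) δ F →ₗ[F] Sp (k + 3) δ F) ∘ ![p.1, p.2] := by
      funext i; fin_cases i <;> rfl
    rwa [hfun]
  letI : MulAction (OO (k + 3) Q0) X :=
    { smul := fun g p => ⟨(g.1 p.1.1, g.1 p.1.2), hmem g p⟩
      one_smul := fun p => rfl
      mul_smul := fun g h p => rfl }
  let x0 : X := ⟨sPair0 k δ F, sPair_sPair0 Q0⟩
  have htop : MulAction.orbit (OO (k + 3) Q0) x0 = Set.univ := by
    refine Set.eq_univ_of_forall fun p => ?_
    obtain ⟨g, hg1, hg2⟩ := H43.exists_orth_map₂ (polB_Qf_nondeg hQ0) x0.2.1 p.2.1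
      (x0.2.2.1.trans p.2.2.1.symm) (x0.2.2.2.1.trans p.2.2.2.1.symm)
      (x0.2.2.2.2.trans p.2.2.2.2.symm)
    exact ⟨g, Subtype.ext (Prod.ext hg1 hg2)⟩
  refine ⟨MulAction.stabilizer (OO (k + 3) Q0) x0,
    by rw [MulAction.index_stabilizer, htop, Set.ncard_univ], fun g => ?_⟩
  rw [MulAction.mem_stabilizer_iff]
  exact ⟨fun h => ⟨congrArg Prod.fst (congrArg Subtype.val h),
    congrArg Prod.snd (congrArg Subtype.val h)⟩, fun h => Subtype.ext (Prod.ext h.1 h.2)⟩

include hQ0 in
theorem cRoot_index_dvd : (cRoot Q0 k).index ∣ Nat.card {p // SPair Q0 k p} := by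
  obtain ⟨St, h1, h2⟩ := exists_stab (k := k) hQ0
  rw [← h1]
  exact Subgroup.index_dvd_of_le fun g hg => mem_cRoot_of_fix Q0 ((h2 g).1 hg).1 ((h2 g).1 hg).2

include hQ0 in
/-- For two elements the class is three times smaller than the number of pairs. -/
theorem three_mul_cRoot_index_dvd (hq : Fintype.card F = 2) :
    3 * (cRoot Q0 k).index ∣ Nat.card {p // SPair Q0 k p} := by
  classical
  obtain ⟨St, h1, h2⟩ := exists_stab (k := k) hQ0
  have hle : St ≤ cRoot Q0 k := fun g hg => mem_cRoot_of_fix Q0 ((h2 g).1 hg).1 ((h2 g).1 hg).2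
  set p1 := (sPair0 k δ F).1 with hp1
  set p2 := (sPair0 k δ F).2 with hp2
  have hN : (St.subgroupOf (cRoot Q0 k)).Normal := by
    refine ⟨fun g hg c => ?_⟩
    rw [Subgroup.mem_subgroupOf, h2] at hg ⊢
    set e := zO Q0 (E01 k F)
    have hc : ∀ v, c.1.1 (e.1 v) = e.1 (c.1.1 v) := fun v => by
      rw [← H43.orth_mul_apply, ← H43.orth_mul_apply,
        Subgroup.mem_centralizer_singleton_iff.1 c.2]
    have hci : ∀ v, (c.1⁻¹).1 (e.1 v) = e.1 ((c.1⁻¹).1 v) := fun v => by
      have := hc ((c.1⁻¹).1 v)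
      rw [H43.orth_apply_inv_self] at this
      rw [← this, H43.orth_inv_apply_self]
    have hfix : ∀ v, g.1.1 (e.1 v - v) = e.1 v - v := fun v => by
      rw [zO_E01_apply_gen, add_sub_assoc, add_sub_cancel_left, map_sub, map_smul, map_smul,
        hg.1, hg.2]
    have hmove : ∀ v, (c.1 * g.1 * c.1⁻¹).1 (e.1 v - v) = e.1 v - v := fun v => by
      rw [H43.orth_mul_apply, H43.orth_mul_apply, map_sub (c.1⁻¹).1, hci, hfix, map_sub, hc,
        H43.orth_apply_inv_self]
    have e1 : e.1 ((0, Pi.single 1 1, 0) : Sp (k + 3) δ F) - (0, Pi.single 1 1, 0) = p1 := by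
      rw [zO_E01_apply_gen]; simp [sPair0, polB_Qf, p1, Prod.ext_iff]
    have e2 : e.1 ((0, Pi.single 0 1, 0) : Sp (k + 3) δ F) - (0, Pi.single 0 1, 0) = -p2 := by
      rw [zO_E01_apply_gen]; simp [sPair0, polB_Qf, p2, Prod.ext_iff]
    refine ⟨?_, ?_⟩
    · have := hmove (0, Pi.single 1 1, 0); rwa [e1] at this
    · have := hmove (0, Pi.single 0 1, 0); rw [e2, map_neg, neg_inj] at this; exact this
  let T1 : SpecialLinearGroup (Fin (k + 3)) F :=
    SpecialLinearGroup.transvection (one_ne_zero' (k := k)) (1 : F)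
  let T2 : SpecialLinearGroup (Fin (k + 3)) F :=
    SpecialLinearGroup.transvection (one_ne_zero' (k := k)).symm (1 : F)
  have h2F : (2 : F) = 0 := by
    have := FiniteField.cast_card_eq_zero F
    rw [hq] at this; exact_mod_cast this
  have hx : ∀ x : Fin (k + 3) → F, (T1 * T2).1 *ᵥ x =
      x + Pi.single 1 (x 0) + Pi.single 0 (x 1 + x 0) := fun x => by
    rw [Matrix.SpecialLinearGroup.coe_mul, ← mulVec_mulVec]
    show Matrix.transvection 0 1 (1 : F) *ᵥ (Matrix.transvection 1 0 (1 : F) *ᵥ x) = _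
    rw [transvection_mulVec, transvection_mulVec]
    simp
  have h3 : (T1 * T2) ^ 3 = 1 := by
    refine Subtype.ext (Matrix.toLin'.injective (LinearMap.ext fun x => ?_))
    rw [pow_succ, pow_two, Matrix.SpecialLinearGroup.coe_mul, Matrix.SpecialLinearGroup.coe_mul,
      Matrix.toLin'_apply, Matrix.toLin'_apply, ← mulVec_mulVec, ← mulVec_mulVec, hx, hx, hx,
      Matrix.SpecialLinearGroup.coe_one, one_mulVec]
    funext i
    by_cases i0 : i = 0
    · subst i0; simp; linear_combination (6 * x 0 + 4 * x 1) * h2F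
    by_cases i1 : i = 1
    · subst i1; simp; linear_combination (4 * x 0 + 2 * x 1) * h2F
    simp [i0, i1]
  set h := levO Q0 (SpecialLinearGroup.toGL (T1 * T2)) with hh
  have hmemC : h ∈ cRoot Q0 k := by
    rw [Subgroup.mem_centralizer_singleton_iff, hh, levO_zO]
    congr 2
    rw [E01, cong_wedge]
    show wedge ((T1 * T2).1 *ᵥ Pi.single 0 1) ((T1 * T2).1 *ᵥ Pi.single 1 1) = _
    rw [hx, hx]
    refine Alt.ext fun a b => ?_
    simp only [wedge_apply, Pi.add_apply, Pi.single_apply]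
    by_cases a0 : a = 0 <;> by_cases a1 : a = 1 <;> by_cases b0 : b = 0 <;> by_cases b1 : b = 1 <;>
      simp_all [one_ne_zero'] <;> linear_combination h2F
  let hC : cRoot Q0 k := ⟨h, hmemC⟩
  haveI := hN
  let π := QuotientGroup.mk' (St.subgroupOf (cRoot Q0 k))
  have hne : π hC ≠ 1 := by
    rw [Ne, QuotientGroup.mk'_apply, QuotientGroup.eq_one_iff, Subgroup.mem_subgroupOf, h2]
    intro hf
    have := congrArg (fun v : Sp (k + 3) δ F => v.1 1) hf.1
    simp only [hC, hh, hp1, sPair0, levO_apply] at this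
    rw [show (SpecialLinearGroup.toGL (T1 * T2)).1 = (T1 * T2).1 from rfl, hx] at this
    simp at this
  have hord : orderOf (π hC) = 3 := by
    haveI : Fact (Nat.Prime 3) := ⟨Nat.prime_three⟩
    refine orderOf_eq_prime ?_ hne
    rw [← map_pow]
    convert map_one π
    refine Subtype.ext ?_
    show h ^ 3 = 1
    rw [hh, ← map_pow, ← map_pow, h3, map_one, map_one]
  have hdiv : 3 ∣ St.relIndex (cRoot Q0 k) := by
    have := orderOf_dvd_natCard (π hC)
    rwa [hord] at this
  rw [← h1, ← Subgroup.relIndex_mul_index hle]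
  exact Nat.mul_dvd_mul_right hdiv _

include hQ0 in
theorem card_sPair :
    Nat.card {p // SPair Q0 k p} =
      nSing Q0 (k + 3) * (Fintype.card F * nSing Q0 (k + 2)) := by
  classical
  let S := {u : Sp (k + 3) δ F // u ≠ 0 ∧ Qf (k + 3) Q0 u = 0}
  let fib : S → Type _ := fun u => {v : Sp (k + 3) δ F // SPair Q0 k (u.1, v)}
  have e : {p // SPair Q0 k p} ≃ Σ u : S, fib u :=
    { toFun := fun p => ⟨⟨p.1.1, by
        have := p.2.1.ne_zero 0
        exact ⟨this, p.2.2.1⟩⟩, p.1.2, p.2⟩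
      invFun := fun q => ⟨(q.1.1, q.2.1), q.2.2⟩
      left_inv := fun p => rfl
      right_inv := fun q => rfl }
  have hu0 : (sPair0 k δ F).1 ≠ 0 := (sPair_sPair0 Q0).1.ne_zero 0
  let u0 : S := ⟨(sPair0 k δ F).1, hu0, (sPair_sPair0 Q0).2.1⟩
  have hfib : ∀ u : S, Nat.card (fib u) = Nat.card (fib u0) := by
    intro u
    obtain ⟨g, hg⟩ := H43.exists_orth_map (polB_Qf_nondeg hQ0) u.2.1 hu0
      (u.2.2.trans (sPair_sPair0 Q0).2.1.symm)
    refine Nat.card_congr (Equiv.subtypeEquiv g.1.toEquiv fun v => ?_)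
    show SPair Q0 k (u.1, v) ↔ SPair Q0 k ((sPair0 k δ F).1, g.1 v)
    rw [← hg]
    have hl : ∀ a b : Sp (k + 3) δ F,
        LinearIndependent F ![g.1 a, g.1 b] ↔ LinearIndependent F ![a, b] := fun a b => by
      have hfun : ![g.1 a, g.1 b] = (g.1 : Sp (k + 3) δ F →ₗ[F] Sp (k + 3) δ F) ∘ ![a, b] := by
        funext i; fin_cases i <;> rfl
      rw [hfun, LinearMap.linearIndependent_iff _ (LinearEquiv.ker g.1)]
    simp only [SPair, hl, H43.orth_qmap, H43.orth_polB_map]
  have h0 : Nat.card (fib u0) = Fintype.card F * nSing Q0 (k + 2) := by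
    rw [nSing, ← Nat.card_eq_fintype_card (α := F), ← Nat.card_prod]
    have hmemfib : ∀ v : Sp (k + 3) δ F, SPair Q0 k ((sPair0 k δ F).1, v) ↔
        v.2.1 0 = 0 ∧ (Fin.tail v.1, Fin.tail v.2.1, v.2.2) ≠ 0 ∧
          Qf (k + 2) Q0 (Fin.tail v.1, Fin.tail v.2.1, v.2.2) = 0 := by
      rintro ⟨x, y, w⟩
      have hdot : x ⬝ᵥ y = x 0 * y 0 + Fin.tail x ⬝ᵥ Fin.tail y := by
        rw [dotProduct, Fin.sum_univ_succ]; rfl
      constructor
      · rintro ⟨hli, -, hq, hb⟩
        have hy0 : y 0 = 0 := by simpa [sPair0, polB_Qf] using hb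
        rw [Qf_apply, hdot, hy0, mul_zero, zero_add] at hq
        refine ⟨hy0, fun hz => ?_, by rw [Qf_apply]; exact hq⟩
        have hx := congrArg Prod.fst hz
        have hy := congrArg (fun p => p.2.1) hz
        have hw : w = 0 := congrArg (fun p => p.2.2) hz
        have := (LinearIndependent.pair_iff.1 hli (x 0) (-1) ?_).2
        · simp at this
        refine Prod.ext (funext fun i => ?_) (Prod.ext (funext fun i => ?_) ?_)
        · refine Fin.cases ?_ (fun i => ?_) i
          · simp [sPair0]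
          · simpa [sPair0, Fin.tail] using congrFun hx i
        · refine Fin.cases ?_ (fun i => ?_) i
          · simp [sPair0, hy0]
          · simpa [sPair0, Fin.tail] using congrFun hy i
        · simp [sPair0, hw]
      · rintro ⟨hy0, hne, hq⟩
        dsimp only at hy0 hq hne
        refine ⟨?_, (sPair_sPair0 Q0).2.1, ?_, by simpa [sPair0, polB_Qf] using hy0⟩
        · rw [LinearIndependent.pair_iff]
          intro s t h
          by_cases ht : t = 0
          · subst ht
            have h0 := congrArg (fun v : Sp (k + 3) δ F => v.1 0) h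
            simp [sPair0] at h0
            exact ⟨h0, rfl⟩
          · exfalso
            apply hne
            refine Prod.ext (funext fun i => ?_) (Prod.ext (funext fun i => ?_) (funext fun i => ?_))
            · have h0 := congrArg (fun v : Sp (k + 3) δ F => v.1 i.succ) h
              simpa [sPair0, ht, Fin.tail] using h0
            · have h0 := congrArg (fun v : Sp (k + 3) δ F => v.2.1 i.succ) h
              simpa [sPair0, ht, Fin.tail] using h0
            · have h0 := congrArg (fun v : Sp (k + 3) δ F => v.2.2 i) h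
              simpa [sPair0, ht] using h0
        · rw [Qf_apply] at hq
          rw [Qf_apply, hdot, hy0, mul_zero, zero_add, hq]
    refine Nat.card_congr
      { toFun := fun v => (v.1.1 0, ⟨(Fin.tail v.1.1, Fin.tail v.1.2.1, v.1.2.2),
          ((hmemfib v.1).1 v.2).2⟩)
        invFun := fun q => ⟨(Fin.cons q.1 q.2.1.1, Fin.cons 0 q.2.1.2.1, q.2.1.2.2),
          (hmemfib _).2 ⟨rfl, by simpa using q.2.2⟩⟩
        left_inv := fun v => by
          obtain ⟨⟨x, y, w⟩, hv⟩ := v
          have hy0 : y 0 = 0 := ((hmemfib _).1 hv).1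
          refine Subtype.ext (Prod.ext ?_ (Prod.ext ?_ rfl))
          · exact Fin.cons_self_tail x
          · show Fin.cons 0 (Fin.tail y) = y
            rw [← hy0, Fin.cons_self_tail]
        right_inv := fun q => by simp }
  rw [Nat.card_congr e, Nat.card_sigma, Finset.sum_congr rfl fun u _ => hfib u, Finset.sum_const,
    smul_eq_mul, Finset.card_univ, ← Nat.card_eq_fintype_card, h0]
  rfl

open scoped Classical in
/-- integrality of the central character at a long root element -/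
theorem degree_dvd_class {d : ℕ} (hd0 : d ≠ 0)
    (ρ : Representation ℂ (GG (k + 3) Q0) (Fin d → ℂ)) (hirr : ρ.IsIrreducible) (h : ℕ)
    (heV : ∀ ω : Alt (k + 3) F, ω ≠ 0 → eV ρ ω = if Dec ω then h else 0) :
    d ∣ (cRoot Q0 k).index * (h * Fintype.card F ^ (2 * k + 3)) := by
  haveI := hirr
  letI : Fintype (GG (k + 3) Q0) := Fintype.ofFinite _
  have hint := H12.isIntegral_classSize_mul_char_div ρ (gZ 1)
  set I := (Subgroup.centralizer ({gZ 1} : Set (GG (k + 3) Q0))).index with hI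
  rw [character_gZ ρ h heV, Module.finrank_fin_fun] at hint
  set c := h * Fintype.card F ^ (2 * k + 3)
  have hdvd : d ∣ I * c := by
    refine H12.nat_dvd_of_isIntegral_div hd0 ?_
    have : ((I * c : ℕ) : ℂ) / (d : ℂ) =
        (I : ℂ) - (I : ℂ) * ((d : ℂ) - (c : ℂ)) / (d : ℂ) := by
      have : (d : ℂ) ≠ 0 := Nat.cast_ne_zero.2 hd0
      field_simp
      push_cast
      ring
    rw [this]
    exact (isIntegral_algebraMap (R := ℤ) (A := ℂ) (x := (I : ℤ))).sub hint
  set C := cRoot Q0 k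
  have hgZ : (gZ (1 : F) : GG (k + 3) Q0).1 = zO Q0 (E01 k F) := rfl
  have hIC : Subgroup.centralizer ({gZ 1} : Set (GG (k + 3) Q0)) =
      C.subgroupOf (GG (k + 3) Q0) := by
    ext g
    rw [Subgroup.mem_subgroupOf, Subgroup.mem_centralizer_singleton_iff,
      Subgroup.mem_centralizer_singleton_iff, Subtype.ext_iff, Subgroup.coe_mul, Subgroup.coe_mul,
      hgZ]
  have hIdvd : I ∣ C.index := by
    rw [hI, hIC]
    show C.relIndex (GG (k + 3) Q0) ∣ _
    have h1 := Subgroup.relIndex_mul_index (inf_le_left : C ⊓ GG (k + 3) Q0 ≤ C)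
    have h2 := Subgroup.relIndex_mul_index (inf_le_right : C ⊓ GG (k + 3) Q0 ≤ _)
    rw [Subgroup.inf_relIndex_left] at h1
    rw [Subgroup.inf_relIndex_right, ← h1] at h2
    obtain ⟨y, hy⟩ := Subgroup.relIndex_dvd_index_of_normal (GG (k + 3) Q0) C
    rw [hy] at h2
    refine ⟨y, ?_⟩
    have hne0 : (GG (k + 3) Q0).relIndex C ≠ 0 := fun h0 => by
      rw [h0, zero_mul] at hy
      exact Subgroup.index_ne_zero_of_finite hy
    apply mul_left_cancel₀ hne0
    rw [← h2]; ring
  exact hdvd.trans (mul_dvd_mul_right hIdvd _)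

end H19.OM
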