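import Cfsg.Agent.H19.OM.RootFix

/-!
# Rank three: the Levi of the point stabiliser moves the vectors fixed by the point radical
-/

set_option autoImplicit false
set_option linter.unusedSectionVars false

namespace H19.OM

open Module Matrix H50.LS
open H43 (polB orthGroup refl)

variable {F : Type*} [Field F] [Fintype F] [DecidableEq F] {δ : ℕ}
variable {Q0 : QuadraticForm F (Fin δ → F)}
variable {V : Type*} [AddCommGroup V] [Module ℂ V] [FiniteDimensional ℂ V]
variable (ρ : GG (0 + 3) Q0 →* Module.End ℂ V)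

theorem two_ne_zero'' : (2 : Fin (0 + 3)) ≠ 0 := by decide

theorem two_ne_one'' : (2 : Fin (0 + 3)) ≠ 1 := by decide

theorem wedge_single_decomp (b : Fin (0 + 3) → F) :
    wedge (Pi.single 2 1) b = wedge (Pi.single 2 1) (Pi.single 0 (b 0)) +
      wedge (Pi.single 2 1) (Pi.single 1 (b 1)) := by
  refine Alt.ext fun i j => ?_
  rw [AddSubgroup.coe_add, Matrix.add_apply, wedge_apply, wedge_apply, wedge_apply]
  fin_cases i <;> fin_cases j <;> simp <;> ring

theorem alt_three_decomp (A : Alt (0 + 3) F) :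
    A = wedge (Pi.single 0 (A.1 0 1)) (Pi.single 1 1) +
      wedge (Pi.single 2 1) (-Pi.single 0 (A.1 0 2) + -Pi.single 1 (A.1 1 2)) := by
  refine Alt.ext fun i j => ?_
  rw [AddSubgroup.coe_add, Matrix.add_apply, wedge_apply, wedge_apply]
  fin_cases i <;> fin_cases j <;>
    simp [Alt.dg, Alt.sk A 0 1, Alt.sk A 0 2, Alt.sk A 1 2] <;>
    first | ring1 | exact Alt.dg A _

open scoped Classical in
theorem root_moves_point (hQ0 : (polB Q0).Nondegenerate) (hrot : HasRot 0 Q0) {w0 : Fin δ → F}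
    (hw0 : Q0 w0 = -1) (hsurj : ∀ c, ∃ b, Q0 b = c)
    (heV : ∀ ω : Alt (0 + 3) F, ω ≠ 0 → eV ρ ω = if Dec ω then Fintype.card F ^ δ else 0)
    (hN : ∀ s w, ∀ x ∈ Vw ρ 0, ρ (gu Q0 s w) x = x) :
    ∃ t, ∃ x ∈ Vw ρ 0, (∀ s, ρ (gT two_ne_zero'' s) x = x) ∧
      (∀ s, ρ (gT two_ne_one'' s) x = x) ∧ ρ (gY t) x ≠ x := by
  by_contra hcon
  push Not at hcon
  set S := gS1 (k := 0) hQ0 hw0
  -- relations
  have hSS : S * S = 1 := by
    apply Subtype.ext
    show (flipO Q0 _ * wLift Q0 _) * (flipO Q0 _ * wLift Q0 _) = 1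
    refine H43.orth_ext fun v => ?_
    obtain ⟨x, y, w⟩ := v
    simp only [H43.orth_mul_apply, flipO_apply, wLift_apply, H43.orth_one_apply, Prod.mk.injEq]
    refine ⟨funext fun i => by split_ifs <;> rfl, funext fun i => by split_ifs <;> rfl, ?_⟩
    exact H43.reflLin_invol (Q := Q0) w0 w
  have hgu : ∀ w, S * gu Q0 (Pi.single 2 1) w = gu Q0 (Pi.single 2 1) ((refl Q0 w0).1 w) * S := by
    intro w
    apply Subtype.ext
    show (flipO Q0 _ * wLift Q0 _) * uO Q0 _ w = uO Q0 _ _ * (flipO Q0 _ * wLift Q0 _)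
    rw [mul_assoc, wLift_uO, ← mul_assoc, ← mul_assoc]
    congr 1
    refine H43.orth_ext fun v => ?_
    obtain ⟨x, y, z⟩ := v
    simp only [H43.orth_mul_apply, uO_apply, flipO_apply, single_dotProduct, one_mul,
      decide_eq_true_eq, two_ne_one'', if_false, Prod.mk.injEq, and_true]
    refine ⟨funext fun i => ?_, funext fun i => ?_⟩ <;>
      fin_cases i <;> simp
  have h20 : ∀ t, S * gT two_ne_zero'' t = gT two_ne_zero'' t * S := by
    intro t
    apply Subtype.ext
    show (flipO Q0 _ * wLift Q0 _) * (gT two_ne_zero'' t).1 =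
      (gT two_ne_zero'' t).1 * (flipO Q0 _ * wLift Q0 _)
    rw [isLev_gT two_ne_zero'' t, mul_assoc, wLift_levO, ← mul_assoc, ← mul_assoc]
    congr 1
    refine H43.orth_ext fun v => ?_
    obtain ⟨x, y, z⟩ := v
    simp only [H43.orth_mul_apply, levO_apply, flipO_apply, tvG_inv, tvG_val, Prod.mk.injEq,
      and_true]
    rw [Matrix.transvection, Matrix.transvection, Matrix.transpose_add, Matrix.transpose_one,
      Matrix.transpose_single, ← Matrix.transvection, ← Matrix.transvection]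
    simp only [transvection_mulVec]
    refine ⟨funext fun i => ?_, funext fun i => ?_⟩ <;>
      fin_cases i <;> simp
  have h21 : ∀ t, S * gT two_ne_one'' t =
      gz Q0 (wedge (Pi.single 2 1) (Pi.single 1 t)) * S := by
    intro t
    apply Subtype.ext
    show (flipO Q0 _ * wLift Q0 _) * (gT two_ne_one'' t).1 =
      zO Q0 _ * (flipO Q0 _ * wLift Q0 _)
    rw [isLev_gT two_ne_one'' t, mul_assoc, wLift_levO, ← mul_assoc, ← mul_assoc]
    congr 1
    refine H43.orth_ext fun v => ?_
    obtain ⟨x, y, z⟩ := v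
    simp only [H43.orth_mul_apply, levO_apply, flipO_apply, zO_apply, tvG_inv, tvG_val,
      Prod.mk.injEq, and_true]
    rw [Matrix.transvection, Matrix.transvection, Matrix.transpose_add, Matrix.transpose_one,
      Matrix.transpose_single, ← Matrix.transvection, ← Matrix.transvection]
    simp only [transvection_mulVec, wedge_mulVec, single_dotProduct]
    refine ⟨funext fun i => ?_, funext fun i => ?_⟩ <;>
      fin_cases i <;> simp [mul_comm]
  have h21' : ∀ t, gT two_ne_one'' t * S = S * gz Q0 (wedge (Pi.single 2 1) (Pi.single 1 t)) := by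
    intro t
    have := congrArg (fun g => S * g * S) (h21 t)
    simp only [← mul_assoc, hSS, one_mul] at this
    rwa [mul_assoc _ S S, hSS, mul_one] at this
  -- the two subspaces
  let base : Submodule ℂ V :=
    { carrier := {x | (∀ s, ρ (gT two_ne_zero'' s) x = x) ∧ (∀ s, ρ (gT two_ne_one'' s) x = x) ∧
        (∀ b, ρ (gz Q0 (wedge (Pi.single 2 1) b)) x = x) ∧
        ∀ w, ρ (gu Q0 (Pi.single 2 1) w) x = x}
      add_mem' := fun {a b} ha hb => ⟨fun s => by rw [map_add, ha.1, hb.1],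
        fun s => by rw [map_add, ha.2.1, hb.2.1], fun s => by rw [map_add, ha.2.2.1, hb.2.2.1],
        fun s => by rw [map_add, ha.2.2.2, hb.2.2.2]⟩
      zero_mem' := ⟨fun _ => map_zero _, fun _ => map_zero _, fun _ => map_zero _,
        fun _ => map_zero _⟩
      smul_mem' := fun c x hx => ⟨fun s => by rw [map_smul, hx.1], fun s => by rw [map_smul, hx.2.1],
        fun s => by rw [map_smul, hx.2.2.1], fun s => by rw [map_smul, hx.2.2.2]⟩ }
  let Zf : Submodule ℂ V :=
    { carrier := {x | ∀ t, ρ (gZ t) x = x}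
      add_mem' := fun {a b} ha hb t => by rw [map_add, ha, hb]
      zero_mem' := fun t => map_zero _
      smul_mem' := fun c x hx t => by rw [map_smul, hx] }
  let Yf : Submodule ℂ V :=
    { carrier := {x | ∀ t, ρ (gY t) x = x}
      add_mem' := fun {a b} ha hb t => by rw [map_add, ha, hb]
      zero_mem' := fun t => map_zero _
      smul_mem' := fun c x hx t => by rw [map_smul, hx] }
  -- `ρ S` carries `base ⊓ Yf` into `base ⊓ Zf`
  have hle' : finrank ℂ (base ⊓ Yf : Submodule ℂ V) ≤ finrank ℂ (base ⊓ Zf : Submodule ℂ V) := by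
    refine finrank_le_of_map (T := ρ S) (rho_inv_mul ρ S) ?_
    rintro x ⟨⟨a, b, c, d⟩, e⟩
    have key : ∀ g g' : GG (0 + 3) Q0, g * S = S * g' → ρ g' x = x → ρ g (ρ S x) = ρ S x := by
      intro g g' h hx'
      rw [← Module.End.mul_apply, ← map_mul, h, map_mul, Module.End.mul_apply, hx']
    have hz : ∀ t, gz Q0 (wedge (Pi.single 2 1) (Pi.single 1 t)) * S = S * gT two_ne_one'' t :=
      fun t => (h21 t).symm
    refine ⟨⟨fun s => key _ _ (h20 s).symm (a s), fun s => key _ _ (h21' s) (c _), fun v => ?_,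
      fun w => ?_⟩, fun t => key _ _ (gS1_mul_gY (k := 0) hQ0 hw0 t).symm (e t)⟩
    · rw [wedge_single_decomp, gz_add, map_mul, Module.End.mul_apply, key _ _ (hz _) (b _)]
      refine key _ _ (gS1_mul_gz hQ0 hw0 ?_).symm (c _)
      funext j
      simp [wedge_apply]
    · refine key _ (gu Q0 (Pi.single 2 1) ((refl Q0 w0).1 w)) ?_ (d _)
      rw [hgu]
      congr 2
      rw [show (refl Q0 w0).1 ((refl Q0 w0).1 w) = w from H43.reflLin_invol (Q := Q0) w0 w]
  -- vectors fixed by the centre lie in the fixed space, hence are fixed by the root group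
  have hsub : base ⊓ Zf ≤ base ⊓ Yf := by
    rintro x ⟨hb, hz⟩
    refine ⟨hb, fun t => hcon t x ?_ hb.1 hb.2.1⟩
    intro A
    rw [chr_zero, AddChar.zero_apply, one_smul]
    show ρ (gz Q0 A) x = x
    rw [alt_three_decomp A, gz_add, map_mul, Module.End.mul_apply, hb.2.2.1]
    exact hz _
  have heq : base ⊓ Zf = base ⊓ Yf := Submodule.eq_of_le_of_finrank_le hsub hle'
  -- the standard eigenspace gives one more vector
  have hdE : eV ρ (E01 0 F) = Fintype.card F ^ δ := by rw [heV _ dec_E01.1, if_pos dec_E01]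
  obtain ⟨x, hx, hx0, hxY⟩ := exists_fixed_E01_surj ρ hQ0 hsurj hdE
  have hr2 : (E01 0 F).1 2 = 0 := funext fun b => by simp [E01, wedge_apply]
  have hrow0 : ∀ b, b ≠ 1 → (E01 0 F).1 0 b = 0 := fun b hb => by
    rw [E01_row0, Pi.single_eq_of_ne hb]
  have hrow1 : ∀ b, b ≠ 0 → (E01 0 F).1 1 b = 0 := fun b hb => by
    simp [E01, wedge_apply, hb]
  have hxK : x ∈ base ⊓ Yf := by
    refine ⟨⟨fun s => gT_trivial ρ hQ0 hrot two_ne_zero'' two_ne_one''
        (one_ne_zero' (k := 0)).symm dec_E01.1 hr2 hrow1 hdE s x hx,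
      fun s => gT_trivial ρ hQ0 hrot two_ne_one'' two_ne_zero'' (one_ne_zero' (k := 0)) dec_E01.1
        hr2 hrow0 hdE s x hx, fun b => ?_, fun w => ?_⟩, hxY⟩
    · rw [gz_apply ρ hx, chr_wedge, ← ev, ev_eq_zero_of_row hr2, AddChar.map_zero_eq_one, one_smul]
    · exact gu_rad_trivial ρ hQ0 hrot dec_E01.1 hdE (fun b => ev_eq_zero_of_row hr2 _ b) w x hx
  rw [← heq] at hxK
  obtain ⟨s, hs⟩ : ∃ s, H40.MinDeg.psi F s ≠ 1 := by
    by_contra h
    push Not at h
    exact H40.MinDeg.psi_ne_one (F := F) (DFunLike.ext _ _ h)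
  have hfs := hxK.2 s
  have hzs : ρ (gZ s) x = H40.MinDeg.psi F s • x := by
    show ρ (gz Q0 _) x = _
    rw [gz_apply ρ hx, chr_apply, pr_wedge_single, E01_row0]
    simp
  rw [hfs] at hzs
  exact hs (smul_left_injective ℂ hx0 (by simp only; rw [one_smul]; exact hzs.symm))

end H19.OM
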