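import Cfsg.Agent.H19.OM.Plane
import Cfsg.Agent.H19.OM.PointStep
import Cfsg.Agent.H19.OM.LineStep
import Cfsg.Agent.H19.OM.Pairs

/-!
# The minimal degree of `Ω⁻`
-/

set_option autoImplicit false
set_option linter.unusedSectionVars false

namespace H19.OM

open Module Matrix H50.LS
open H43 (polB orthGroup)

variable {F : Type*} [Field F] [Fintype F] [DecidableEq F]

/-- coordinates of the minus form -/
noncomputable def minusL (m : ℕ) (F : Type*) [Field F] :
    ((Fin m ⊕ Fin m) ⊕ Fin 2 → F) ≃ₗ[F] Sp m 2 F where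
  toFun v := (fun i => v (.inl (.inl i)), fun i => v (.inl (.inr i)), fun i => v (.inr i))
  invFun p := Sum.elim (Sum.elim p.1 p.2.1) p.2.2
  map_add' u v := rfl
  map_smul' c v := rfl
  left_inv v := funext fun i => by rcases i with (i | i) | i <;> rfl
  right_inv p := rfl

theorem minusL_form (m : ℕ) (a b : F) (v : (Fin m ⊕ Fin m) ⊕ Fin 2 → F) :
    Qf m (qBin a b) (minusL m F v) = H43.qMinus m F a b v := by
  rw [show minusL m F v =
    ((fun i => v (.inl (.inl i))), (fun i => v (.inl (.inr i))), fun i => v (.inr i)) from rfl,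
    Qf_apply, qBin_apply, H43.coe_qMinus]
  simp [Cfsg.quadFormMinus, dotProduct, add_assoc]

theorem nSing_minus (m : ℕ) {a b : F} (hab : Aniso a b) :
    nSing (qBin a b) m = (Fintype.card F ^ (m + 1) + 1) * (Fintype.card F ^ m - 1) := by
  classical
  rw [← H38.minus_nonzero_zeros m a b hab]
  have e : {u : Sp m 2 F // u ≠ 0 ∧ Qf m (qBin a b) u = 0} ≃
      {v // v ≠ 0 ∧ Cfsg.quadFormMinus m F a b v = 0} :=
    ((minusL m F).toEquiv.subtypeEquiv fun v => by
      rw [LinearEquiv.coe_toEquiv, minusL_form, ← H43.coe_qMinus]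
      refine and_congr (not_congr ?_) Iff.rfl
      exact (LinearEquiv.map_eq_zero_iff _).symm).symm
  rw [nSing, Nat.card_congr e, Nat.card_eq_fintype_card, Nat.card_eq_fintype_card,
    Fintype.card_subtype, Fintype.card_subtype, ← Finset.filter_filter, Finset.filter_ne',
    Finset.filter_erase]
  rw [Finset.card_erase_of_mem]
  refine Finset.mem_filter.2 ⟨Finset.mem_univ _, ?_⟩
  simp [Cfsg.quadFormMinus]

theorem minus_arith_big {q : ℕ} (hq : 2 ≤ q) (k : ℕ) :
    (q ^ (k + 4) + 1) * (q ^ (k + 3) - q) ≤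
      ((q ^ (k + 2) - 1) * q ^ (k + 1) * 1 * q ^ (2 * 2)) * (q ^ 2 - 1) := by
  have h1 : 1 ≤ q ^ (k + 2) := Nat.one_le_pow _ _ (by omega)
  have h2 : q ≤ q ^ (k + 3) := Nat.le_self_pow (by omega) _
  have h3 : 1 ≤ q ^ 2 := Nat.one_le_pow _ _ (by omega)
  zify [h1, h2, h3]
  rw [pow_succ (q : ℤ) (k + 3), pow_succ (q : ℤ) (k + 2), pow_succ (q : ℤ) (k + 1)]
  have hX : (q : ℤ) ≤ (q : ℤ) ^ (k + 1) := le_self_pow₀ (by exact_mod_cast (by omega : 1 ≤ q)) (by omega)
  have hq' : (2 : ℤ) ≤ (q : ℤ) := by exact_mod_cast hq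
  generalize (q : ℤ) ^ (k + 1) = X at hX ⊢
  generalize (q : ℤ) = Q at hX hq' ⊢
  have hQ2 : 4 ≤ Q ^ 2 := by nlinarith
  have hQX : 4 ≤ Q * X := by nlinarith
  have hX0 : (0 : ℤ) ≤ X := by linarith
  have hQ4 : 0 ≤ Q ^ 4 := by positivity
  have b1 : X * Q ^ 2 ≤ X * Q ^ 4 := by
    nlinarith [mul_nonneg (mul_nonneg hX0 (by linarith : (0 : ℤ) ≤ Q ^ 2))
      (by linarith : (0 : ℤ) ≤ Q ^ 2 - 1)]
  have b2 : 2 * (X ^ 2 * Q ^ 5) ≤ 2 * ((X * Q - 1) * X * Q ^ 4 * (Q ^ 2 - 1)) := by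
    have h0 : 0 ≤ X * Q ^ 4 := mul_nonneg hX0 hQ4
    have h4 : X * Q ≤ 2 * (X * Q - 1) := by linarith
    have h5 : (3 : ℤ) ≤ Q ^ 2 - 1 := by linarith
    nlinarith [mul_le_mul (mul_le_mul_of_nonneg_right h4 h0) h5 (by norm_num)
      (mul_nonneg (by linarith) h0),
      mul_nonneg (mul_nonneg hX0 (by linarith : (0 : ℤ) ≤ X * Q)) hQ4]
  rw [mul_one, show (2 * 2 : ℕ) = 4 from rfl]
  have b3 := Int.le_of_mul_le_mul_left b2 (by norm_num)
  linear_combination b1 + b3 + hq'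

/-- rank three: the single line leads to a contradiction -/
theorem line_contra {δ : ℕ} {Q0 : QuadraticForm F (Fin δ → F)}
    {V : Type*} [AddCommGroup V] [Module ℂ V] [FiniteDimensional ℂ V]
    (ρ : GG (0 + 3) Q0 →* Module.End ℂ V)
    (hmove : ∃ t, ∃ x ∈ Vw ρ 0, (∀ s, ρ (gT two_ne_zero'' s) x = x) ∧
      (∀ s, ρ (gT two_ne_one'' s) x = x) ∧ ρ (gY t) x ≠ x)
    (hc : H40.MinDeg.cdim (m := 2) (levN ρ) = 1) :
    (3 < Fintype.card F → False) ∧ (Fintype.card F = 2 → 7 ≤ eV ρ 0) := by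
  let σ : Representation ℂ (SpecialLinearGroup (Fin (2 + 1)) F) (Vw ρ 0) := levN ρ
  obtain ⟨v, χ, hv, hvx, hvA, hspan⟩ := exists_line_char σ hc
  obtain ⟨t, x, hx, hx20, hx21, hxY⟩ := hmove
  let p : SpecialLinearGroup (Fin (2 + 1)) F :=
    ⟨!![0, 1, 0; 0, 0, 1; 1, 0, 0], by simp [Matrix.det_fin_three]⟩
  have hσT : ∀ {i j : Fin (0 + 3)} (hij : i ≠ j) (s : F) (y : Vw ρ 0),
      (σ (SpecialLinearGroup.transvection hij s) y).1 = ρ (gT hij s) y.1 := fun hij s y => rfl
  set xs : Vw ρ 0 := σ p⁻¹ ⟨x, hx⟩ with hxs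
  have hp : ∀ z : Fin 2 → F, p * H40.translSL z =
      SpecialLinearGroup.transvection two_ne_zero'' (z 0) *
        SpecialLinearGroup.transvection two_ne_one'' (z 1) * p := by
    intro z
    apply Subtype.ext
    show p.1 * H40.transl z = Matrix.transvection 2 0 (z 0) * Matrix.transvection 2 1 (z 1) * p.1
    ext i j
    fin_cases i <;> fin_cases j <;>
      simp [p, H40.transl, Matrix.transvection, Matrix.mul_apply, Fin.sum_univ_three,
        Matrix.single_apply, Matrix.one_apply, Fin.cons, Fin.cases, Fin.induction,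
        Fin.induction.go]
  have hxfix : ∀ z : Fin 2 → F, σ (H40.translSL z) xs = xs := by
    intro z
    rw [hxs, ← Module.End.mul_apply, ← map_mul,
      show H40.translSL z * p⁻¹ = p⁻¹ * (SpecialLinearGroup.transvection two_ne_zero'' (z 0) *
        SpecialLinearGroup.transvection two_ne_one'' (z 1)) by
        rw [eq_inv_mul_iff_mul_eq, ← mul_assoc, hp, mul_inv_cancel_right],
      map_mul, map_mul, Module.End.mul_apply, Module.End.mul_apply]
    congr 1
    refine Subtype.ext ?_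
    show ρ (gT two_ne_zero'' (z 0)) (ρ (gT two_ne_one'' (z 1)) x) = x
    rw [hx21, hx20]
  have hproj : H40.MinDeg.proj σ 0 xs = xs := by
    have hz : ∀ z : Fin 2 → F,
        H40.MinDeg.psi F (-(z ⬝ᵥ 0)) • σ (H40.translSL z) xs = xs := fun z => by
      rw [hxfix, dotProduct_zero, neg_zero, AddChar.map_zero_eq_one, one_smul]
    simp only [H40.MinDeg.proj, LinearMap.smul_apply, LinearMap.sum_apply, hz, Finset.sum_const,
      Finset.card_univ, Fintype.card_fun, Fintype.card_fin]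
    rw [← Nat.cast_smul_eq_nsmul ℂ, smul_smul, Nat.cast_pow,
      inv_mul_cancel₀ H40.MinDeg.card_pow_ne_zero, one_smul]
  obtain ⟨c, hcv⟩ := hspan xs hproj
  have hmv : σ (H40.leviSL (SpecialLinearGroup.transvection
      (show (0 : Fin 2) ≠ 1 by decide) t)) v ≠ v := by
    intro h
    apply hxY
    have hq : p * H40.leviSL (SpecialLinearGroup.transvection (show (0 : Fin 2) ≠ 1 by decide) t) =
        SpecialLinearGroup.transvection (one_ne_zero' (k := 0)) t * p := by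
      apply Subtype.ext
      show p.1 * H40.levi (Matrix.transvection 0 1 t) = Matrix.transvection 0 1 t * p.1
      ext i j
      fin_cases i <;> fin_cases j <;>
        simp [p, H40.levi, Matrix.transvection, Matrix.mul_apply, Fin.sum_univ_three,
          Matrix.single_apply, Matrix.one_apply, Fin.cons, Fin.cases, Fin.induction,
          Fin.induction.go]
    have hx' : (⟨x, hx⟩ : Vw ρ 0) = σ p xs := by
      rw [hxs, ← Module.End.mul_apply, ← map_mul, mul_inv_cancel, map_one, Module.End.one_apply]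
    have h1 : σ (SpecialLinearGroup.transvection (one_ne_zero' (k := 0)) t) (⟨x, hx⟩ : Vw ρ 0) =
        ⟨x, hx⟩ := by
      rw [hx', ← Module.End.mul_apply, ← map_mul, ← hq, map_mul, Module.End.mul_apply]
      congr 1
      rw [hcv, map_smul, h]
    exact congrArg Subtype.val h1
  refine ⟨fun hq => hmv (line_trivial σ hq hv hvA t), fun hq => ?_⟩
  exact line_seven σ hq hv hvx hvA hspan hmv

open scoped Classical in
/-- the bound for the minus type -/
theorem minus_bound {k : ℕ} {a b : F} (hab : Aniso a b) {d : ℕ}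
    (ρ : Representation ℂ (GG (k + 3) (qBin a b)) (Fin d → ℂ)) (hirr : ρ.IsIrreducible)
    (hne : ρ (gz (qBin a b) (E01 k F)) ≠ 1) :
    (Fintype.card F ^ (k + 4) + 1) * (Fintype.card F ^ (k + 3) - Fintype.card F) ≤
      d * (Fintype.card F ^ 2 - 1) := by
  have hQ0 := qBin_nondeg hab
  have hrot := qBin_hasRot hab k
  obtain ⟨w0, hw0⟩ := qBin_surj hab (-1)
  have hq : 2 ≤ Fintype.card F := Fintype.one_lt_card
  have hd0 : d ≠ 0 := by
    intro hd0; subst hd0
    exact hne (LinearMap.ext fun x => Subsingleton.elim _ _)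
  have hroot : (∀ ω : Alt (k + 3) F, ω ≠ 0 → eV ρ ω = if Dec ω then Fintype.card F ^ 2 else 0) →
      (∀ ω : Alt (k + 3) F, Dec ω → ω.1 0 = 0 → ∀ t, ∀ x ∈ Vw ρ ω, ρ (gY t) x = x) ∧
        ∃ x ∈ Vw ρ (E01 k F), x ≠ 0 ∧ ∀ t, ρ (gY t) x = x := fun heV =>
    ⟨fun ω hω h0 => gY_trivial_rot ρ hQ0 hrot hw0 heV hω h0,
      exists_fixed_E01_surj ρ hQ0 (qBin_surj hab) (by rw [heV _ dec_E01.1, if_pos dec_E01])⟩
  set q := Fintype.card F with hqdef
  set D := Nat.card {ω : Alt (k + 3) F // Dec ω} with hDdef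
  have hD := card_dec (F := F) (k + 2)
  rw [show k + 2 + 1 = k + 3 from rfl, ← hqdef, ← hDdef] at hD
  have hp : ∀ i, 1 ≤ q ^ i := fun i => Nat.one_le_pow _ _ (by omega)
  have hqX : q ≤ q ^ (k + 3) := Nat.le_self_pow (by omega) _
  -- it is enough to bound the fixed space
  have henough : ∀ N : ℕ, q ^ 2 * D + N ≤ d → q ^ (k + 3) - q ≤ (q - 1) * N →
      (q ^ (k + 4) + 1) * (q ^ (k + 3) - q) ≤ d * (q ^ 2 - 1) := by
    intro N h1 h2
    refine le_trans ?_ (Nat.mul_le_mul_right _ h1)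
    zify [hp 2, hqX, (by omega : 1 ≤ q)] at h2 ⊢
    have hq1 : (0 : ℤ) ≤ (q : ℤ) + 1 := by positivity
    have h3 := mul_le_mul_of_nonneg_left h2 hq1
    rw [show ((q : ℤ) ^ 2 * D + N) * ((q : ℤ) ^ 2 - 1) =
      (q : ℤ) ^ 2 * (((q : ℤ) ^ 2 - 1) * D) + N * ((q : ℤ) ^ 2 - 1) by ring, hD]
    refine le_trans (le_of_eq ?_) (add_le_add le_rfl (h3.trans (le_of_eq (by ring))))
    ring
  rcases shapes_of ρ hQ0 hroot hne (fun _ : Unit => (1 : Fˣ))
      (fun _ _ _ => rfl) with h | h | ⟨hfin, heV, h⟩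
  · rw [Fintype.card_unit, Module.finrank_fin_fun] at h
    exact (minus_arith_big hq k).trans (Nat.mul_le_mul_right _ h)
  · rw [Module.finrank_fin_fun] at h
    rw [← hqdef, ← hDdef] at h
    refine henough (q ^ 2 * D) (by omega) ?_
    zify [hqX, (by omega : 1 ≤ q)]
    have hX : (q : ℤ) ≤ (q : ℤ) ^ (k + 2) :=
      le_self_pow₀ (by exact_mod_cast (by omega : 1 ≤ q)) (by omega)
    have hX3 : (0 : ℤ) ≤ (q : ℤ) ^ (k + 3) - 1 :=
      sub_nonneg.2 (by exact_mod_cast hp (k + 3))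
    have hq' : (2 : ℤ) ≤ (q : ℤ) := by exact_mod_cast hq
    have hX2 : (q : ℤ) ^ 2 ≤ (q : ℤ) ^ (k + 2) :=
      pow_le_pow_right₀ (by linarith) (by omega)
    have hq2 : 0 < (q : ℤ) ^ 2 - 1 := by nlinarith
    refine le_of_mul_le_mul_right (a := (q : ℤ) ^ 2 - 1) ?_ hq2
    rw [show ((q : ℤ) - 1) * ((q : ℤ) ^ 2 * D) * ((q : ℤ) ^ 2 - 1) =
      ((q : ℤ) - 1) * (q : ℤ) ^ 2 * (((q : ℤ) ^ 2 - 1) * D) by ring, hD]
    have hA : (q : ℤ) ^ (k + 3) - q ≤ (q : ℤ) ^ (k + 3) - 1 := by linarith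
    have hB : (q : ℤ) ^ 2 - 1 ≤ ((q : ℤ) - 1) * (q : ℤ) ^ 2 * ((q : ℤ) ^ (k + 2) - 1) := by
      nlinarith [mul_le_mul (by linarith : (1 : ℤ) ≤ (q : ℤ) - 1)
        (by linarith : (q : ℤ) ^ 2 - 1 ≤ (q : ℤ) ^ (k + 2) - 1) hq2.le (by linarith),
        mul_nonneg (mul_nonneg (by linarith : (0 : ℤ) ≤ (q : ℤ) - 1)
          (by nlinarith : (0 : ℤ) ≤ (q : ℤ) ^ 2 - 1))
          (by linarith : (0 : ℤ) ≤ (q : ℤ) ^ (k + 2) - 1)]
    calc ((q : ℤ) ^ (k + 3) - q) * ((q : ℤ) ^ 2 - 1) ≤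
        ((q : ℤ) ^ (k + 3) - 1) * ((q : ℤ) ^ 2 - 1) :=
          mul_le_mul_of_nonneg_right hA hq2.le
      _ ≤ ((q : ℤ) ^ (k + 3) - 1) *
          (((q : ℤ) - 1) * (q : ℤ) ^ 2 * ((q : ℤ) ^ (k + 2) - 1)) :=
          mul_le_mul_of_nonneg_left hB hX3
      _ = _ := by ring
  rw [Module.finrank_fin_fun, ← hqdef, ← hDdef] at hfin
  set N := eV ρ 0 with hNdef
  rcases h with h | ⟨hU, t, x, hx, hxt⟩
  · refine henough N (le_of_eq hfin.symm) ?_
    rw [← hqdef] at h
    calc q ^ (k + 3) - q ≤ q ^ (k + 3) - 1 := by omega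
      _ ≤ 1 * N := by omega
      _ ≤ (q - 1) * N := Nat.mul_le_mul_right _ (by omega)
  by_cases hex : H40.MinDeg.Exceptional F (k + 3)
  swap
  · refine henough N (le_of_eq hfin.symm) ?_
    exact eV_zero_bound ρ hex hx hxt
  by_contra hlt
  have hsmall : (q - 1) * N < q ^ (k + 3) - q := by
    by_contra hc
    exact hlt (henough N (le_of_eq hfin.symm) (by omega))
  -- the multiplicity of the translation characters
  let σ : Representation ℂ (SpecialLinearGroup (Fin (k + 2 + 1)) F) (Vw ρ 0) := levN ρ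
  have hNdim : N = finrank ℂ (Vw ρ 0) := rfl
  have hfq := H40.MinDeg.finrank_eq σ (H40.MinDeg.constOnTransl σ (by omega))
  rw [← hNdim, ← hqdef] at hfq
  have hmu : 1 ≤ H40.MinDeg.mult₁ σ := by
    by_contra h0
    apply hxt
    have h1 := H40.MinDeg.eq_one_of_mult₁_eq_zero σ (by omega) (by omega)
      (SpecialLinearGroup.transvection (one_ne_zero' (k := k)) t)
    exact congrArg Subtype.val (LinearMap.congr_fun h1 ⟨x, hx⟩)
  have hNlow : q ^ (k + 2) - 1 ≤ N := by
    rw [hfq]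
    exact le_trans (Nat.le_mul_of_pos_right _ hmu) (Nat.le_add_left _ _)
  have hdvd := (degree_dvd_class hd0 ρ hirr (q ^ 2) heV)
  rw [← hqdef] at hdvd
  have hpairs := card_sPair (k := k) hQ0
  rw [nSing_minus _ hab, nSing_minus _ hab, ← hqdef] at hpairs
  have hidx := cRoot_index_dvd (k := k) hQ0
  rw [hpairs] at hidx
  have hidx3 : q = 2 → 3 * (cRoot (qBin a b) k).index ∣ _ := fun h2 =>
    three_mul_cRoot_index_dvd (k := k) hQ0 h2
  rw [hpairs] at hidx3
  rcases hex with ⟨hk, h2 | h4⟩ | ⟨hk, h2 | h3⟩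
  · -- (3, 2)
    obtain rfl : k = 0 := by omega
    rw [← hqdef] at h2
    rw [h2] at hsmall hNlow hfq hD hdvd hfin hidx3
    norm_num at hsmall hNlow hfq hD hdvd hfin hidx3
    have hD' : D = 7 := by omega
    have hd : d = 32 := by
      have h := (Nat.mul_dvd_mul_left 3 hdvd).trans (dvd_of_eq (mul_assoc _ _ _).symm)
      have h := h.trans (Nat.mul_dvd_mul_right hidx3 _)
      norm_num at h
      have : d = 31 ∨ d = 32 ∨ d = 33 := by omega
      rcases this with rfl | rfl | rfl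
      · norm_num at h
      · rfl
      · norm_num at h
    have hμ : H40.MinDeg.mult₁ σ = 1 := by omega
    have hc : H40.MinDeg.cdim σ = 1 := by omega
    have hh := (line_contra ρ (root_moves_point ρ hQ0 hrot hw0 (qBin_surj hab) heV hU) hc).2
      (by omega)
    omega
  · -- (3, 4)
    obtain rfl : k = 0 := by omega
    rw [← hqdef] at h4
    rw [h4] at hsmall hNlow hfq hD hdvd hfin hidx
    norm_num at hsmall hNlow hfq hD hdvd hfin hidx
    have hD' : D = 63 := by omega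
    have hd : d = 1024 := by
      have h := hdvd.trans (Nat.mul_dvd_mul_right hidx _)
      norm_num at h
      have h1 : 1023 ≤ d := by omega
      have h2 : d ≤ 1027 := by omega
      have key : ∀ e : ℕ, 1023 ≤ e → e ≤ 1027 → e ∣ 64660377600 → e = 1024 := fun e a b c => by
        interval_cases e <;> first | rfl | norm_num at c
      exact key d h1 h2 h
    have hμ : H40.MinDeg.mult₁ σ = 1 := by omega
    have hc : H40.MinDeg.cdim σ = 1 := by omega
    exact (line_contra ρ (root_moves_point ρ hQ0 hrot hw0 (qBin_surj hab) heV hU) hc).1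
      (by omega)
  · -- (4, 2)
    obtain rfl : k = 1 := by omega
    rw [← hqdef] at h2
    rw [h2] at hsmall hNlow hfq hD hdvd hfin hidx3
    norm_num at hsmall hNlow hfq hD hdvd hfin hidx3
    have hD' : D = 35 := by omega
    have h := (Nat.mul_dvd_mul_left 3 hdvd).trans (dvd_of_eq (mul_assoc _ _ _).symm)
    have h := h.trans (Nat.mul_dvd_mul_right hidx3 _)
    norm_num at h
    have h1 : 147 ≤ d := by omega
    have h2 : d ≤ 153 := by omega
    have key : ∀ e : ℕ, 147 ≤ e → e ≤ 153 → ¬ 3 * e ∣ 15079680 := fun e a b c => by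
      interval_cases e <;> norm_num at c
    exact key d h1 h2 h
  · -- (4, 3)
    obtain rfl : k = 1 := by omega
    rw [← hqdef] at h3
    rw [h3] at hsmall hNlow hfq hD hdvd hfin hidx
    norm_num at hsmall hNlow hfq hD hdvd hfin hidx
    have hD' : D = 260 := by omega
    have h := hdvd.trans (Nat.mul_dvd_mul_right hidx _)
    norm_num at h
    have h1 : 2366 ≤ d := by omega
    have h2 : d ≤ 2378 := by omega
    have key : ∀ e : ℕ, 2366 ≤ e → e ≤ 2378 → ¬ e ∣ 273046775040 := fun e a b c => by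
      interval_cases e <;> norm_num at c
    exact key d h1 h2 h

end H19.OM
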