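import Cfsg.Agent.H19.OM.Orbit

/-!
# The vectors fixed by the centre of the unipotent radical
-/

set_option autoImplicit false
set_option linter.unusedSectionVars false

namespace H19.OM

open Module Matrix H50.LS
open H43 (polB)

variable {F : Type*} [Field F] [Fintype F] [DecidableEq F] {k δ : ℕ}
variable {Q0 : QuadraticForm F (Fin δ → F)}
variable {V : Type*} [AddCommGroup V] [Module ℂ V] [FiniteDimensional ℂ V]
variable (ρ : GG (k + 3) Q0 →* Module.End ℂ V)

theorem gz_fix {x : V} (hx : x ∈ Vw ρ 0) (A : Alt (k + 3) F) : ρ (gz Q0 A) x = x := by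
  rw [gz_apply ρ hx, chr_zero, AddChar.zero_apply, one_smul]

/-- `u(·, w)` on the fixed space -/
noncomputable def sRep (w : Fin δ → F) :
    Multiplicative (Fin (k + 3) → F) →* Module.End ℂ (Vw ρ 0) where
  toFun s := (ρ (gu Q0 s.toAdd w)).restrict fun _ hx => gu_mem ρ hx _ _
  map_one' := LinearMap.ext fun x => Subtype.ext (by
    show ρ (gu Q0 0 w) x.1 = x.1
    rw [show gu Q0 (0 : Fin (k + 3) → F) w = 1 from Subtype.ext (uO_zero_left Q0 w), map_one,
      Module.End.one_apply])
  map_mul' s t := LinearMap.ext fun x => Subtype.ext (by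
    show ρ (gu Q0 (s.toAdd + t.toAdd) w) x.1 =
      ρ (gu Q0 s.toAdd w) (ρ (gu Q0 t.toAdd w) x.1)
    rw [← Module.End.mul_apply, ← map_mul, gu_add_left, map_mul, Module.End.mul_apply,
      gz_fix ρ (gu_mem ρ x.2 _ _)])

/-- the additive character of a covector -/
noncomputable def covChr {m : ℕ} (φ : Fin m → F) : AddChar (Fin m → F) ℂ :=
  (H40.MinDeg.psi F).compAddMonoidHom
    { toFun := fun s => φ ⬝ᵥ s, map_zero' := dotProduct_zero φ, map_add' := dotProduct_add φ }

theorem covChr_bijective {m : ℕ} :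
    Function.Bijective (covChr : (Fin m → F) → AddChar (Fin m → F) ℂ) := by
  rw [Fintype.bijective_iff_injective_and_card]
  refine ⟨fun φ φ' h => ?_, by rw [AddChar.card_eq]⟩
  by_contra hne
  obtain ⟨j, hj⟩ := Function.ne_iff.1 hne
  apply psi_isPrimitive (F := F) (sub_ne_zero.2 hj)
  refine DFunLike.ext _ _ fun x => ?_
  rw [AddChar.mulShift_apply, AddChar.one_apply]
  have h1 : H40.MinDeg.psi F (φ ⬝ᵥ (Pi.single j x : Fin m → F)) =
      H40.MinDeg.psi F (φ' ⬝ᵥ (Pi.single j x : Fin m → F)) :=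
    DFunLike.congr_fun h (Pi.single j x : Fin m → F)
  rw [dotProduct_single, dotProduct_single] at h1
  rw [sub_mul, AddChar.map_sub_eq_div, h1, div_self (AddChar.val_isUnit _ _).ne_zero]

/-- Either the fixed space is large, or all translations fix it. -/
theorem fixed_dichotomy :
    Fintype.card F ^ (k + 3) - 1 ≤ eV ρ 0 ∨
      ∀ s w, ∀ x ∈ Vw ρ 0, ρ (gu Q0 s w) x = x := by
  classical
  by_cases h : ∀ w, sRep ρ w = 1
  · refine Or.inr fun s w x hx => ?_
    have := congrArg Subtype.val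
      (LinearMap.congr_fun (DFunLike.congr_fun (h w) (Multiplicative.ofAdd s)) ⟨x, hx⟩)
    exact this
  push Not at h
  obtain ⟨w, hw⟩ := h
  left
  obtain ⟨χ, hχ, hχne⟩ := exists_nontriv_eigSp hw
  obtain ⟨φ, rfl⟩ := covChr_bijective.2 χ
  have hφ : φ ≠ 0 := by
    rintro rfl
    exact hχ (DFunLike.ext _ _ fun s => by
      show H40.MinDeg.psi F ((0 : Fin (k + 3) → F) ⬝ᵥ s) = _
      rw [zero_dotProduct, AddChar.map_zero_eq_one, AddChar.zero_apply])
  have hall : ∀ φ' : {φ' : Fin (k + 3) → F // φ' ≠ 0},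
      1 ≤ finrank ℂ (eigSp (sRep ρ w) (covChr φ'.1)) := by
    intro φ'
    obtain ⟨g, hg⟩ := H40.exists_SL_mulVec_eq (F := F) (by omega) hφ φ'.2
    let h' := g.transpose⁻¹
    have hfix : ∀ x ∈ Vw ρ 0, ρ (gl Q0 h') x ∈ Vw ρ 0 := fun x hx =>
      mem_Vw_iff_cong ρ (isLev_gl Q0 h') (cong_zero _) hx
    refine le_trans (Submodule.one_le_finrank_iff.2 hχne) (finrank_le_of_map
      (T := (ρ (gl Q0 h')).restrict hfix)
      (T' := (ρ (gl Q0 h'⁻¹)).restrict fun x hx =>
        mem_Vw_iff_cong ρ (isLev_gl Q0 h'⁻¹) (cong_zero _) hx) ?_ fun x hx => ?_)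
    · refine LinearMap.ext fun x => Subtype.ext ?_
      show ρ (gl Q0 h'⁻¹) (ρ (gl Q0 h') x.1) = x.1
      rw [← Module.End.mul_apply, ← map_mul, ← map_mul, inv_mul_cancel, map_one, map_one,
        Module.End.one_apply]
    · intro s
      refine Subtype.ext ?_
      show ρ (gu Q0 s w) (ρ (gl Q0 h') x.1) = covChr φ'.1 s • ρ (gl Q0 h') x.1
      have hx' : ρ (gu Q0 ((SpecialLinearGroup.toGL h'⁻¹).1 *ᵥ s) w) x.1 =
          covChr φ ((SpecialLinearGroup.toGL h'⁻¹).1 *ᵥ s) • x.1 :=
        congrArg Subtype.val (hx ((SpecialLinearGroup.toGL h'⁻¹).1 *ᵥ s))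
      have hcomm : gu Q0 s w * gl Q0 h' =
          gl Q0 h' * gu Q0 ((SpecialLinearGroup.toGL h'⁻¹).1 *ᵥ s) w := by
        rw [(isLev_gl Q0 h').mul_gu, mulVec_mulVec, ← Units.val_mul, ← map_mul, mul_inv_cancel,
          map_one, Units.val_one, one_mulVec]
      rw [← Module.End.mul_apply, ← map_mul, hcomm, map_mul, Module.End.mul_apply, hx', map_smul]
      congr 1
      show H40.MinDeg.psi F (φ ⬝ᵥ _) = H40.MinDeg.psi F (φ'.1 ⬝ᵥ s)
      have : (SpecialLinearGroup.toGL h'⁻¹).1 = g.1ᵀ := by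
        rw [inv_inv]; rfl
      rw [this, dotProduct_mulVec, vecMul_transpose, hg]
  calc Fintype.card F ^ (k + 3) - 1
        = Fintype.card {φ' : Fin (k + 3) → F // φ' ≠ 0} := by
          rw [Fintype.card_subtype_compl, Fintype.card_subtype_eq, Fintype.card_fun,
            Fintype.card_fin]
    _ = ∑ _φ' : {φ' : Fin (k + 3) → F // φ' ≠ 0}, 1 := by simp
    _ ≤ ∑ φ' : {φ' : Fin (k + 3) → F // φ' ≠ 0}, finrank ℂ (eigSp (sRep ρ w) (covChr φ'.1)) :=
        Finset.sum_le_sum fun φ' _ => hall φ'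
    _ ≤ eV ρ 0 := by
        rw [← Finset.sum_image (f := fun χ => finrank ℂ (eigSp (sRep ρ w) χ))
          (g := fun φ' : {φ' : Fin (k + 3) → F // φ' ≠ 0} => covChr φ'.1)
          fun a _ b _ hab => Subtype.ext (covChr_bijective.1 hab)]
        exact sum_finset_le _ _

/-! ### Comparing the two conjugate root groups -/

theorem one_ne_zero' : (0 : Fin (k + 3)) ≠ 1 := by simp

/-- the long root group in the Levi -/
noncomputable def gY (t : F) : GG (k + 3) Q0 :=
  gl Q0 (SpecialLinearGroup.transvection (one_ne_zero' (k := k)) t)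

theorem isLev_gY (t : F) :
    IsLev Q0 (gY (Q0 := Q0) t) (tvG (one_ne_zero' (k := k)) t) := by
  rw [← toGL_transvection]; exact isLev_gl Q0 _

/-- the long root group in the radical -/
noncomputable def gZ (t : F) : GG (k + 3) Q0 := gz Q0 (wedge (Pi.single 0 t) (Pi.single 1 1))

theorem two_ne_one : (1 : Fin (k + 3)) ≠ 2 := by
  intro h
  have := congrArg Fin.val h
  simp [Nat.mod_eq_of_lt (show 2 < k + 3 by omega)] at this

/-- the conjugating element -/
noncomputable def gS : GG (k + 3) Q0 :=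
  ⟨flipO Q0 (fun j => decide (j = 1 ∨ j = 2)), flipO_pair_mem Q0 1 2 two_ne_one⟩

theorem gS_mul_gY (t : F) : (gS : GG (k + 3) Q0) * gY t = gZ t * gS := by
  have h20 : (0 : Fin (k + 3)) ≠ 2 := by
    intro h
    have := congrArg Fin.val h
    simp [Nat.mod_eq_of_lt (show 2 < k + 3 by omega)] at this
  apply Subtype.ext
  rw [Subgroup.coe_mul, Subgroup.coe_mul, isLev_gY t]
  refine H43.orth_ext fun v => ?_
  obtain ⟨x, y, w⟩ := v
  rw [H43.orth_mul_apply, H43.orth_mul_apply]
  show (flipO Q0 _).1 _ = (zO Q0 _).1 ((flipO Q0 _).1 _)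
  rw [levO_apply, flipO_apply, flipO_apply, zO_apply, tvG_inv, tvG_val, tvG_val,
    Matrix.transvection, Matrix.transvection, Matrix.transpose_add, Matrix.transpose_one,
    Matrix.transpose_single, ← Matrix.transvection, ← Matrix.transvection, transvection_mulVec,
    transvection_mulVec, wedge_mulVec, single_dotProduct, single_dotProduct]
  refine Prod.ext (funext fun i => ?_) (Prod.ext (funext fun i => ?_) rfl)
  · simp only [decide_eq_true_eq, Pi.add_apply, Pi.sub_apply, Pi.smul_apply, smul_eq_mul,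
      Pi.single_apply, h20, if_false, or_self, one_ne_zero', true_or, if_true, one_mul]
    by_cases h0 : i = 0
    · subst h0; simp [h20, mul_comm]
    · by_cases h1 : i = 1
      · subst h1; simp [h20]
      · simp [h0, h1]
  · simp only [decide_eq_true_eq, Pi.add_apply, Pi.single_apply]
    by_cases h0 : i = 0
    · subst h0; simp [h20]
    · by_cases h1 : i = 1
      · subst h1; simp
      · simp [h0, h1]

theorem trace_gY (t : F) :
    LinearMap.trace ℂ V (ρ (gY t)) = LinearMap.trace ℂ V (ρ (gZ t)) := by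
  have h : ρ (gY t) = ρ (gS)⁻¹ * (ρ (gZ t) * ρ gS) := by
    rw [← map_mul, ← gS_mul_gY, map_mul, ← mul_assoc, rho_inv_mul, one_mul]
  rw [h, LinearMap.trace_mul_comm, mul_assoc, ← map_mul, mul_inv_cancel, map_one, mul_one]

theorem trace_eq_sum (T : Module.End ℂ V) :
    LinearMap.trace ℂ V T =
      ∑ ω : Alt (k + 3) F, LinearMap.trace ℂ V (T * eigProj (Zr ρ) (chr ω)) := by
  rw [← map_sum, ← Finset.mul_sum,
    Fintype.sum_equiv (Equiv.ofBijective _ chr_bijective) (fun ω => eigProj (Zr ρ) (chr ω))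
      (fun χ => eigProj (Zr ρ) χ) fun _ => rfl,
    sum_eigProj_eq_one, mul_one]

theorem trace_gZ (t : F) : LinearMap.trace ℂ V (ρ (gZ t)) =
    ∑ ω : Alt (k + 3) F, H40.MinDeg.psi F (t * ω.1 0 1) * (eV ρ ω : ℂ) := by
  rw [trace_eq_sum ρ]
  refine Finset.sum_congr rfl fun ω _ => ?_
  have h : ρ (gZ t) * eigProj (Zr ρ) (chr ω) =
      chr ω (wedge (Pi.single 0 t) (Pi.single 1 1)) • eigProj (Zr ρ) (chr ω) :=
    LinearMap.ext fun x => gz_apply ρ (eigProj_mem (Zr ρ) (chr ω) x) _
  rw [h, map_smul, trace_eigProj, smul_eq_mul, chr_apply, pr_wedge_single, mul_one]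
  rfl

/-- the root group as a hom -/
noncomputable def Yr : Multiplicative F →* Module.End ℂ V where
  toFun t := ρ (gY t.toAdd)
  map_one' := by
    rw [toAdd_one, show gY (k := k) (Q0 := Q0) 0 = 1 from ?_, map_one]
    unfold gY
    rw [show SpecialLinearGroup.transvection (one_ne_zero' (k := k)) (0 : F) = 1 from
      Subtype.ext (Matrix.transvection_zero _ _), map_one]
  map_mul' s t := by
    rw [toAdd_mul, ← map_mul]
    congr 1
    unfold gY
    rw [← map_mul]
    congr 1
    exact Subtype.ext (Matrix.transvection_mul_transvection_same _ _ one_ne_zero' _ _).symm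

theorem Yr_apply (t : F) : Yr ρ (Multiplicative.ofAdd t) = ρ (gY t) := rfl

theorem gY_cong_val (t : F) :
    (((tvG (one_ne_zero' (k := k)) t)⁻¹).1)ᵀ = Matrix.transvection 1 0 (-t) := by
  rw [tvG_inv, tvG_val, Matrix.transvection, Matrix.transvection, Matrix.transpose_add,
    Matrix.transpose_one, Matrix.transpose_single]

theorem cong_tv10_apply (ω : Alt (k + 3) F) (s : F) (a b : Fin (k + 3)) :
    (cong (Matrix.transvection 1 0 s) ω).1 a b =
      (ω.1 a b + if a = 1 then s * ω.1 0 b else 0) +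
        if b = 1 then s * (ω.1 a 0 + if a = 1 then s * ω.1 0 0 else 0) else 0 := by
  have hrow : (Matrix.transvection 1 0 s : Matrix (Fin (k + 3)) (Fin (k + 3)) F) a =
      Pi.single a 1 + (if a = 1 then s else 0) • Pi.single 0 1 := by
    funext c
    rw [Matrix.transvection, Matrix.add_apply, Pi.add_apply, Pi.smul_apply, smul_eq_mul]
    congr 1
    · simp [Matrix.one_apply, Pi.single_apply, eq_comm]
    · by_cases ha : a = 1
      · subst ha; simp [Matrix.single_apply, Pi.single_apply, eq_comm]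
      · simp [Matrix.single_apply, ha, Ne.symm ha]
  rw [cong_row, hrow, add_vecMul, smul_vecMul, single_one_vecMul, single_one_vecMul,
    transvection_mulVec]
  simp only [Pi.add_apply, Pi.smul_apply, Matrix.row, smul_eq_mul, Pi.single_apply]
  congr 1
  · split_ifs <;> simp
  · split_ifs <;> simp

/-- the bivectors fixed by the root group -/
def YFix (ω : Alt (k + 3) F) : Prop := ∀ b, b ≠ 1 → ω.1 0 b = 0

theorem cong_tv10_of_fix {ω : Alt (k + 3) F} (h : YFix ω) (s : F) :
    cong (Matrix.transvection 1 0 s) ω = ω := by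
  refine Alt.ext fun a b => ?_
  rw [cong_tv10_apply]
  by_cases ha : a = 1
  · subst ha
    by_cases hb : b = 1
    · subst hb
      rw [if_pos rfl, if_pos rfl, if_pos rfl, Alt.dg ω 0, Alt.sk ω 0 1]; ring
    · rw [if_pos rfl, if_neg hb, h b hb]; ring
  · rw [if_neg ha, if_neg ha]
    split_ifs with hb
    · rw [Alt.sk ω 0 a, h a ha]; ring
    · ring

theorem cong_tv10_of_not_fix {ω : Alt (k + 3) F} (h : ¬ YFix ω) {s : F} (hs : s ≠ 0) :
    cong (Matrix.transvection 1 0 s) ω ≠ ω := by
  rw [YFix] at h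
  push Not at h
  obtain ⟨b, hb, hb0⟩ := h
  intro heq
  have := congrFun (congrFun (congrArg Subtype.val heq) 1) b
  rw [cong_tv10_apply, if_pos rfl, if_neg hb, add_zero, add_eq_left, mul_eq_zero] at this
  exact this.elim hs hb0

theorem gY_mem_Vw {ω : Alt (k + 3) F} (h : YFix ω) (t : F) {x : V} (hx : x ∈ Vw ρ ω) :
    ρ (gY t) x ∈ Vw ρ ω :=
  mem_Vw_iff_cong ρ (isLev_gY t) (by rw [gY_cong_val, cong_tv10_of_fix h]) hx

/-- the fixed part of an invariant eigenspace -/
noncomputable def fY (ω : Alt (k + 3) F) : ℕ :=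
  finrank ℂ (Vw ρ ω ⊓ eigSp (Yr ρ) 0 : Submodule ℂ V)

theorem sum_trace_gY_mul {ω : Alt (k + 3) F} :
    ∑ t : F, LinearMap.trace ℂ V (ρ (gY t) * eigProj (Zr ρ) (chr ω)) =
      (Fintype.card F : ℂ) * LinearMap.trace ℂ V (eigProj (Yr ρ) 0 * eigProj (Zr ρ) (chr ω)) := by
  generalize eigProj (Zr ρ) (chr ω) = P
  rw [eigProj, smul_mul_assoc, map_smul, smul_eq_mul, ← mul_assoc,
    mul_inv_cancel₀ (Nat.cast_ne_zero.2 Fintype.card_ne_zero), one_mul, Finset.sum_mul, map_sum]
  refine Finset.sum_congr rfl fun t _ => ?_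
  rw [AddChar.zero_apply, one_smul, Yr_apply]

theorem sum_trace_fix {ω : Alt (k + 3) F} (h : YFix ω) :
    ∑ t : F, LinearMap.trace ℂ V (ρ (gY t) * eigProj (Zr ρ) (chr ω)) =
      ((Fintype.card F * fY ρ ω : ℕ) : ℂ) := by
  classical
  rw [sum_trace_gY_mul, Nat.cast_mul]
  congr 1
  have hproj : LinearMap.IsProj (Vw ρ ω ⊓ eigSp (Yr ρ) 0)
      (eigProj (Yr ρ) 0 * eigProj (Zr ρ) (chr ω)) := by
    refine ⟨fun x => ⟨?_, eigProj_mem _ _ _⟩, fun x hx => ?_⟩
    · rw [Module.End.mul_apply, eigProj]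
      simp only [LinearMap.smul_apply, LinearMap.sum_apply]
      exact Submodule.smul_mem _ _ (sum_mem fun t _ => Submodule.smul_mem _ _
        (gY_mem_Vw ρ h t (eigProj_mem (Zr ρ) (chr ω) x)))
    · rw [Module.End.mul_apply, eigProj_of_mem (Zr ρ) hx.1, if_pos rfl,
        eigProj_of_mem (Yr ρ) hx.2, if_pos rfl]
  exact hproj.trace

theorem sum_trace_moved {ω : Alt (k + 3) F} (h : ¬ YFix ω) :
    ∑ t : F, LinearMap.trace ℂ V (ρ (gY t) * eigProj (Zr ρ) (chr ω)) = (eV ρ ω : ℂ) := by
  classical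
  rw [Finset.sum_eq_single (0 : F)]
  · have : ρ (gY 0) = 1 := by rw [← Yr_apply, ofAdd_zero, map_one]
    rw [this, one_mul, trace_eigProj]; rfl
  · intro t _ ht
    refine trace_mul_eigProj_of_moved (Zr ρ)
      (ψ := chr (cong (Matrix.transvection 1 0 (-t)) ω)) (fun he => ?_) fun x hx => ?_
    · exact cong_tv10_of_not_fix h (neg_ne_zero.2 ht) (chr_bijective.1 he).symm
    · have := lev_mem ρ (isLev_gY t) hx
      rwa [gY_cong_val] at this
  · simp

open scoped Classical in
/-- the two averages agree -/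
theorem average_eq :
    Fintype.card F * (∑ ω : Alt (k + 3) F, if ω.1 0 1 = 0 then eV ρ ω else 0) =
      ∑ ω : Alt (k + 3) F, if YFix ω then Fintype.card F * fY ρ ω else eV ρ ω := by
  have h1 : ∑ t : F, LinearMap.trace ℂ V (ρ (gY t)) =
      ((Fintype.card F * (∑ ω : Alt (k + 3) F, if ω.1 0 1 = 0 then eV ρ ω else 0) : ℕ) : ℂ) := by
    simp only [trace_gY, trace_gZ]
    rw [Finset.sum_comm, Nat.cast_mul, Nat.cast_sum, Finset.mul_sum]
    refine Finset.sum_congr rfl fun ω _ => ?_
    rw [← Finset.sum_mul, AddChar.sum_mulShift _ psi_isPrimitive]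
    split_ifs <;> simp
  have h2 : ∑ t : F, LinearMap.trace ℂ V (ρ (gY t)) =
      ((∑ ω : Alt (k + 3) F, if YFix ω then Fintype.card F * fY ρ ω else eV ρ ω : ℕ) : ℂ) := by
    rw [Finset.sum_congr rfl fun t _ => trace_eq_sum ρ (ρ (gY t)), Finset.sum_comm, Nat.cast_sum]
    refine Finset.sum_congr rfl fun ω _ => ?_
    split_ifs with h
    · exact sum_trace_fix ρ h
    · exact sum_trace_moved ρ h
  exact Nat.cast_injective (h1.symm.trans h2)

/-- decomposable bivectors with a prescribed first row along `e₁` -/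
theorem card_dec_row_one (c : F) (hc : c ≠ 0) :
    Nat.card {ω : Alt (k + 3) F // Dec ω ∧ ω.1 0 = Pi.single 1 c} = Fintype.card F ^ (k + 1) :=
  card_dec_row (k := (1 : Fin (k + 3))) (Pi.single_eq_of_ne one_ne_zero' _) (by simpa using hc)

open scoped Classical in
/-- The root group of the Levi is non-trivial on the fixed space. -/
theorem not_trivial_on_fixed (h : ℕ) (hh : 0 < h)
    (heV : ∀ ω : Alt (k + 3) F, ω ≠ 0 → eV ρ ω = if Dec ω then h else 0)
    (hA : ∀ ω : Alt (k + 3) F, Dec ω → ω.1 0 = 0 → ∀ t, ∀ x ∈ Vw ρ ω, ρ (gY t) x = x)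
    (hE : ∃ x ∈ Vw ρ (E01 k F), x ≠ 0 ∧ ∀ t, ρ (gY t) x = x) :
    ¬ ∀ t, ∀ x ∈ Vw ρ 0, ρ (gY t) x = x := by
  intro hN
  have hfix : ∀ ω, (∀ t, ∀ x ∈ Vw ρ ω, ρ (gY t) x = x) → fY ρ ω = eV ρ ω := fun ω hω => by
    rw [fY, inf_eq_left.2 fun x hx => mem_eigSp_zero.2 fun t => hω t x hx]; rfl
  have hf0 := hfix 0 hN
  have hEfix : YFix (E01 k F) := fun b hb => by rw [E01_row0, Pi.single_eq_of_ne hb]
  have hfE : 1 ≤ fY ρ (E01 k F) := by
    obtain ⟨x, hx, hx0, hxf⟩ := hE
    refine Submodule.one_le_finrank_iff.2 fun hbot => hx0 ?_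
    exact (Submodule.eq_bot_iff _).1 hbot x ⟨hx, mem_eigSp_zero.2 hxf⟩
  have hav := average_eq ρ
  set Dset := Finset.univ.filter fun ω : Alt (k + 3) F => Dec ω with hDset
  have h0mem : ¬ Dec (0 : Alt (k + 3) F) := fun hd => hd.1 rfl
  -- the left side
  have hL : (∑ ω : Alt (k + 3) F, if ω.1 0 1 = 0 then eV ρ ω else 0) =
      eV ρ 0 + h * (Dset.filter fun ω => ω.1 0 1 = 0).card := by
    rw [← Finset.add_sum_erase _ _ (Finset.mem_univ 0)]
    congr 1
    · simp
    rw [mul_comm, ← smul_eq_mul, ← Finset.sum_const, Finset.sum_filter, hDset, Finset.sum_filter]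
    rw [← Finset.add_sum_erase Finset.univ
      (fun ω => if Dec ω then if ω.1 0 1 = 0 then h else 0 else 0) (Finset.mem_univ 0),
      if_neg h0mem, zero_add]
    refine Finset.sum_congr rfl fun ω hω => ?_
    rw [heV ω (Finset.ne_of_mem_erase hω)]
    by_cases h1 : Dec ω <;> by_cases h2 : ω.1 0 1 = 0 <;> simp [h1, h2]
  -- the right side
  have hR : Fintype.card F * eV ρ 0 + Fintype.card F * h * (Dset.filter fun ω => ω.1 0 = 0).card
      + h * (Dset.filter fun ω => ¬ YFix ω).card + Fintype.card F * 1 ≤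
      ∑ ω : Alt (k + 3) F, if YFix ω then Fintype.card F * fY ρ ω else eV ρ ω := by
    rw [← Finset.add_sum_erase _ _ (Finset.mem_univ 0),
      if_pos (show YFix (0 : Alt (k + 3) F) from fun b _ => rfl), hf0, add_assoc, add_assoc]
    refine Nat.add_le_add_left ?_ _
    set S := Finset.univ.erase (0 : Alt (k + 3) F)
    calc _ = ∑ ω ∈ S, ((if Dec ω ∧ ω.1 0 = 0 then Fintype.card F * h else 0) +
          ((if Dec ω ∧ ¬ YFix ω then h else 0) +
            (if ω = E01 k F then Fintype.card F * 1 else 0))) := by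
          rw [Finset.sum_add_distrib, Finset.sum_add_distrib, Finset.sum_ite_eq' S,
            if_pos (Finset.mem_erase.2 ⟨dec_E01.1, Finset.mem_univ _⟩)]
          have e : ∀ (P : Alt (k + 3) F → Prop) [DecidablePred P] (c : ℕ),
              ∑ ω ∈ S, (if Dec ω ∧ P ω then c else 0) = c * (Dset.filter P).card := fun P _ c => by
            rw [← Finset.sum_filter, Finset.sum_const, smul_eq_mul, mul_comm]
            congr 2
            ext ω
            simp only [S, hDset, Finset.mem_filter, Finset.mem_erase, Finset.mem_univ, and_true,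
              true_and]
            exact ⟨fun ⟨_, a⟩ => a, fun a => ⟨a.1.1, a⟩⟩
          rw [e, e]
      _ ≤ _ := by
          refine Finset.sum_le_sum fun ω hω => ?_
          have hω0 := Finset.ne_of_mem_erase hω
          by_cases hd : Dec ω
          swap
          · rw [if_neg fun a => hd a.1, if_neg fun a => hd a.1,
              if_neg fun a : ω = E01 k F => hd (a ▸ dec_E01)]
            exact Nat.zero_le _
          by_cases hy : YFix ω
          · rw [if_pos hy, if_neg fun a : Dec ω ∧ ¬ YFix ω => a.2 hy]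
            by_cases hr : ω.1 0 = 0
            · rw [if_pos ⟨hd, hr⟩, if_neg, hfix ω (hA ω hd hr), heV ω hω0, if_pos hd]
              · simp
              · rintro rfl
                have := congrFun ((E01_row0 (k := k) (F := F)).symm.trans hr) 1
                simp at this
            · rw [if_neg fun a => hr a.2]
              split_ifs with he
              · subst he
                simp only [zero_add]
                exact Nat.mul_le_mul_left _ hfE
              · simp
          · rw [if_neg hy, if_neg fun a : Dec ω ∧ ω.1 0 = 0 => hy fun b _ => by rw [a.2]; rfl,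
              if_pos ⟨hd, hy⟩, if_neg, heV ω hω0, if_pos hd]
            · simp
            · rintro rfl; exact hy hEfix
  -- the counts
  have hcard : ∀ (P : Alt (k + 3) F → Prop) [DecidablePred P],
      (Dset.filter P).card = Nat.card {ω : Alt (k + 3) F // Dec ω ∧ P ω} := fun P _ => by
    rw [Nat.card_eq_fintype_card, Fintype.card_subtype, hDset, Finset.filter_filter]
  have hrow : ∀ ω : Alt (k + 3) F, YFix ω ↔ ω.1 0 = Pi.single 1 (ω.1 0 1) := fun ω =>
    ⟨fun hy => funext fun b => by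
      by_cases hb : b = 1
      · subst hb; simp
      · rw [Pi.single_eq_of_ne hb, hy b hb],
    fun he b hb => by rw [he, Pi.single_eq_of_ne hb]⟩
  have hfixc : (Dset.filter fun ω => YFix ω).card =
      (Dset.filter fun ω => ω.1 0 = 0).card + (Fintype.card F - 1) * Fintype.card F ^ (k + 1) := by
    rw [Finset.card_eq_sum_card_fiberwise (f := fun ω : Alt (k + 3) F => ω.1 0 1)
      (t := Finset.univ) fun _ _ => Finset.mem_univ _,
      ← Finset.add_sum_erase _ _ (Finset.mem_univ (0 : F))]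
    congr 1
    · rw [Finset.filter_filter]
      refine congrArg Finset.card (Finset.filter_congr fun ω _ => ?_)
      refine ⟨fun ⟨a, b⟩ => ?_, fun a => ⟨fun b _ => by rw [a]; rfl, by rw [a]; rfl⟩⟩
      rw [(hrow ω).1 a, b, Pi.single_zero]
    · rw [Finset.sum_congr rfl (g := fun _ => Fintype.card F ^ (k + 1)) fun c hc => ?_,
        Finset.sum_const, Finset.card_erase_of_mem (Finset.mem_univ _), Finset.card_univ,
        smul_eq_mul]
      rw [Finset.filter_filter, hcard, ← card_dec_row_one c (Finset.ne_of_mem_erase hc)]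
      refine Nat.card_congr (Equiv.subtypeEquivRight fun ω => and_congr_right fun _ => ?_)
      refine ⟨fun ⟨a, b⟩ => by rw [(hrow ω).1 a, b], fun a => ⟨fun b hb => ?_, by rw [a]; simp⟩⟩
      rw [a, Pi.single_eq_of_ne hb]
  have hsplitY := Finset.card_filter_add_card_filter_not (s := Dset) fun ω => YFix ω
  have hsplitZ := Finset.card_filter_add_card_filter_not (s := Dset)
    fun ω : Alt (k + 3) F => ω.1 0 1 = 0
  have hnz : (Dset.filter fun ω : Alt (k + 3) F => ¬ ω.1 0 1 = 0).card =
      (Fintype.card F - 1) * (Fintype.card F ^ (k + 1) * Fintype.card F ^ (k + 1)) := by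
    rw [Finset.card_eq_sum_card_fiberwise (f := fun ω : Alt (k + 3) F => ω.1 0 1)
      (t := Finset.univ.erase 0) fun ω hω => Finset.mem_erase.2
        ⟨(Finset.mem_filter.1 hω).2, Finset.mem_univ _⟩,
      Finset.sum_congr rfl (g := fun _ => Fintype.card F ^ (k + 1) * Fintype.card F ^ (k + 1))
        fun c hc => ?_,
      Finset.sum_const, Finset.card_erase_of_mem (Finset.mem_univ _), Finset.card_univ,
      smul_eq_mul]
    rw [Finset.filter_filter, hcard]
    refine (Nat.card_congr (Equiv.subtypeEquivRight fun ω => and_congr_right fun _ => ?_)).trans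
      (card_dec_entry one_ne_zero' (Finset.ne_of_mem_erase hc))
    exact ⟨fun a => a.2, fun a => ⟨a.trans_ne (Finset.ne_of_mem_erase hc), a⟩⟩
  have hD : Dset.card = (Dset.filter fun ω => ω.1 0 = 0).card +
      (Fintype.card F ^ (k + 2) - 1) * Fintype.card F ^ (k + 1) := by
    rw [hcard, (card_dec_row_zero (k + 2) :
      Nat.card {ω : Alt (k + 3) F // Dec ω ∧ ω.1 0 = 0} = _)]
    rw [hDset, ← Fintype.card_subtype, ← Nat.card_eq_fintype_card, card_dec_succ (k + 2)]
    rfl
  rw [hL] at hav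
  rw [← hav, mul_add] at hR
  set q := Fintype.card F
  have hq1 : 1 ≤ q := Fintype.card_pos
  have hq2 : 1 ≤ q ^ (k + 2) := Nat.one_le_pow _ _ hq1
  zify [hq1, hq2] at hR hsplitY hsplitZ hnz hfixc hD
  have hkey : (h : ℤ) * ((q : ℤ) * (Dset.filter fun ω : Alt (k + 3) F => ω.1 0 1 = 0).card) =
      (h : ℤ) * ((q : ℤ) * (Dset.filter fun ω => ω.1 0 = 0).card +
        (Dset.filter fun ω => ¬ YFix ω).card) := by
    congr 1
    linear_combination (q : ℤ) * hsplitZ + ((q : ℤ) - 1) * hD - hsplitY + hfixc - (q : ℤ) * hnz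
  have hqpos : (1 : ℤ) ≤ q := by exact_mod_cast hq1
  linarith

end H19.OM
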