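import Cfsg.Agent.H19.OM.OddKappa
import Cfsg.Agent.H38.StdForms
import Cfsg.Agent.H43.Bridge

/-!
# The minimal degree of `Ω_{2n+1}`
-/

set_option autoImplicit false
set_option linter.unusedSectionVars false

namespace H19.OM

open Module Matrix H50.LS
open H43 (polB)
open H40.MinDeg (mult₁ constOnTransl)

variable {F : Type*} [Field F] [Fintype F] [DecidableEq F]

/-- coordinates of the odd form -/
noncomputable def oddL (m : ℕ) (F : Type*) [Field F] :
    (Unit ⊕ (Fin m ⊕ Fin m) → F) ≃ₗ[F] Sp m 1 F where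
  toFun v := (fun i => v (.inr (.inl i)), fun i => v (.inr (.inr i)), fun _ => v (.inl ()))
  invFun p := Sum.elim (fun _ => p.2.2 0) (Sum.elim p.1 p.2.1)
  map_add' u v := rfl
  map_smul' c v := rfl
  left_inv v := funext fun i => by rcases i with i | i | i <;> rfl
  right_inv p := Prod.ext rfl (Prod.ext rfl (funext fun i => by
    show p.2.2 0 = p.2.2 i
    rw [Subsingleton.elim i 0]))

theorem oddL_form (m : ℕ) (v : Unit ⊕ (Fin m ⊕ Fin m) → F) :
    Qf m (qSq F) (oddL m F v) = H43.qOdd m F v := by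
  rw [show oddL m F v =
    ((fun i => v (.inr (.inl i))), (fun i => v (.inr (.inr i))), fun _ => v (.inl ())) from rfl,
    Qf_apply, qSq_apply, H43.coe_qOdd]
  simp [Cfsg.quadFormOdd, dotProduct, pow_two, add_comm]

theorem two_ne_zero_of_odd {F : Type*} [Field F] [Fintype F] (hodd : Odd (Fintype.card F)) :
    (2 : F) ≠ 0 := by
  refine Ring.two_ne_zero fun h => ?_
  have h' := FiniteField.even_card_iff_char_two.1 h
  obtain ⟨r, hr⟩ := hodd
  omega

theorem geom_sub_one {q : ℕ} (hq : 1 ≤ q) (n : ℕ) :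
    (q - 1) * ∑ j ∈ Finset.range n, (q ^ (j + 1) - 1) + (q - 1) * n + q = q ^ (n + 1) := by
  induction n with
  | zero => simp
  | succ n ih =>
    have h1 : 1 ≤ q ^ (n + 1) := Nat.one_le_pow _ _ hq
    rw [Finset.sum_range_succ]
    zify [hq, h1] at ih ⊢
    rw [pow_succ (q : ℤ) (n + 1)]
    linear_combination ih

theorem odd_arith_big {q : ℕ} (hq : 4 ≤ q) (k : ℕ) :
    q ^ (2 * (k + 3)) - 1 ≤
      ((q ^ (k + 2) - 1) * q ^ (k + 1) * 1 * q ^ (2 * 1)) * (q ^ 2 - 1) := by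
  have h1 : 1 ≤ q ^ (k + 2) := Nat.one_le_pow _ _ (by omega)
  have h2 : 1 ≤ q ^ (2 * (k + 3)) := Nat.one_le_pow _ _ (by omega)
  have h3 : 1 ≤ q ^ 2 := Nat.one_le_pow _ _ (by omega)
  zify [h1, h2, h3]
  rw [show 2 * (k + 3) = (k + 1) + (k + 1) + 4 by omega, pow_add, pow_add,
    pow_succ (q : ℤ) (k + 1)]
  have hX : (q : ℤ) ≤ (q : ℤ) ^ (k + 1) :=
    le_self_pow₀ (by exact_mod_cast (by omega : 1 ≤ q)) (by omega)
  have hq' : (4 : ℤ) ≤ (q : ℤ) := by exact_mod_cast hq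
  generalize (q : ℤ) ^ (k + 1) = X at hX ⊢
  generalize (q : ℤ) = Q at hX hq' ⊢
  have hX0 : (0 : ℤ) ≤ X := by linarith
  have hQX : 2 ≤ X * Q := by nlinarith
  have a1 : X * Q ≤ 2 * (X * Q - 1) := by linarith
  have a2 : 2 * Q ≤ Q ^ 2 - 1 := by nlinarith
  have h0 : 0 ≤ X * Q ^ 2 := by positivity
  have b := mul_le_mul (mul_le_mul_of_nonneg_right a1 h0) a2 (by linarith)
    (mul_nonneg (by linarith) h0)
  rw [mul_one, show (2 * 1 : ℕ) = 2 from rfl]
  nlinarith [b]

variable {k : ℕ} {V : Type*} [AddCommGroup V] [Module ℂ V] [FiniteDimensional ℂ V]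
variable (ρ : GG (k + 3) (qSq F) →* Module.End ℂ V)

open scoped Classical in
/-- the degree of the fixed space is not the one of the permutation module -/
theorem fixed_ne_small (hq : 3 < Fintype.card F) (hodd : Odd (Fintype.card F)) (h2 : (2 : F) ≠ 0)
    (heV : ∀ ω : Alt (k + 3) F, ω ≠ 0 → eV ρ ω = if Dec ω then Fintype.card F ^ 1 else 0)
    (hU : ∀ s w, ∀ x ∈ Vw ρ 0, ρ (gu (qSq F) s w) x = x)
    {t : F} {x : V} (hx : x ∈ Vw ρ 0) (hxt : ρ (gY t) x ≠ x)
    (heq : (Fintype.card F - 1) * eV ρ 0 + Fintype.card F = Fintype.card F ^ (k + 3)) : False := by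
  set q := Fintype.card F with hqdef
  set σ : Representation ℂ (SpecialLinearGroup (Fin (k + 1 + 1 + 1)) F) (Vw ρ 0) := levN ρ with hσ
  have hN : finrank ℂ (Vw ρ 0) = eV ρ 0 := rfl
  have hq4 : 3 < q := hq
  have hex : ¬ H40.MinDeg.Exceptional F (k + 3) := by
    rintro (⟨-, h | h⟩ | ⟨-, h | h⟩) <;>
      first
        | omega
        | (rw [← hqdef] at h; rw [h] at hodd; exact absurd hodd (by decide))
  have hne : σ (SpecialLinearGroup.transvection (one_ne_zero' (k := k)) t) ≠ 1 := fun h1 =>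
    hxt (congrArg Subtype.val (LinearMap.congr_fun h1 ⟨x, hx⟩))
  -- the whole space is irreducible
  obtain ⟨l, hl0, hl1⟩ := exists_ne_ne (m := k + 3) (by omega) 0 1
  rw [sl_transvection_commutator (one_ne_zero' (k := k)) (Ne.symm hl0) hl1] at hne
  obtain ⟨W, hW, hirr, hW2⟩ := exists_constituent_two _ _ _ (Vw ρ 0) σ rfl hne
  haveI := hirr
  have hmin := H40.MinDeg.min_degree (k + 1) (by omega) hex W
    (⟨W, fun g x hx => hW g x hx⟩ : Subrepresentation σ).toRepresentation hW2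
  have hWN := Submodule.finrank_le W
  have hWeq : finrank ℂ W = eV ρ 0 := by
    have e : Fintype.card F ^ (k + 1 + 2) = q ^ (k + 3) := rfl
    rw [e, ← hqdef] at hmin
    refine le_antisymm (le_trans hWN (le_of_eq hN)) ?_
    refine Nat.le_of_mul_le_mul_left (?_ : (q - 1) * eV ρ 0 ≤ (q - 1) * finrank ℂ W) (by omega)
    omega
  have hWtop : W = ⊤ := Submodule.eq_top_of_finrank_eq (hWeq.trans hN.symm)
  have hnofix : ∀ v : Vw ρ 0, (∀ g, σ g v = v) → v = 0 := by
    intro v hv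
    by_contra hv0
    set τ := (⟨W, fun g x hx => hW g x hx⟩ : Subrepresentation σ).toRepresentation
    have hvW : v ∈ W := hWtop ▸ Submodule.mem_top
    have htop := H13.eq_top_of_irreducible τ (Submodule.span ℂ {(⟨v, hvW⟩ : W)})
      (fun g y hy => by
        obtain ⟨c, rfl⟩ := Submodule.mem_span_singleton.1 hy
        rw [map_smul, show τ g ⟨v, hvW⟩ = ⟨v, hvW⟩ from Subtype.ext (hv g)]
        exact hy)
      (by
        rw [Ne, Submodule.span_singleton_eq_bot]
        exact fun e => hv0 (congrArg Subtype.val e))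
    have h1 := finrank_span_singleton (K := ℂ) (v := (⟨v, hvW⟩ : W))
      (fun e => hv0 (congrArg Subtype.val e))
    rw [htop, finrank_top] at h1
    omega
  -- the multiplicity
  have hconst := constOnTransl σ (by omega : 2 ≤ k + 1 + 1)
  have hfq := H40.MinDeg.finrank_eq σ hconst
  rw [hN, ← hqdef] at hfq
  have hm1 : mult₁ σ = 1 := by
    have hpos : mult₁ σ ≠ 0 := fun h0 => hne
      (H40.MinDeg.eq_one_of_mult₁_eq_zero σ (by omega) h0 _)
    by_contra hm
    have hm2 : (q ^ (k + 1 + 1) - 1) * 2 ≤ (q ^ (k + 1 + 1) - 1) * mult₁ σ :=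
      Nat.mul_le_mul_left _ (by omega)
    have h3 : (q ^ (k + 1 + 1) - 1) * 2 ≤ eV ρ 0 := by
      have e : q ^ (k + 1 + 1) = q ^ (k + 2) := rfl
      rw [e] at hm2 ⊢
      omega
    have h4 := Nat.mul_le_mul_left (q - 1) h3
    have h5 : 1 ≤ q ^ (k + 1 + 1) := Nat.one_le_pow _ _ (by omega)
    rw [show q ^ (k + 3) = q ^ (k + 1 + 1) * q from pow_succ q (k + 1 + 1)] at heq
    have h6 : 25 ≤ q ^ (k + 1 + 1) := by
      have : 5 ≤ q := by
        rcases Nat.lt_or_ge q 5 with h | h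
        · have : q = 4 := by omega
          rw [this] at hodd; exact absurd hodd (by decide)
        · exact h
      calc 25 ≤ q ^ 2 := by nlinarith
        _ ≤ q ^ (k + 1 + 1) := Nat.pow_le_pow_right (by omega) (by omega)
    zify [h5, (by omega : 1 ≤ q)] at h4 heq
    have hq4 : (5 : ℤ) ≤ q := by
      rcases Nat.lt_or_ge q 5 with h | h
      · have : q = 4 := by omega
        rw [this] at hodd; exact absurd hodd (by decide)
      · exact_mod_cast h
    have h6' : (25 : ℤ) ≤ ((q ^ (k + 1 + 1) : ℕ) : ℤ) := by exact_mod_cast h6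
    push_cast at h6'
    nlinarith
  have hline : LineCond (levSq ρ) := by
    intro w hw
    rw [slPart_levSq]
    exact (H40.MinDeg.mult_eq σ hconst hw).trans hm1
  have hup : finrank ℂ (upFix (slPart (levSq ρ))) = k + 2 := by
    rw [slPart_levSq]
    have h := finrank_upFix_eq hq hodd (k + 1) (Vw ρ 0) σ hconst hm1
    have hg := geom_sub_one (q := q) (by omega) (k + 2)
    rw [hN, ← hqdef] at h
    have e : ∑ j ∈ Finset.range (k + 1 + 1), (q ^ (j + 1) - 1) =
        ∑ j ∈ Finset.range (k + 2), (q ^ (j + 1) - 1) := rfl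
    rw [e] at h
    rw [show k + 2 + 1 = k + 3 from rfl] at hg
    refine Nat.eq_of_mul_eq_mul_left (by omega : 0 < q - 1) ?_
    have h' : (q - 1) * finrank ℂ (upFix (levN ρ)) +
        (q - 1) * ∑ j ∈ Finset.range (k + 2), (q ^ (j + 1) - 1) = (q - 1) * eV ρ 0 := by
      rw [← mul_add]; exact congrArg ((q - 1) * ·) h
    generalize hP : (q - 1) * (k + 2) = P at hg ⊢
    omega
  refine no_small_rep hq hline hup (fun v hv => hnofix v fun g => ?_) (sOp ρ h2) (sOp_inj ρ h2)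
    (sOp_upFix ρ h2) (sOp_tor ρ h2) (exists_kappa ρ hq h2 heV hU hline)
  rw [hσ, ← slPart_levSq]
  exact hv g

open scoped Classical in
/-- the bound for the odd type -/
theorem odd_bound {d : ℕ} (σ : Representation ℂ (GG (k + 3) (qSq F)) (Fin d → ℂ))
    (hq : 3 < Fintype.card F) (hodd : Odd (Fintype.card F))
    (hne : σ (gz (qSq F) (E01 k F)) ≠ 1) :
    Fintype.card F ^ (2 * (k + 3)) - 1 ≤ d * (Fintype.card F ^ 2 - 1) := by
  have h2 : (2 : F) ≠ 0 := two_ne_zero_of_odd hodd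
  have hQ0 := qSq_nondeg h2
  set q := Fintype.card F with hqdef
  set D := Nat.card {ω : Alt (k + 3) F // Dec ω} with hDdef
  have hD := card_dec (F := F) (k + 2)
  rw [show k + 2 + 1 = k + 3 from rfl, ← hqdef, ← hDdef] at hD
  have hp : ∀ i, 1 ≤ q ^ i := fun i => Nat.one_le_pow _ _ (by omega)
  have henough : ∀ N : ℕ, q * D + N ≤ d → q ^ (k + 3) - 1 ≤ (q - 1) * N →
      q ^ (2 * (k + 3)) - 1 ≤ d * (q ^ 2 - 1) := by
    intro N h1 h2'
    refine le_trans ?_ (Nat.mul_le_mul_right _ h1)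
    zify [hp 2, hp (k + 3), hp (2 * (k + 3)), (by omega : 1 ≤ q)] at h2' ⊢
    have h3 := mul_le_mul_of_nonneg_left h2' (by positivity : (0 : ℤ) ≤ (q : ℤ) + 1)
    rw [show ((q : ℤ) * D + N) * ((q : ℤ) ^ 2 - 1) =
      (q : ℤ) * (((q : ℤ) ^ 2 - 1) * D) + N * ((q : ℤ) ^ 2 - 1) by ring, hD]
    refine le_trans (le_of_eq ?_) (add_le_add le_rfl (h3.trans (le_of_eq (by ring))))
    ring
  have hroot : (∀ ω : Alt (k + 3) F, ω ≠ 0 → eV σ ω = if Dec ω then q ^ 1 else 0) →
      (∀ ω : Alt (k + 3) F, Dec ω → ω.1 0 = 0 → ∀ t, ∀ x ∈ Vw σ ω, σ (gY t) x = x) ∧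
        ∃ x ∈ Vw σ (E01 k F), x ≠ 0 ∧ ∀ t, σ (gY t) x = x := fun heV => by
    have hdω : ∀ ω : Alt (k + 3) F, Dec ω → eV σ ω = q ^ 1 := fun ω hω => by
      rw [heV ω hω.1, if_pos hω]
    exact ⟨fun ω hω h0 => gY_trivial σ hQ0 hq hω.1 h0 (hdω ω hω),
      exists_fixed_E01 σ hQ0 hq (hdω _ dec_E01)⟩
  rcases shapes_of σ hQ0 hroot hne (fun _ : Unit => (1 : Fˣ))
      (fun _ _ _ => rfl) with h | h | ⟨hfin, heV, h⟩
  · rw [Fintype.card_unit, Module.finrank_fin_fun] at h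
    exact (odd_arith_big (by omega) k).trans (Nat.mul_le_mul_right _ h)
  · rw [Module.finrank_fin_fun, pow_one, ← hqdef, ← hDdef] at h
    refine henough (q * D) (by omega) ?_
    zify [hp (k + 3), (by omega : 1 ≤ q)]
    have hq' : (4 : ℤ) ≤ (q : ℤ) := by exact_mod_cast (by omega : 4 ≤ q)
    have hX2 : (q : ℤ) ^ 2 ≤ (q : ℤ) ^ (k + 2) :=
      pow_le_pow_right₀ (by linarith) (by omega)
    have hX3 : (0 : ℤ) ≤ (q : ℤ) ^ (k + 3) - 1 := sub_nonneg.2 (by exact_mod_cast hp (k + 3))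
    refine le_of_mul_le_mul_right (a := (q : ℤ) ^ 2 - 1) ?_ (by nlinarith)
    rw [show ((q : ℤ) - 1) * ((q : ℤ) * D) * ((q : ℤ) ^ 2 - 1) =
      ((q : ℤ) - 1) * (q : ℤ) * (((q : ℤ) ^ 2 - 1) * D) by ring, hD]
    have hB : (q : ℤ) ^ 2 - 1 ≤ ((q : ℤ) - 1) * (q : ℤ) * ((q : ℤ) ^ (k + 2) - 1) := by
      nlinarith [mul_le_mul (by nlinarith : (1 : ℤ) ≤ ((q : ℤ) - 1) * q)
        (by linarith : (q : ℤ) ^ 2 - 1 ≤ (q : ℤ) ^ (k + 2) - 1) (by nlinarith) (by nlinarith)]
    calc ((q : ℤ) ^ (k + 3) - 1) * ((q : ℤ) ^ 2 - 1)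
        ≤ ((q : ℤ) ^ (k + 3) - 1) * (((q : ℤ) - 1) * (q : ℤ) * ((q : ℤ) ^ (k + 2) - 1)) :=
          mul_le_mul_of_nonneg_left hB hX3
      _ = _ := by ring
  rw [Module.finrank_fin_fun, pow_one, ← hqdef, ← hDdef] at hfin
  rcases h with h | ⟨hU, t, x, hx, hxt⟩
  · refine henough _ (le_of_eq hfin.symm) ?_
    rw [← hqdef] at h
    exact h.trans (Nat.le_mul_of_pos_left _ (by omega))
  · refine henough _ (le_of_eq hfin.symm) ?_
    have hex : ¬ H40.MinDeg.Exceptional F (k + 3) := by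
      rintro (⟨-, h | h⟩ | ⟨-, h | h⟩) <;>
        first
          | omega
          | (rw [← hqdef] at h; rw [h] at hodd; exact absurd hodd (by decide))
    have hlow := eV_zero_bound σ hex hx hxt
    rw [← hqdef] at hlow
    have hg := geom_sub_one (q := q) (by omega) (k + 2)
    rw [show k + 2 + 1 = k + 3 from rfl, ← mul_add] at hg
    set M := ∑ j ∈ Finset.range (k + 2), (q ^ (j + 1) - 1) + (k + 2)
    rcases Nat.lt_or_ge M (eV σ 0) with hM | hM
    · have := Nat.mul_le_mul_left (q - 1) hM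
      rw [Nat.succ_eq_add_one, mul_add] at this
      omega
    · exfalso
      have := Nat.mul_le_mul_left (q - 1) hM
      exact fixed_ne_small σ hq hodd h2 heV hU hx hxt (by rw [← hqdef]; omega)

end H19.OM
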