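import Cfsg.Agent.H19.OM.OddTorus

/-!
# A torus element negating the lines along the first root
-/

set_option autoImplicit false
set_option linter.unusedSectionVars false

namespace H19.OM

open Module Matrix H50.LS
open H43 (polB)
open H40.MinDeg (proj psi)
open H40 (translSL)

variable {F : Type*} [Field F] [Fintype F] [DecidableEq F] {k : ℕ}

/-- `c e₀ ∧ e₁` -/
def Ec (k : ℕ) (c : F) : Alt (k + 3) F := wedge (Pi.single 0 c) (Pi.single 1 1)

theorem Ec_one : Ec k (1 : F) = E01 k F := rfl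

theorem Ec_row0 (c : F) (b : Fin (k + 3)) : (Ec k c).1 0 b = if b = 1 then c else 0 := by
  simp [Ec, wedge_apply, Pi.single_apply]

theorem Ec_row1 (c : F) {b : Fin (k + 3)} (hb : b ≠ 0) : (Ec k c).1 1 b = 0 := by
  simp [Ec, wedge_apply, hb]

theorem dec_Ec {c : F} (hc : c ≠ 0) : Dec (Ec k c) := by
  refine ⟨fun h => hc ?_, _, _, rfl⟩
  have := Ec_row0 (k := k) c 1
  rw [h, if_pos rfl] at this
  exact this.symm

theorem psi_lin_eq {a b : F} (h : ∀ t, psi F (t * a) = psi F (t * b)) : a = b := by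
  refine AddChar.to_mulShift_inj_of_isPrimitive psi_isPrimitive (DFunLike.ext _ _ fun t => ?_)
  rw [AddChar.mulShift_apply, AddChar.mulShift_apply, mul_comm a, mul_comm b]
  exact h t

theorem sum_psi_fun (r : F) :
    ∑ w : Fin 1 → F, psi F (w 0 * r) = if r = 0 then (Fintype.card F : ℂ) else 0 := by
  rw [Fintype.sum_equiv (Equiv.funUnique (Fin 1) F) (fun w : Fin 1 → F => psi F (w 0 * r))
    (fun x => psi F (x * r)) fun w => rfl, AddChar.sum_mulShift _ psi_isPrimitive]
  split_ifs <;> simp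

theorem line_smul {W : Type*} [AddCommGroup W] [Module ℂ W] {P : Submodule ℂ W}
    (h : finrank ℂ P = 1) {v y : W} (hv : v ∈ P) (hv0 : v ≠ 0) (hy : y ∈ P) :
    ∃ μ : ℂ, y = μ • v := by
  obtain ⟨μ, hμ⟩ := exists_smul_eq_of_finrank_eq_one h
    (x := ⟨v, hv⟩) (fun e => hv0 (congrArg Subtype.val e)) ⟨y, hy⟩
  exact ⟨μ, (congrArg Subtype.val hμ).symm⟩

variable {V : Type*} [AddCommGroup V] [Module ℂ V] [FiniteDimensional ℂ V]
variable (ρ : GG (k + 3) (qSq F) →* Module.End ℂ V)

theorem gu_add_apply {ω : Alt (k + 3) F} {x : V} (hx : x ∈ Vw ρ ω) (s s' : Fin (k + 3) → F)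
    (w : Fin 1 → F) :
    ρ (gu (qSq F) (s + s') w) x =
      psi F (qSq F w * ev ω s s') • ρ (gu (qSq F) s w) (ρ (gu (qSq F) s' w) x) := by
  rw [← rho_mul_apply, gu_add_left, rho_mul_apply, gz_apply ρ (gu_mem ρ hx _ _), chr_wedge, ← ev,
    ev_smul_left, smul_smul, ← AddChar.map_add_eq_mul,
    show qSq F w * ev ω s s' + -qSq F w * ev ω s s' = 0 by ring, AddChar.map_zero_eq_one, one_smul]

/-- an element of the Levi moves the components -/
theorem eigProj_lev {t : GG (k + 3) (qSq F)} {g : GL (Fin (k + 3)) F} (h : IsLev (qSq F) t g)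
    (ω : Alt (k + 3) F) (x : V) :
    ρ t (eigProj (Zr ρ) (chr ω) x) = eigProj (Zr ρ) (chr (cong (g⁻¹.1)ᵀ ω)) (ρ t x) := by
  simp only [eigProj, LinearMap.smul_apply, LinearMap.sum_apply, map_smul, map_sum]
  congr 1
  let e : Alt (k + 3) F ≃ Alt (k + 3) F :=
    { toFun := cong g.1
      invFun := cong g⁻¹.1
      left_inv := fun A => by show cong _ (cong _ A) = A; rw [← cong_mul, Units.inv_mul, cong_one]
      right_inv := fun A => by show cong _ (cong _ A) = A; rw [← cong_mul, Units.mul_inv, cong_one] }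
  refine Fintype.sum_equiv e _ _ fun A => ?_
  show chr ω (-A) • ρ t (ρ (gz (qSq F) A) x) =
    chr (cong (g⁻¹.1)ᵀ ω) (-cong g.1 A) • ρ (gz (qSq F) (cong g.1 A)) (ρ t x)
  rw [← rho_mul_apply, ← rho_mul_apply, ← h.mul_gz]
  congr 1
  have e1 : -cong g.1 A = cong g.1 (-A) :=
    Subtype.ext (by simp [cong_val, Matrix.mul_neg, Matrix.neg_mul])
  rw [e1, chr_cong, ← cong_mul, ← Matrix.transpose_mul, Units.inv_mul, Matrix.transpose_one,
    cong_one]

theorem commute_eigProj_apply {t : GG (k + 3) (qSq F)}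
    (h : ∀ A, Commute t (gz (qSq F) A)) (ω : Alt (k + 3) F) (x : V) :
    ρ t (eigProj (Zr ρ) (chr ω) x) = eigProj (Zr ρ) (chr ω) (ρ t x) :=
  LinearMap.congr_fun (commute_eigProj (Zr ρ) (T := ρ t) (fun A => (h A).map ρ) (chr ω)) x

theorem tor_single (d : sqTor (k + 3) F) (i : Fin (k + 3)) (r : F) :
    (tor (k + 3) F d).1.1 *ᵥ Pi.single i r = Pi.single i ((d.1 i : F) * r) := by
  funext a
  rw [tor_mulVec]
  by_cases ha : a = i
  · subst ha; simp
  · simp [Pi.single_eq_of_ne ha]

theorem cong_tor_Ec (d : sqTor (k + 3) F) (c : F) :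
    cong ((((tor (k + 3) F d).1)⁻¹).1)ᵀ (Ec k c) =
      Ec k (((d.1 0)⁻¹ : Fˣ) * ((d.1 1)⁻¹ : Fˣ) * c) := by
  show cong (diagonal fun i => ((d.1 i)⁻¹ : Fˣ).1)ᵀ _ = _
  rw [diagonal_transpose, Ec, Ec, cong_wedge]
  refine Alt.ext fun a b => ?_
  simp only [wedge_apply, mulVec_diagonal, Pi.single_apply]
  by_cases a0 : a = 0 <;> by_cases a1 : a = 1 <;> by_cases b0 : b = 0 <;> by_cases b1 : b = 1 <;>
    simp_all [zero_ne_one''] <;> ring

theorem gu_mul_gL (g : sqDet (k + 3) F) (s : Fin (k + 3) → F) (w : Fin 1 → F) (x : V) :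
    ρ (gL g) (ρ (gu (qSq F) s w) x) = ρ (gu (qSq F) (g.1.1 *ᵥ s) w) (ρ (gL g) x) := by
  rw [← rho_mul_apply, (isLev_gL g).mul_gu, rho_mul_apply]

theorem finrank_line {c : F} (h2 : (2 : F) ≠ 0) (hc : c ≠ 0)
    (hd : eV ρ (Ec k c) = Fintype.card F ^ 1) :
    finrank ℂ (uFix ρ (Vw ρ (Ec k c)) (Pi.single 0 1)) = 1 := by
  have hst : ev (Ec k c) (Pi.single 0 1) (Pi.single 1 c⁻¹) = 1 := by
    rw [ev_single, Ec_row0, if_pos rfl, one_mul, inv_mul_cancel₀ hc]
  have h := finrank_eq_uFix ρ (qSq_nondeg h2) (le_refl (Vw ρ (Ec k c))) hst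
    (fun w _ hx => gu_mem ρ hx _ w) (fun w _ hx => gu_mem ρ hx _ w)
  rw [eV] at hd
  rw [hd] at h
  exact (Nat.mul_eq_left (pow_ne_zero _ Fintype.card_ne_zero)).1 h.symm

theorem finrank_line_one (h2 : (2 : F) ≠ 0) (hd : eV ρ (E01 k F) = Fintype.card F ^ 1) :
    finrank ℂ (uFix ρ (Vw ρ (E01 k F)) (Pi.single 1 1)) = 1 := by
  have hst : ev (E01 k F) (Pi.single 1 1) (Pi.single 0 (-1)) = 1 := by
    rw [ev_single, Alt.sk (E01 k F) 0 1, E01_row0]; simp
  have h := finrank_eq_uFix ρ (qSq_nondeg h2) (le_refl (Vw ρ (E01 k F))) hst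
    (fun w _ hx => gu_mem ρ hx _ w) (fun w _ hx => gu_mem ρ hx _ w)
  rw [eV] at hd
  rw [hd] at h
  exact (Nat.mul_eq_left (pow_ne_zero _ Fintype.card_ne_zero)).1 h.symm

/-- the element `diag(a, a⁻¹)` -/
noncomputable abbrev hT (a : Fˣ) : GG (k + 3) (qSq F) :=
  gL (tor (k + 3) F (hPair (p := 0) (q := 1) a))

theorem hT_mul (a b : Fˣ) : hT (k := k) (a * b) = hT a * hT b := by
  unfold hT
  rw [← map_mul, ← map_mul]
  congr 2
  refine Subtype.ext (funext fun i => ?_)
  show _ = (hPair (p := (0 : Fin (k + 3))) (q := 1) a).1 i * (hPair (p := 0) (q := 1) b).1 i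
  simp only [hPair_val]
  split_ifs <;> simp_all [mul_comm, mul_left_comm]

theorem hT_one : hT (k := k) (1 : Fˣ) = 1 := by
  unfold hT
  rw [show hPair (p := (0 : Fin (k + 3))) (q := 1) (1 : Fˣ) = 1 from
    Subtype.ext (funext fun i => by simp [hPair]), map_one, map_one]

/-- **some element negates the line.** -/
theorem exists_neg_line (hq : 3 < Fintype.card F) (h2 : (2 : F) ≠ 0)
    (hd : eV ρ (E01 k F) = Fintype.card F ^ 1) :
    ∃ v0 : V, v0 ≠ 0 ∧ v0 ∈ uFix ρ (Vw ρ (E01 k F)) (Pi.single 0 1) ∧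
      ∃ a : Fˣ, ρ (hT a) v0 = -v0 := by
  classical
  have z01 := zero_ne_one'' (k := k)
  have h1 := finrank_line ρ (c := (1 : F)) h2 one_ne_zero hd
  rw [Ec_one] at h1
  obtain ⟨⟨v0, hv⟩, hvne⟩ := Module.finrank_pos_iff_exists_ne_zero.1 (h1.symm ▸ Nat.one_pos)
  have hv0 : v0 ≠ 0 := fun e => hvne (Subtype.ext e)
  set e0 : Fin (k + 3) → F := Pi.single 0 1 with he0
  set e1 : Fin (k + 3) → F := Pi.single 1 1 with he1
  have hev01 : ev (E01 k F) e0 e1 = 1 := by rw [ev_single, E01_row0]; simp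
  refine ⟨v0, hv0, hv, ?_⟩
  -- the torus on the line
  have hTe : ∀ (a : Fˣ), (tor (k + 3) F (hPair (p := 0) (q := 1) a)).1.1 *ᵥ e0 = (a : F) • e0 := by
    intro a
    rw [he0, tor_single, ← Pi.single_smul, smul_eq_mul, hPair_val]
    simp [z01]
  have hTE : ∀ a, ∀ x ∈ Vw ρ (E01 k F), ρ (hT a) x ∈ Vw ρ (E01 k F) := by
    intro a x hx
    refine mem_Vw_iff_cong ρ (isLev_gL _) ?_ hx
    rw [← Ec_one, cong_tor_Ec, hPair_val, hPair_val]
    simp [z01, z01.symm]
  have hlin : ∀ a, ∃ μ : ℂ, ρ (hT a) v0 = μ • v0 := fun a => by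
    refine line_smul h1 hv hv0 ⟨hTE a v0 hv.1, fun w => ?_⟩
    have h := gu_mul_gL ρ (tor (k + 3) F (hPair (p := 0) (q := 1) a)) e0 ((a : F)⁻¹ • w) v0
    rw [hv.2, hTe, gu_smul, smul_inv_smul₀ a.ne_zero] at h
    exact h.symm
  choose ξ hξ using hlin
  have ξmul : ∀ a b, ξ (a * b) = ξ a * ξ b := fun a b => smul_left_injective ℂ hv0 (by
    simp only
    rw [← hξ, hT_mul, rho_mul_apply, hξ b, map_smul, hξ a, smul_smul, mul_comm])
  have ξone : ξ 1 = 1 := smul_left_injective ℂ hv0 (by
    simp only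
    rw [← hξ, hT_one, map_one, Module.End.one_apply, one_smul])
  -- the root group fixes the line
  set Y : F → GG (k + 3) (qSq F) := fun t => gL (xT z01 t) with hY
  set X : F → GG (k + 3) (qSq F) := fun t => gL (xT z01.symm t) with hX
  have hYmem : ∀ t, ∀ x ∈ Vw ρ (E01 k F), ρ (Y t) x ∈ Vw ρ (E01 k F) := fun t x hx => by
    show ρ (gL (slIn (k + 3) F (SpecialLinearGroup.transvection z01 t))) x ∈ _
    rw [gL_slIn]
    exact gT_mem_Vw ρ z01 (fun b hb => by rw [← Ec_one, Ec_row0, if_neg hb]) t hx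
  have hXmem : ∀ t, ∀ x ∈ Vw ρ (E01 k F), ρ (X t) x ∈ Vw ρ (E01 k F) := fun t x hx => by
    show ρ (gL (slIn (k + 3) F (SpecialLinearGroup.transvection z01.symm t))) x ∈ _
    rw [gL_slIn]
    exact gT_mem_Vw ρ z01.symm (fun b hb => by rw [← Ec_one, Ec_row1 _ hb]) t hx
  have hYe0 : ∀ t : F, (xT z01 t).1.1 *ᵥ e0 = e0 := fun t => by
    rw [xT_mulVec, he0, Pi.single_eq_of_ne z01.symm, mul_zero, Pi.single_zero, add_zero]
  have hYv : ∀ t, ρ (Y t) v0 = v0 := by
    have hlam : ∀ t, ∃ μ : ℂ, ρ (Y t) v0 = μ • v0 := fun t => by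
      refine line_smul h1 hv hv0 ⟨hYmem t v0 hv.1, fun w => ?_⟩
      have h := gu_mul_gL ρ (xT z01 t) e0 w v0
      rw [hv.2, hYe0] at h
      exact h.symm
    choose lam hlam using hlam
    have hne : ∀ t, lam t ≠ 0 := fun t h0 => by
      have := congrArg (ρ (Y t)⁻¹) (hlam t)
      rw [h0, zero_smul, map_zero, ← rho_mul_apply, inv_mul_cancel, map_one,
        Module.End.one_apply] at this
      exact hv0 this
    obtain ⟨a, ha⟩ := exists_sq_ne_one hq
    intro t
    obtain ⟨u, rfl⟩ : ∃ u, ((a : F) * a - 1) * u = t :=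
      ⟨t / ((a : F) * a - 1), mul_div_cancel₀ t (sub_ne_zero.2 ha)⟩
    have e : hT a * Y u = Y (((a : F) * a - 1) * u) * Y u * hT a := by
      simp only [hT, Y, ← map_mul]
      congr 1
      rw [← xT_add, tor_xT, show ((a : F) * a - 1) * u + u = (a : F) * a * u by ring]
      congr 2
      simp [hPair_val, z01, z01.symm]
      ring
    have h := congrArg (fun g => ρ g v0) e
    simp only [rho_mul_apply, hlam, hξ, map_smul, smul_smul] at h
    have hξa : ξ a ≠ 0 := fun h0 => by
      have := ξmul a a⁻¹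
      rw [mul_inv_cancel, ξone, h0, zero_mul] at this
      exact one_ne_zero this
    have h' := smul_left_injective ℂ hv0 h
    rw [hlam, show lam (((a : F) * a - 1) * u) = 1 from
      mul_right_cancel₀ (mul_ne_zero (hne u) hξa) (by linear_combination -h'), one_smul]
  -- the translates
  let y : (Fin 1 → F) → V := fun b => ρ (gu (qSq F) e1 b) v0
  have hy : ∀ b, y b ∈ Vw ρ (E01 k F) := fun b => gu_mem ρ hv.1 _ _
  let P : Module.End ℂ V := ∑ w : Fin 1 → F, ρ (gu (qSq F) e0 w)
  have hPy : ∀ b, P (y b) = if b = 0 then (Fintype.card F : ℂ) • v0 else 0 := by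
    intro b
    have e : ∀ w : Fin 1 → F, ρ (gu (qSq F) e0 w) (y b) = psi F (w 0 * (-2 * b 0)) • y b := by
      intro w
      show ρ _ (ρ _ v0) = _
      rw [gu_comm_apply ρ hv.1, hv.2, hev01, polB_qSq, mul_one]
      congr 2
      ring
    simp only [P, LinearMap.sum_apply, e, ← Finset.sum_smul, sum_psi_fun]
    by_cases hb : b = 0
    · subst hb
      simp [y, gu_zero_right]
    · rw [if_neg hb, if_neg, zero_smul]
      refine mul_ne_zero (neg_ne_zero.2 h2) fun h0 => hb (funext fun i => ?_)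
      rw [Subsingleton.elim i 0]; exact h0
  let Fv : V := ∑ b, y b
  have hPF : P Fv = (Fintype.card F : ℂ) • v0 := by
    simp only [Fv, map_sum, hPy, Finset.sum_ite_eq', Finset.mem_univ, if_true]
  have hFne : Fv ≠ 0 := fun h0 => by
    rw [h0, map_zero, eq_comm, smul_eq_zero] at hPF
    exact hPF.elim (Nat.cast_ne_zero.2 Fintype.card_ne_zero) hv0
  have hFfix : ∀ w, ρ (gu (qSq F) e1 w) Fv = Fv := fun w => by
    simp only [Fv, map_sum]
    refine Fintype.sum_equiv (Equiv.addLeft w) _ _ fun b => ?_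
    show _ = ρ _ v0
    rw [← rho_mul_apply, ← gu_add_right]
    rfl
  have hFmem : Fv ∈ uFix ρ (Vw ρ (E01 k F)) e1 := ⟨sum_mem fun b _ => hy b, hFfix⟩
  -- the exchange
  set n : sqDet (k + 3) F := wEx z01 with hn
  have hne0 : n.1.1 *ᵥ e0 = -e1 := by
    rw [hn, he0, he1, wEx_single, Equiv.swap_apply_left, if_pos rfl, Pi.single_neg]
  have hne1 : n.1.1 *ᵥ e1 = e0 := by
    rw [hn, he0, he1, wEx_single, Equiv.swap_apply_right, if_neg z01.symm]
  have hnv : ρ (gL n) v0 ∈ uFix ρ (Vw ρ (E01 k F)) e1 := by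
    refine ⟨?_, fun w => ?_⟩
    · have : gL n = Y 1 * X (-1) * Y 1 := by simp only [hn, wEx, Y, X, map_mul]
      rw [this, rho_mul_apply, rho_mul_apply]
      exact hYmem _ _ (hXmem _ _ (hYmem _ _ hv.1))
    · have h := gu_mul_gL ρ n e0 (-w) v0
      rw [hv.2, hne0, show -e1 = (-1 : F) • e1 by simp, gu_smul, smul_neg, neg_smul, one_smul,
        neg_neg] at h
      exact h.symm
  obtain ⟨κ, hκ⟩ := line_smul (finrank_line_one ρ h2 hd) hFmem hFne hnv
  have hκ0 : κ ≠ 0 := fun h0 => by
    rw [h0, zero_smul] at hκ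
    have := congrArg (ρ (gL n)⁻¹) hκ
    rw [map_zero, ← rho_mul_apply, inv_mul_cancel, map_one, Module.End.one_apply] at this
    exact hv0 this
  have hTF : ∀ a, ρ (hT a) Fv = ξ a • Fv := by
    intro a
    simp only [Fv, map_sum, Finset.smul_sum]
    refine Fintype.sum_equiv
      ({ toFun := fun b => (a : F)⁻¹ • b, invFun := fun b => (a : F) • b,
         left_inv := fun b => smul_inv_smul₀ a.ne_zero b,
         right_inv := fun b => inv_smul_smul₀ a.ne_zero b } : (Fin 1 → F) ≃ (Fin 1 → F)) _ _ fun b => ?_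
    show ρ (hT a) (ρ _ v0) = ξ a • ρ (gu (qSq F) e1 ((a : F)⁻¹ • b)) v0
    rw [gu_mul_gL, hξ, map_smul, ← gu_smul]
    congr 3
    rw [he1, tor_single, ← Pi.single_smul, smul_eq_mul, hPair_val]
    simp [z01, z01.symm]
  have hswap : ∀ a, hT a * gL n = gL n * hT (k := k) a⁻¹ := by
    intro a
    simp only [hT, ← map_mul]
    rw [hn, tor_wEx, permTor_hPair, Equiv.symm_swap, Equiv.swap_apply_left, Equiv.swap_apply_right]
    congr 3
    refine Subtype.ext (funext fun i => ?_)
    rw [hPair_val, hPair_val, inv_inv, mul_comm]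
  have ξinv : ∀ a, ξ a = ξ a⁻¹ := fun a => by
    have h := congrArg (fun g => ρ g v0) (hswap a)
    simp only [rho_mul_apply, hξ, map_smul, hκ, hTF, smul_smul] at h
    have := smul_left_injective ℂ hFne h
    exact mul_left_cancel₀ hκ0 (by linear_combination this)
  by_contra hall
  push Not at hall
  have ξ1 : ∀ a, ξ a = 1 := by
    intro a
    have h := ξmul a a⁻¹
    rw [mul_inv_cancel, ξone, ← ξinv] at h
    rcases mul_self_eq_one_iff.1 h.symm with e | e
    · exact e
    · exact absurd (by rw [hξ, e, neg_one_smul]) (hall a)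
  -- the two ways
  have hnn : ρ (gL n) (ρ (gL n) v0) = v0 := by
    rw [← rho_mul_apply, ← map_mul, hn, wEx_sq]
    show ρ (hT (-1)) v0 = v0
    rw [hξ, ξ1, one_smul]
  have hF2 : κ ^ 2 * (Fintype.card F : ℂ) = 1 := by
    have h : ρ (gL n) Fv = κ • P Fv := by
      calc ρ (gL n) Fv = ∑ b, ρ (gu (qSq F) e0 b) (ρ (gL n) v0) := by
            simp only [Fv, map_sum]
            exact Finset.sum_congr rfl fun b _ => by show ρ _ (ρ _ v0) = _; rw [gu_mul_gL, hne1]
        _ = κ • P Fv := by
            simp only [hκ, map_smul, P, LinearMap.sum_apply, Finset.smul_sum]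
    rw [hκ, map_smul, h, hPF, smul_smul, smul_smul] at hnn
    refine smul_left_injective ℂ hv0 ?_
    simp only [one_smul]
    rw [sq, hnn]
  have hXF : ∀ c, ρ (X c) Fv = Fv := by
    intro c
    have e : X c * gL n = gL n * Y (-c) := by
      simp only [X, Y, ← map_mul]
      congr 1
      refine sqDet_ext fun x => funext fun i => ?_
      simp only [hn, mul_mulVec_sq, xT_mulVec, wEx_mulVec, Pi.add_apply]
      by_cases i0 : i = 0
      · subst i0; simp [z01]
      · by_cases i1 : i = 1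
        · subst i1; simp [z01, z01.symm]; ring
        · simp [i0, i1]
    have h := congrArg (fun g => ρ g v0) e
    simp only [rho_mul_apply, hYv, hκ, map_smul] at h
    exact smul_right_injective V hκ0 h
  have hsum : ∑ c : F, ρ (X c) v0 = Fv := by
    have hv0eq : v0 = κ ^ 2 • P Fv := by rw [hPF, smul_smul, hF2, one_smul]
    have hb : ∀ c (b : Fin 1 → F), ρ (X c) (ρ (gu (qSq F) e0 b) Fv) =
        psi F (c * qSq F b) • ρ (gu (qSq F) e0 b) Fv := by
      intro c b
      rw [gu_mul_gL, hXF, show (xT z01.symm c).1.1 *ᵥ e0 = e0 + c • e1 by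
        rw [xT_mulVec, he0, he1, Pi.single_eq_same, ← Pi.single_smul, smul_eq_mul],
        gu_add_apply ρ hFmem.1, gu_smul, hFfix, he0, he1, ← Pi.single_smul, ev_single,
        E01_row0]
      congr 2
      simp
      ring
    calc ∑ c : F, ρ (X c) v0
        = κ ^ 2 • ∑ b : Fin 1 → F, (∑ c : F, psi F (c * qSq F b)) • ρ (gu (qSq F) e0 b) Fv := by
          conv_lhs => rw [hv0eq]
          simp only [map_smul, ← Finset.smul_sum, P, LinearMap.sum_apply, map_sum, hb]
          rw [Finset.sum_comm]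
          simp only [Finset.sum_smul]
      _ = κ ^ 2 • ((Fintype.card F : ℂ) • Fv) := by
          congr 1
          rw [Finset.sum_eq_single 0]
          · simp [qSq_apply, gu_zero_right]
          · intro b _ hb0
            rw [AddChar.sum_mulShift _ psi_isPrimitive, if_neg, Nat.cast_zero, zero_smul]
            rw [qSq_apply]
            exact fun h0 => hb0 (funext fun i => by
              rw [Subsingleton.elim i 0]; exact mul_self_eq_zero.1 h0)
          · simp
      _ = Fv := by rw [smul_smul, hF2, one_smul]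
  have hterm : ∀ c : F, c ≠ 0 → P (ρ (X c) v0) = (κ * Fintype.card F) • v0 := by
    intro c hc
    set d : F := c⁻¹
    have e : X c = Y d * hT (-(Units.mk0 c hc)⁻¹) * gL n * Y d := by
      simp only [X, Y, hT, ← map_mul]
      congr 1
      refine sqDet_ext fun x => funext fun i => ?_
      simp only [hn, mul_mulVec_sq, xT_mulVec, wEx_mulVec, tor_mulVec, Pi.add_apply]
      by_cases i0 : i = 0
      · subst i0; simp [z01, z01.symm, hPair_val, d]; field_simp; ring
      · by_cases i1 : i = 1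
        · subst i1; simp [z01, z01.symm, hPair_val, d]; field_simp; ring
        · simp [i0, i1, hPair_val]
    have hYy : ∀ b, ρ (Y d) (y b) = psi F (-qSq F b * d) • y b := by
      intro b
      show ρ _ (ρ _ v0) = _
      rw [gu_mul_gL, hYv, show (xT z01 d).1.1 *ᵥ e1 = e1 + d • e0 by
        rw [xT_mulVec, he0, he1, Pi.single_eq_same, ← Pi.single_smul, smul_eq_mul],
        gu_add_apply ρ hv.1, gu_smul, hv.2, he0, he1, ← Pi.single_smul, ev_single,
        Alt.sk (E01 k F) 0 1, E01_row0]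
      congr 2
      simp
    rw [e, rho_mul_apply, rho_mul_apply, rho_mul_apply, hYv, hκ, map_smul, map_smul, hTF, ξ1,
      one_smul, map_smul]
    simp only [Fv, map_sum, hYy, map_smul, hPy]
    rw [Finset.sum_eq_single 0]
    · simp [qSq_apply, smul_smul]
    · intro b _ hb0; simp [hb0]
    · simp
  have hfin := congrArg P hsum
  rw [map_sum, ← Finset.add_sum_erase _ _ (Finset.mem_univ (0 : F)),
    Finset.sum_congr rfl fun c hc => hterm c (Finset.ne_of_mem_erase hc), Finset.sum_const,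
    show X 0 = 1 by simp only [X, xT_zero, map_one], map_one, Module.End.one_apply, hPF,
    show v0 = y 0 by simp [y, gu_zero_right], hPy, if_pos rfl,
    show y 0 = v0 by simp [y, gu_zero_right], add_eq_left, ← Nat.cast_smul_eq_nsmul ℂ,
    smul_smul, smul_eq_zero] at hfin
  rw [Finset.card_erase_of_mem (Finset.mem_univ _), Finset.card_univ] at hfin
  refine hfin.elim (fun h => ?_) hv0
  exact mul_ne_zero (Nat.cast_ne_zero.2 (by omega))
    (mul_ne_zero hκ0 (Nat.cast_ne_zero.2 Fintype.card_ne_zero)) h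

open scoped Classical in
/-- **the torus element negating every line along the first root** -/
theorem exists_kappa (hq : 3 < Fintype.card F) (h2 : (2 : F) ≠ 0)
    (heV : ∀ ω : Alt (k + 3) F, ω ≠ 0 → eV ρ ω = if Dec ω then Fintype.card F ^ 1 else 0)
    (hU : ∀ s w, ∀ x ∈ Vw ρ 0, ρ (gu (qSq F) s w) x = x) (hline : LineCond (levSq ρ)) :
    ∃ a : Fˣ, ∀ s : F, s ≠ 0 →
      levSq ρ (tor (k + 3) F (aPair (p := 0) (q := 1) a)) * proj (slPart (levSq ρ)) (Pi.single 0 s) =
        (-1 : ℂ) • proj (slPart (levSq ρ)) (Pi.single 0 s) := by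
  have z01 := zero_ne_one'' (k := k)
  have hdE : ∀ c : F, c ≠ 0 → eV ρ (Ec k c) = Fintype.card F ^ 1 := fun c hc => by
    rw [heV _ (dec_Ec hc).1, if_pos (dec_Ec hc)]
  obtain ⟨v0, hv0, hv, a, ha⟩ := exists_neg_line ρ hq h2 (Ec_one (k := k) (F := F) ▸ hdE 1 one_ne_zero)
  refine ⟨a, fun s hs => LinearMap.ext fun z => ?_⟩
  set σ := slPart (levSq ρ) with hσ
  set w : Fin (k + 2) → F := Pi.single 0 s with hw
  rw [Module.End.mul_apply, LinearMap.smul_apply]
  set y := proj σ w z with hy
  have hyt : ∀ u, σ (translSL u) y = psi F (u ⬝ᵥ w) • y := fun u => by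
    rw [hy, ← Module.End.mul_apply, H40.MinDeg.transl_mul_proj, LinearMap.smul_apply]
  set t1 : sqTor (k + 3) F := aPair (p := 0) (q := 1) a with ht1
  -- the line is preserved
  have hmem : levSq ρ (tor (k + 3) F t1) y ∈ LinearMap.range (proj σ w) := by
    refine ⟨levSq ρ (tor (k + 3) F t1) y, ?_⟩
    have hconj : ∀ u, σ (translSL u) (levSq ρ (tor (k + 3) F t1) y) =
        psi F (u ⬝ᵥ w) • levSq ρ (tor (k + 3) F t1) y := by
      intro u
      set u' : Fin (k + 2) → F := fun j => ((t1.1 0)⁻¹ : Fˣ) * u j * (t1.1 j.succ : F)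
      have e : slIn (k + 3) F (translSL u) * tor (k + 3) F t1 =
          tor (k + 3) F t1 * slIn (k + 3) F (translSL u') := by
        refine Subtype.ext (Units.ext ?_)
        show (H40.transl u) * diagonal (fun i => (t1.1 i : F)) =
          diagonal (fun i => (t1.1 i : F)) * H40.transl u'
        ext i j
        rw [Matrix.mul_diagonal, Matrix.diagonal_mul]
        refine Fin.cases ?_ (fun i => ?_) i <;> refine Fin.cases ?_ (fun j => ?_) j <;>
          simp [H40.transl, u', Matrix.one_apply]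
        · have := (t1.1 0).ne_zero
          field_simp
        · split_ifs with h
          · subst h; ring
          · simp
      rw [comp_apply, ← rep_mul_apply, e, rep_mul_apply, ← comp_apply, hyt, map_smul]
      congr 2
      simp only [hw, dotProduct_single, u']
      rw [show t1.1 (Fin.succ 0) = a by simp [ht1, aPair],
        show t1.1 0 = a by simp [ht1, aPair]]
      have := a.ne_zero
      field_simp
      simp [mul_comm, mul_left_comm, this]
    simp only [H40.MinDeg.proj, LinearMap.smul_apply, LinearMap.sum_apply, hconj, smul_smul,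
      ← AddChar.map_add_eq_mul, neg_add_cancel, AddChar.map_zero_eq_one, one_smul,
      Finset.sum_const, Finset.card_univ, Fintype.card_fun, Fintype.card_fin]
    rw [← Nat.cast_smul_eq_nsmul ℂ, smul_smul, Nat.cast_pow,
      inv_mul_cancel₀ H40.MinDeg.card_pow_ne_zero, one_smul]
  by_cases hy0 : y = 0
  · rw [hy0, map_zero, smul_zero]
  have hl : finrank ℂ (LinearMap.range (proj σ w)) = 1 := hline w fun h => hs (by
    simpa [hw] using congrFun h 0)
  obtain ⟨μ, hμ⟩ := line_smul hl (LinearMap.mem_range_self _ z) hy0 hmem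
  rw [hμ]
  congr 1
  -- pass to the other root
  set K := flipP h2 (1 : Fin (k + 3)) with hK
  set Yv : V := ρ K y.1 with hYv
  have hYne : Yv ≠ 0 := fun h0 => hy0 (Subtype.ext (by
    have := congrArg (ρ K) h0
    rwa [map_zero, hYv, ← rho_mul_apply, hK, flipP_mul_self, map_one, Module.End.one_apply] at this))
  have hTY : ρ (hT a) Yv = μ • Yv := by
    have e : hT a * K = K * gL (tor (k + 3) F t1) := by
      rw [hK, hT, flipP_tor, flipT_hPair z01]
    rw [hYv, ← rho_mul_apply, e, rho_mul_apply, ← map_smul]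
    congr 1
    exact congrArg Subtype.val hμ
  have hgz01 : ∀ t, ρ (gz (qSq F) (wedge (Pi.single 0 t) (Pi.single 1 1))) Yv =
      psi F (t * -s) • Yv := by
    intro t
    rw [hYv, ← rho_mul_apply, ← flipP_gz_single h2 z01, rho_mul_apply, ← map_smul]
    congr 1
    have h := congrArg Subtype.val (hyt (Pi.single 0 (-t)))
    rw [translSL_single] at h
    rw [show psi F (t * -s) = psi F (Pi.single 0 (-t) ⬝ᵥ w) by
      congr 1; simp [hw]]
    exact h
  have hgz0r : ∀ r : Fin (k + 3), r ≠ 0 → r ≠ 1 → ∀ t,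
      ρ (gz (qSq F) (wedge (Pi.single 0 t) (Pi.single r 1))) Yv = Yv := by
    intro r hr0 hr1 t
    rw [hYv, ← rho_mul_apply, ← flipP_gz_far h2 (funext fun b => by
      simp [wedge_apply, Ne.symm hr1, z01.symm]), rho_mul_apply, gz_fix ρ y.2]
  set E := Ec k (-s) with hE
  set Y0 := eigProj (Zr ρ) (chr E) Yv with hY0
  have hgzc : ∀ A B, Commute (gz (qSq F) A) (gz (k := k) (qSq F) B) := fun A B => by
    show _ * _ = _ * _
    rw [← gz_add, ← gz_add, add_comm A B]
  have hY0ne : Y0 ≠ 0 := by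
    intro h0
    apply hYne
    rw [← sum_eigProj (Zr ρ) Yv]
    refine Finset.sum_eq_zero fun χ _ => ?_
    obtain ⟨ω, rfl⟩ := chr_bijective.2 χ
    by_contra hZ
    have hZm := eigProj_mem (Zr ρ) (chr ω) Yv
    have hval : ∀ r (p : F → F), (∀ t, ρ (gz (qSq F) (wedge (Pi.single 0 t) (Pi.single r 1))) Yv =
        psi F (p t) • Yv) → ∀ t, psi F (t * ω.1 0 r) = psi F (p t) := by
      intro r p hp t
      have h := gz_apply ρ hZm (wedge (Pi.single 0 t) (Pi.single r 1))
      rw [commute_eigProj_apply ρ (hgzc _) ω, hp t, map_smul, chr_apply, pr_wedge_single,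
        mul_one] at h
      exact (smul_left_injective ℂ hZ h).symm
    have h01 : ω.1 0 1 = -s := psi_lin_eq (hval 1 (fun t => t * -s) hgz01)
    have h0r : ∀ r, r ≠ 0 → r ≠ 1 → ω.1 0 r = 0 := fun r a b => psi_lin_eq (fun t => by
      rw [mul_zero]; exact hval r (fun _ => 0) (fun t => by
        rw [hgz0r r a b t, AddChar.map_zero_eq_one, one_smul]) t)
    have hω : ω ≠ 0 := fun e => hs (by rw [e] at h01; simpa using h01.symm)
    have hdec : Dec ω := by
      by_contra hnd
      have := heV ω hω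
      rw [if_neg hnd, eV, Submodule.finrank_eq_zero] at this
      exact hZ ((Submodule.eq_bot_iff _).1 this _ hZm)
    have hfar : ∀ x y', x ≠ 0 → x ≠ 1 → y' ≠ 0 → y' ≠ 1 → ω.1 x y' = 0 := by
      intro x y' a b c d
      have := hdec.identity 0 1 x y'
      rw [h0r x a b, h0r y' c d, h01] at this
      simpa [hs] using this
    set v : Fin (k + 3) → F := fun i => ω.1 i 1
    have hωv : ω = wedge v (Pi.single 1 1) := by
      refine Alt.ext fun i j => ?_
      rw [wedge_apply]
      simp only [v, Pi.single_apply]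
      by_cases j1 : j = 1
      · subst j1
        by_cases i1 : i = 1
        · subst i1; simp [Alt.dg ω]
        · simp [i1]
      · by_cases i1 : i = 1
        · subst i1; rw [Alt.sk ω j 1]; simp [j1]
        · simp only [i1, j1, if_false, mul_zero, zero_mul, sub_zero]
          by_cases i0 : i = 0
          · subst i0
            by_cases j0 : j = 0
            · subst j0; exact Alt.dg ω 0
            · exact h0r j j0 j1
          · by_cases j0 : j = 0
            · subst j0; rw [Alt.sk ω 0 i, h0r i i0 i1, neg_zero]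
            · exact hfar i j i0 i1 j0 j1
    set zz : Fin (k + 2) → F := fun j => v j.succ / v 0
    have hv0' : v 0 ≠ 0 := by show ω.1 0 1 ≠ 0; rw [h01]; exact neg_ne_zero.2 hs
    have hzz0 : zz 0 = 0 := by
      show ω.1 (Fin.succ 0) 1 / _ = 0
      rw [show (Fin.succ 0 : Fin (k + 3)) = 1 from rfl, Alt.dg ω, zero_div]
    set g := gL (slIn (k + 3) F (translSL zz)) with hg
    have hgY : ρ g Yv = Yv := by
      rw [hYv, ← rho_mul_apply, hg, hK, ← flipP_gL_comm h2, rho_mul_apply]
      · congr 1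
        have h := congrArg Subtype.val (hyt zz)
        rw [show zz ⬝ᵥ w = 0 by simp [hw, hzz0], AddChar.map_zero_eq_one, one_smul] at h
        exact h
      · intro x
        show (H40.transl zz *ᵥ x) 1 = x 1
        rw [show (1 : Fin (k + 3)) = Fin.succ 0 from rfl]
        simp [H40.transl, mulVec, dotProduct, Fin.sum_univ_succ, Matrix.one_apply, Fin.succ_ne_zero]
      · show H40.transl zz *ᵥ _ = _
        rw [mulVec_single_one, show (1 : Fin (k + 3)) = Fin.succ 0 from rfl]
        funext i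
        refine Fin.cases ?_ (fun i => ?_) i
        · simp [H40.transl, hzz0, Pi.single_apply, (Fin.succ_ne_zero _).symm]
        · by_cases hi : i = 0
          · subst hi; simp [H40.transl, Pi.single_apply, Matrix.one_apply]
          · have h1 : i.succ ≠ (1 : Fin (k + 3)) := fun h => hi (Fin.succ_injective _ h)
            simp [H40.transl, Pi.single_apply, Matrix.one_apply, hi, h1]
    have h := eigProj_lev ρ (isLev_gL (slIn (k + 3) F (translSL zz))) ω Yv
    rw [← hg, hgY] at h
    have hcong : cong ((((slIn (k + 3) F (translSL zz)).1)⁻¹).1)ᵀ ω = E := by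
      have hinv : (((slIn (k + 3) F (translSL zz)).1)⁻¹).1 = H40.transl (-zz) := by
        have e : slIn (k + 3) F (translSL zz) * slIn (k + 3) F (translSL (-zz)) = 1 := by
          rw [← map_mul, ← H40.translSL_add, add_neg_cancel, H40.MinDeg.translSL_zero, map_one]
        rw [inv_eq_of_mul_eq_one_right (congrArg Subtype.val e)]
        rfl
      rw [hinv, hωv, cong_wedge, hE, Ec]
      congr 1
      · funext i
        refine Fin.cases ?_ (fun i => ?_) i
        · rw [← h01]
          simp [mulVec, dotProduct, Fin.sum_univ_succ, H40.transl, Matrix.one_apply, v,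
            (Fin.succ_ne_zero _).symm]
        · simp [mulVec, dotProduct, Fin.sum_univ_succ, H40.transl, Matrix.one_apply,
            Fin.succ_ne_zero, zz, Pi.single_apply, div_mul_cancel₀ _ hv0']
      · rw [show (1 : Fin (k + 3)) = Fin.succ 0 from rfl]
        funext i
        refine Fin.cases ?_ (fun i => ?_) i
        · simp [mulVec, dotProduct, Fin.sum_univ_succ, H40.transl, Matrix.one_apply, Pi.single_apply,
            (Fin.succ_ne_zero _).symm]
        · by_cases hi : i = 0
          · subst hi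
            simp [mulVec, dotProduct, Fin.sum_univ_succ, H40.transl, Matrix.one_apply,
              Pi.single_apply, Fin.succ_ne_zero]
          · have h1 : i.succ ≠ (1 : Fin (k + 3)) := fun h => hi (Fin.succ_injective _ h)
            simp [mulVec, dotProduct, Fin.sum_univ_succ, H40.transl, Matrix.one_apply,
              Pi.single_apply, Fin.succ_ne_zero, Ne.symm hi, h1]
    rw [hcong, ← hY0, h0] at h
    have h' := congrArg (ρ g⁻¹) h
    rw [← rho_mul_apply, inv_mul_cancel, map_one, Module.End.one_apply, map_zero] at h'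
    exact hZ h'
  -- the component
  have hTY0 : ρ (hT a) Y0 = μ • Y0 := by
    have h := eigProj_lev ρ (isLev_gL (tor (k + 3) F (hPair (p := 0) (q := 1) a))) E Yv
    rw [hE, cong_tor_Ec] at h
    simp only [hPair_val] at h
    simp only [z01, z01.symm, if_true, if_false, mul_one, one_mul, inv_inv,
      Units.inv_mul, ← hE, ← hY0] at h
    rw [h, hTY, map_smul]
  have hY0u : Y0 ∈ uFix ρ (Vw ρ E) (Pi.single 0 1) := by
    refine ⟨eigProj_mem (Zr ρ) (chr E) Yv, fun u => ?_⟩
    rw [hY0, commute_eigProj_apply ρ (fun A => (gz_gu (qSq F) A _ u).symm) E]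
    congr 1
    have e := flipP_gu (k := k) h2 1 (s := Pi.single 0 1) (Pi.single_eq_of_ne z01.symm _) (-u)
    rw [neg_neg] at e
    rw [hYv, ← rho_mul_apply, ← e, rho_mul_apply, hU _ _ _ y.2]
  -- compare with the standard line
  set b : Fˣ := (Units.mk0 (-s) (neg_ne_zero.2 hs))⁻¹
  have z02 : (0 : Fin (k + 3)) ≠ 2 := by
    intro h; have := congrArg Fin.val h
    simp [Nat.mod_eq_of_lt (show 2 < k + 3 by omega)] at this
  set gb := tor (k + 3) F (hPair (p := (0 : Fin (k + 3))) (q := 2) b) with hgb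
  have hgbmem : ρ (gL gb) v0 ∈ uFix ρ (Vw ρ E) (Pi.single 0 1) := by
    refine ⟨?_, fun u => ?_⟩
    · have h := lev_mem ρ (isLev_gL gb) hv.1
      rw [hgb, ← Ec_one, cong_tor_Ec] at h
      simp only [hPair_val, z02, z01.symm, (two_ne_one (k := k)), if_true, if_false, mul_one,
        one_mul, inv_one, Units.val_one, b, inv_inv, Units.val_mk0] at h
      exact h
    · have h := gu_mul_gL ρ gb (Pi.single 0 1) ((b : F)⁻¹ • u) v0
      rw [hv.2, hgb, tor_single, hPair_val, if_pos rfl, if_neg z02, mul_one, mul_one,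
        show (Pi.single 0 (b : F) : Fin (k + 3) → F) = (b : F) • Pi.single 0 1 by
          rw [← Pi.single_smul, smul_eq_mul, mul_one],
        gu_smul, smul_inv_smul₀ b.ne_zero] at h
      exact h.symm
  have hgb0 : ρ (gL gb) v0 ≠ 0 := fun e => hv0 (by
    have := congrArg (ρ (gL gb)⁻¹) e
    rwa [map_zero, ← rho_mul_apply, inv_mul_cancel, map_one, Module.End.one_apply] at this)
  obtain ⟨ν, hν⟩ := line_smul (finrank_line ρ h2 (neg_ne_zero.2 hs) (hdE _ (neg_ne_zero.2 hs)))
    hgbmem hgb0 hY0u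
  have hneg : ρ (hT a) Y0 = (-1 : ℂ) • Y0 := by
    rw [hν, map_smul, ← rho_mul_apply, hT, ← map_mul, ← map_mul,
      mul_comm (hPair (p := (0 : Fin (k + 3))) (q := 1) a), map_mul, map_mul, rho_mul_apply, ha,
      map_neg, smul_neg, neg_one_smul]
  rw [hTY0] at hneg
  exact smul_left_injective ℂ hY0ne hneg

end H19.OM
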