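import Cfsg.Agent.H19.OM.NSide
import Cfsg.Agent.H19.OM.Constituent
import Cfsg.Agent.H43.Witt

/-!
# Elements coming from the isometries of the kernel form
-/

set_option autoImplicit false
set_option linter.unusedSectionVars false

namespace H19.OM

open Module Matrix
open scoped commutatorElement
open H43 (polB orthGroup refl)

variable {F : Type*} [Field F] {m δ : ℕ} (Q0 : QuadraticForm F (Fin δ → F))

/-- an isometry of `Q₀` acting on the last coordinate -/
noncomputable def wLift : orthGroup Q0 →* OO m Q0 where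
  toFun g := ⟨(LinearEquiv.refl F (Fin m → F)).prodCongr
      ((LinearEquiv.refl F (Fin m → F)).prodCongr g.1), fun v => by
    obtain ⟨x, y, w⟩ := v
    show Qf m Q0 (x, y, g.1 w) = _
    rw [Qf_apply, Qf_apply, g.2 w]⟩
  map_one' := H43.orth_ext fun v => by rfl
  map_mul' g h := H43.orth_ext fun v => by rfl

theorem wLift_apply (g : orthGroup Q0) (x y : Fin m → F) (w : Fin δ → F) :
    (wLift Q0 g).1 (x, y, w) = (x, y, g.1 w) := rfl

theorem wLift_zO (g : orthGroup Q0) (A : Alt m F) :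
    wLift Q0 g * zO Q0 A = zO Q0 A * wLift Q0 g := by
  refine H43.orth_ext fun v => ?_
  obtain ⟨x, y, w⟩ := v
  simp only [H43.orth_mul_apply, zO_apply, wLift_apply]

theorem wLift_levO (g : orthGroup Q0) (h : GL (Fin m) F) :
    wLift Q0 g * levO Q0 h = levO Q0 h * wLift Q0 g := by
  refine H43.orth_ext fun v => ?_
  obtain ⟨x, y, w⟩ := v
  simp only [H43.orth_mul_apply, levO_apply, wLift_apply]

theorem wLift_uO (g : orthGroup Q0) (s : Fin m → F) (w : Fin δ → F) :
    wLift Q0 g * uO Q0 s w = uO Q0 s (g.1 w) * wLift Q0 g := by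
  refine H43.orth_ext fun v => ?_
  obtain ⟨x, y, z⟩ := v
  simp only [H43.orth_mul_apply, uO_apply, wLift_apply, map_add, map_smul, H43.orth_polB_map,
    H43.orth_qmap]

theorem refl_eq_flipO (i : Fin m) :
    refl (Qf m Q0) (Pi.single i 1, -Pi.single i 1, 0) = flipO Q0 fun j => decide (j = i) := by
  refine H43.orth_ext fun v => ?_
  obtain ⟨x, y, w⟩ := v
  have hq : Qf m Q0 (Pi.single i 1, -Pi.single i 1, 0) = -1 := by simp [Qf_apply]
  rw [H43.refl_apply, hq, polB_Qf, flipO_apply]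
  simp only [Prod.smul_mk, Prod.mk_sub_mk, map_zero, smul_zero, sub_zero, Prod.mk.injEq, and_true]
  refine ⟨funext fun j => ?_, funext fun j => ?_⟩ <;>
    by_cases hj : j = i
  all_goals first | (subst hj; simp; ring) | simp [hj]

theorem refl_eq_wLift (w0 : Fin δ → F) :
    refl (Qf m Q0) (0, 0, w0) = wLift Q0 (refl Q0 w0) := by
  refine H43.orth_ext fun v => ?_
  obtain ⟨x, y, w⟩ := v
  simp [H43.refl_apply, polB_Qf, Qf_apply, wLift_apply]

/-- a single exchange, compensated on the kernel, lies in the derived group -/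
theorem flip_refl_mem (hQ0 : (polB Q0).Nondegenerate) (i : Fin m) {w0 : Fin δ → F}
    (hw0 : Q0 w0 = -1) :
    (flipO Q0 fun j => decide (j = i)) * wLift Q0 (refl Q0 w0) ∈ GG m Q0 := by
  rw [← refl_eq_flipO, ← refl_eq_wLift]
  set a : Sp m δ F := (Pi.single i 1, -Pi.single i 1, 0)
  set b : Sp m δ F := (0, 0, w0)
  have ha : Qf m Q0 a = -1 := by simp [a, Qf_apply]
  have hb : Qf m Q0 b = -1 := by simp [b, Qf_apply, hw0]
  have hQ : (polB (Qf m Q0)).Nondegenerate := by
    have h : ∀ u : Sp m δ F, (∀ v, polB (Qf m Q0) u v = 0) → u = 0 := by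
      rintro ⟨x, y, w⟩ hu
      refine Prod.ext (funext fun i => ?_) (Prod.ext (funext fun i => ?_) ?_)
      · simpa [polB_Qf] using hu (0, Pi.single i 1, 0)
      · simpa [polB_Qf] using hu (Pi.single i 1, 0, 0)
      · exact H43.eq_zero_of_polB_eq_zero hQ0 fun w' => by simpa [polB_Qf] using hu (0, 0, w')
    exact ⟨h, fun v hv => h v fun u => by rw [H43.polB_comm]; exact hv u⟩
  obtain ⟨g, hg⟩ := H43.exists_orth_map hQ (x := a) (y := b)
    (fun h => by simpa [h] using ha) (fun h => by simpa [h] using hb) (ha.trans hb.symm)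
  have h : refl (Qf m Q0) a * refl (Qf m Q0) b = ⁅refl (Qf m Q0) a, g⁆ := by
    rw [← hg, ← H43.refl_conj, commutatorElement_def, H43.refl_inv]; group
  rw [h]
  exact comm_mem Q0 _ _

/-! ### in the derived group -/

variable [Fintype F] [DecidableEq F] {k : ℕ}
variable {Q0}

/-- a fixed-point-free element of the kernel inside the derived group -/
def HasRot (k : ℕ) (Q0 : QuadraticForm F (Fin δ → F)) : Prop :=
  ∃ g : orthGroup Q0, wLift (m := k + 3) Q0 g ∈ GG (k + 3) Q0 ∧ ∀ w, g.1 w = w → w = 0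

variable {V : Type*} [AddCommGroup V] [Module ℂ V] [FiniteDimensional ℂ V]
variable (ρ : GG (k + 3) Q0 →* Module.End ℂ V)
variable (hQ0 : (polB Q0).Nondegenerate) (hrot : HasRot k Q0)

theorem gu_commute_of_rad {ω : Alt (k + 3) F} {x : V} (hx : x ∈ Vw ρ ω) {s : Fin (k + 3) → F}
    (hs : ∀ t, ev ω s t = 0) (s' : Fin (k + 3) → F) (w w' : Fin δ → F) :
    ρ (gu Q0 s w) (ρ (gu Q0 s' w') x) = ρ (gu Q0 s' w') (ρ (gu Q0 s w) x) := by
  rw [gu_comm_apply ρ hx, hs, mul_zero, AddChar.map_zero_eq_one, one_smul]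

include hQ0 hrot in
/-- translations along the radical of a bivector are trivial on its eigenspace -/
theorem gu_rad_trivial {ω : Alt (k + 3) F} (hω : ω ≠ 0) (hd : eV ρ ω = Fintype.card F ^ δ)
    {s : Fin (k + 3) → F} (hs : ∀ t, ev ω s t = 0) (w : Fin δ → F) :
    ∀ x ∈ Vw ρ ω, ρ (gu Q0 s w) x = x := by
  obtain ⟨g, hg, hfix⟩ := hrot
  set c : GG (k + 3) Q0 := ⟨wLift Q0 g, hg⟩
  have hc : ∀ x ∈ Vw ρ ω, ρ c x ∈ Vw ρ ω := fun x hx A => by
    have h : gz Q0 A * c = c * gz Q0 A := Subtype.ext (wLift_zO Q0 g A).symm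
    show ρ (gz Q0 A) (ρ c x) = _
    rw [← Module.End.mul_apply, ← map_mul, h, map_mul, Module.End.mul_apply, gz_apply ρ hx,
      map_smul]
  have hsc : ∀ w, ∃ lam : ℂ, ∀ x ∈ Vw ρ ω, ρ (gu Q0 s w) x = lam • x := fun w =>
    scalar_of_commute ρ hQ0 hd (fun x hx => gu_mem ρ hx _ _) hω fun i c' w' x hx =>
      gu_commute_of_rad ρ hx hs _ w w'
  choose lam hlam using hsc
  obtain ⟨v, hv⟩ : ∃ v, g.1 v - v = w := by
    let f : (Fin δ → F) →ₗ[F] (Fin δ → F) := g.1.toLinearMap - LinearMap.id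
    have hinj : Function.Injective f := by
      rw [← LinearMap.ker_eq_bot, LinearMap.ker_eq_bot']
      intro v hv
      exact hfix v (sub_eq_zero.1 hv)
    exact LinearMap.surjective_of_injective hinj w
  intro x hx
  have hcx := hc x hx
  have h1 : ρ c (ρ (gu Q0 s v) x) = ρ (gu Q0 s (g.1 v)) (ρ c x) := by
    rw [← Module.End.mul_apply, ← map_mul, ← Module.End.mul_apply, ← map_mul]
    congr 2
    exact Subtype.ext (wLift_uO Q0 g s v)
  rw [hlam v x hx, map_smul, show g.1 v = w + v by rw [← hv, sub_add_cancel], gu_add_right, map_mul,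
    Module.End.mul_apply, hlam v _ hcx, map_smul] at h1
  have hne : Vw ρ ω ≠ ⊥ := fun hb => by
    rw [eV, hb, finrank_bot] at hd
    exact pow_ne_zero _ Fintype.card_ne_zero hd.symm
  have hlne : lam v ≠ 0 := by
    intro hl
    obtain ⟨y, hy, hy0⟩ := Submodule.exists_mem_ne_zero_of_ne_bot hne
    have := congrArg (ρ (gu Q0 s v)⁻¹) (hlam v y hy)
    rw [hl, zero_smul, map_zero, ← Module.End.mul_apply, rho_inv_mul, Module.End.one_apply] at this
    exact hy0 this
  have h2 := smul_right_injective V hlne h1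
  rw [hlam w _ hcx] at h2
  rw [hlam w x hx]
  have h3 := congrArg (ρ c⁻¹) h2
  rw [map_smul, ← Module.End.mul_apply, rho_inv_mul, Module.End.one_apply] at h3
  exact h3.symm

/-! ### transvections in the Levi -/

/-- the image of a transvection -/
noncomputable def gT {i j : Fin (k + 3)} (hij : i ≠ j) (t : F) : GG (k + 3) Q0 :=
  gl Q0 (SpecialLinearGroup.transvection hij t)

theorem isLev_gT {i j : Fin (k + 3)} (hij : i ≠ j) (t : F) :
    IsLev Q0 (gT (Q0 := Q0) hij t) (tvG hij t) := by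
  rw [← toGL_transvection]; exact isLev_gl Q0 _

theorem gT_add {i j : Fin (k + 3)} (hij : i ≠ j) (s t : F) :
    gT (Q0 := Q0) hij (s + t) = gT hij s * gT hij t := by
  unfold gT
  rw [← map_mul]
  congr 1
  exact Subtype.ext (Matrix.transvection_mul_transvection_same _ _ hij _ _).symm

theorem gT_zero {i j : Fin (k + 3)} (hij : i ≠ j) : gT (Q0 := Q0) hij (0 : F) = 1 := by
  unfold gT
  rw [show SpecialLinearGroup.transvection hij (0 : F) = 1 from
    Subtype.ext (Matrix.transvection_zero _ _), map_one]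

theorem cong_tv_apply {m : ℕ} {i j : Fin m} (ω : Alt m F) (s : F) (a b : Fin m) :
    (cong (Matrix.transvection j i s) ω).1 a b =
      (ω.1 a b + if a = j then s * ω.1 i b else 0) +
        if b = j then s * (ω.1 a i + if a = j then s * ω.1 i i else 0) else 0 := by
  have hrow : (Matrix.transvection j i s : Matrix (Fin m) (Fin m) F) a =
      Pi.single a 1 + (if a = j then s else 0) • Pi.single i 1 := by
    funext c
    rw [Matrix.transvection, Matrix.add_apply, Pi.add_apply, Pi.smul_apply, smul_eq_mul]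
    congr 1
    · simp [Matrix.one_apply, Pi.single_apply, eq_comm]
    · by_cases ha : a = j
      · subst ha; simp [Matrix.single_apply, Pi.single_apply, eq_comm]
      · simp [Matrix.single_apply, ha, Ne.symm ha]
  rw [cong_row, hrow, add_vecMul, smul_vecMul, single_one_vecMul, single_one_vecMul,
    transvection_mulVec]
  simp only [Pi.add_apply, Pi.smul_apply, Matrix.row, smul_eq_mul, Pi.single_apply]
  congr 1
  · split_ifs <;> simp
  · split_ifs <;> simp

theorem cong_tv_fix {m : ℕ} {i j : Fin m} {ω : Alt m F} (h : ∀ b, b ≠ j → ω.1 i b = 0) (s : F) :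
    cong (Matrix.transvection j i s) ω = ω := by
  refine Alt.ext fun a b => ?_
  rw [cong_tv_apply]
  by_cases ha : a = j
  · subst ha
    by_cases hb : b = a
    · subst hb
      rw [if_pos rfl, if_pos rfl, if_pos rfl, Alt.dg ω i, Alt.sk ω i b]; ring
    · rw [if_pos rfl, if_neg hb, h b hb]; ring
  · rw [if_neg ha, if_neg ha]
    split_ifs with hb
    · rw [Alt.sk ω i a, h a ha]; ring
    · ring

theorem gT_mem_Vw {i j : Fin (k + 3)} (hij : i ≠ j) {ω : Alt (k + 3) F}
    (h : ∀ b, b ≠ j → ω.1 i b = 0) (t : F) {x : V} (hx : x ∈ Vw ρ ω) :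
    ρ (gT hij t) x ∈ Vw ρ ω := by
  refine mem_Vw_iff_cong ρ (isLev_gT hij t) ?_ hx
  rw [tvG_inv, tvG_val, Matrix.transvection, Matrix.transpose_add, Matrix.transpose_one,
    Matrix.transpose_single, ← Matrix.transvection, cong_tv_fix h]

include hQ0 hrot in
theorem gT_scalar {i j : Fin (k + 3)} (hij : i ≠ j) {ω : Alt (k + 3) F} (hω : ω ≠ 0)
    (hi : ω.1 i = 0) (hd : eV ρ ω = Fintype.card F ^ δ) (t : F) :
    ∃ lam : ℂ, ∀ x ∈ Vw ρ ω, ρ (gT hij t) x = lam • x := by
  have hfix : ∀ b, b ≠ j → ω.1 i b = 0 := fun b _ => by rw [hi]; rfl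
  refine scalar_of_commute ρ hQ0 hd (fun x hx => gT_mem_Vw ρ hij hfix t hx) hω fun a c w x hx => ?_
  set s : Fin (k + 3) → F := Pi.single a c
  set s0 : Fin (k + 3) → F := Pi.single i (t * s j)
  have hy : ρ (gT hij t) x ∈ Vw ρ ω := gT_mem_Vw ρ hij hfix t hx
  have hmul : gT (Q0 := Q0) hij t * gu Q0 s w = gu Q0 (s + s0) w * gT hij t := by
    rw [(isLev_gT hij t).mul_gu, tvG_val, transvection_mulVec]
  rw [← Module.End.mul_apply, ← map_mul, hmul, map_mul, Module.End.mul_apply]
  have h := LinearMap.congr_fun (congrArg ρ (gu_add_left Q0 s s0 w)) (ρ (gT hij t) x)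
  rw [map_mul, map_mul, Module.End.mul_apply, Module.End.mul_apply,
    gu_rad_trivial ρ hQ0 hrot hω hd (s := s0) (fun b => ev_eq_zero_of_row hi _ b) _ _ hy,
    gz_apply ρ (gu_mem ρ hy _ _), chr_wedge, ← ev, ev_smul_left, ev_swap,
    ev_eq_zero_of_row hi, neg_zero, mul_zero, AddChar.map_zero_eq_one, one_smul] at h
  exact h.symm

include hQ0 hrot in
/-- a root element of the radical that is a commutator inside the stabiliser is trivial -/
theorem gT_trivial {i l j : Fin (k + 3)} (hij : i ≠ j) (hil : i ≠ l) (hlj : l ≠ j)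
    {ω : Alt (k + 3) F} (hω : ω ≠ 0) (hi : ω.1 i = 0) (hl : ∀ b, b ≠ j → ω.1 l b = 0)
    (hd : eV ρ ω = Fintype.card F ^ δ) (t : F) :
    ∀ x ∈ Vw ρ ω, ρ (gT hij t) x = x := by
  intro x hx
  have h : gT (Q0 := Q0) hij t =
      gT hil t * gT hlj 1 * (gT hil t)⁻¹ * (gT hlj 1)⁻¹ := by
    unfold gT
    rw [sl_transvection_commutator hij hil hlj, map_commutatorElement, commutatorElement_def]
  obtain ⟨lam, hlam⟩ := gT_scalar ρ hQ0 hrot hil hω hi hd t
  obtain ⟨mu, hmu⟩ := gT_scalar ρ hQ0 hrot hil hω hi hd (-t)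
  have hinv : ∀ {a b : Fin (k + 3)} (hab : a ≠ b) (s : F),
      (gT (Q0 := Q0) hab s)⁻¹ = gT hab (-s) := fun hab s =>
    inv_eq_of_mul_eq_one_right (by rw [← gT_add, add_neg_cancel, gT_zero])
  rw [h, hinv, hinv, map_mul, map_mul, map_mul, Module.End.mul_apply, Module.End.mul_apply,
    Module.End.mul_apply]
  have h1 := gT_mem_Vw ρ hlj hl (-1) hx
  rw [hmu _ h1, map_smul, ← Module.End.mul_apply (ρ (gT hlj 1)), ← map_mul, ← gT_add,
    add_neg_cancel, gT_zero, map_one, Module.End.one_apply, map_smul, hlam x hx, smul_smul]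
  have h2 : x = (mu * lam) • x := by
    have := hmu (lam • x) (Submodule.smul_mem _ _ hx)
    rw [← hlam x hx, ← Module.End.mul_apply, ← map_mul, ← gT_add, neg_add_cancel, gT_zero, map_one,
      Module.End.one_apply, hlam x hx, smul_smul] at this
    exact this
  exact h2.symm

end H19.OM
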