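import Cfsg.Agent.H19.OM.Hecke
import Cfsg.Agent.H37.Generation

/-!
# No representation of that degree: the weights on the fixed space of the upper unipotent group
-/

set_option autoImplicit false
set_option linter.unusedSectionVars false

namespace H19.OM

open Module Matrix
open H40.MinDeg
open H40 (leviSL translSL)

variable {F : Type*} [Field F] [Fintype F] [DecidableEq F] {k : ℕ}
variable {W : Type*} [AddCommGroup W] [Module ℂ W] [FiniteDimensional ℂ W]
variable {σ : Representation ℂ (sqDet (k + 3) F) W}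

omit [Fintype F] [DecidableEq F] in
theorem tor_hPair_eq {m : ℕ} {i j : Fin m} (h : i ≠ j) (a : Fˣ) :
    tor m F (hPair (p := i) (q := j) a) = xT h (a : F) * xT h.symm (-((a⁻¹ : Fˣ) : F)) *
      xT h (a : F) * xT h (-1) * xT h.symm 1 * xT h (-1) := by
  refine sqDet_ext fun x => funext fun c => ?_
  simp only [mul_mulVec_sq, xT_mulVec, tor_mulVec, Pi.add_apply]
  have ha := a.ne_zero
  by_cases ci : c = i
  · subst ci
    simp [hPair, h, h.symm]
    field_simp
    ring
  · by_cases cj : c = j
    · subst cj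
      simp [hPair, h, h.symm]
      field_simp
      ring
    · simp [hPair, ci, cj]

omit [Fintype F] [DecidableEq F] in
theorem tor_commute_xT {m : ℕ} (d : sqTor m F) {i j : Fin m} (h : i ≠ j) (he : d.1 i = d.1 j)
    (t : F) : Commute (tor m F d) (xT h t) := by
  show _ * _ = _ * _
  rw [tor_xT, he]
  congr 2
  have := (d.1 j).ne_zero
  field_simp
  simp [mul_comm]

theorem hPair_val {m : ℕ} (p q : Fin m) (a : Fˣ) (i : Fin m) :
    (hPair (p := p) (q := q) a).1 i =
      (if i = p then a else 1) * (if i = q then a⁻¹ else 1) := by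
  simp [hPair, Pi.mulSingle_apply]

theorem hPair_mul {m : ℕ} (p q r : Fin m) (a : Fˣ) :
    hPair (p := p) (q := q) a * hPair (p := q) (q := r) a = hPair (p := p) (q := r) a := by
  refine Subtype.ext (funext fun i => ?_)
  show (hPair (p := p) (q := q) a).1 i * (hPair (p := q) (q := r) a).1 i = _
  rw [hPair_val, hPair_val, hPair_val]
  split_ifs <;> simp [mul_comm, mul_left_comm]

theorem hPair_self {m : ℕ} (p : Fin m) (a : Fˣ) : hPair (p := p) (q := p) a = 1 := by
  refine Subtype.ext (funext fun i => ?_)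
  rw [hPair_val]
  split_ifs <;> simp

theorem permTor_hPair {m : ℕ} (π : Equiv.Perm (Fin m)) (p q : Fin m) (a : Fˣ) :
    permTor π (hPair (p := p) (q := q) a) = hPair (p := π.symm p) (q := π.symm q) a := by
  refine Subtype.ext (funext fun i => ?_)
  show (hPair (p := p) (q := q) a).1 (π i) = _
  rw [hPair_val, hPair_val]
  simp only [Equiv.eq_symm_apply]

theorem permTor_sqOne {m : ℕ} (π : Equiv.Perm (Fin m)) (p : Fin m) (a : Fˣ) :
    permTor π (sqOne p a) = sqOne (π.symm p) a := by
  refine Subtype.ext (funext fun i => ?_)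
  show (sqOne p a).1 (π i) = _
  simp [sqOne, Pi.mulSingle_apply, Equiv.eq_symm_apply]

theorem two_le_cases {r : Fin (k + 3)} (h0 : r ≠ 0) (h1 : r ≠ 1) :
    ∃ r' : Fin (k + 2), r'.succ = r ∧ r' ≠ 0 := by
  obtain ⟨r', rfl⟩ := Fin.exists_succ_eq.2 h0
  exact ⟨r', rfl, fun h => h1 (by rw [h]; rfl)⟩

/-- the torus of a far pair fixes the lines along the first coordinate -/
theorem far_tor_fix (hq : 3 < Fintype.card F) (hline : LineCond σ) {r s : Fin (k + 3)}
    (hr0 : r ≠ 0) (hr1 : r ≠ 1) (hs0 : s ≠ 0) (hs1 : s ≠ 1) (hrs : r ≠ s) (b : Fˣ) (u : F)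
    (hu : u ≠ 0) :
    σ (tor (k + 3) F (hPair (p := r) (q := s) b)) * proj (slPart σ) (Pi.single 0 u) =
      proj (slPart σ) (Pi.single 0 u) := by
  obtain ⟨r', rfl, hr'⟩ := two_le_cases hr0 hr1
  obtain ⟨s', rfl, hs'⟩ := two_le_cases hs0 hs1
  have hne : r' ≠ s' := fun e => hrs (by rw [e])
  have hT : ∀ (i j : Fin (k + 2)) (hi : i ≠ 0) (hj : j ≠ 0) (hij : i ≠ j) (hij' : i.succ ≠ j.succ)
      (t : F), σ (xT hij' t) * proj (slPart σ) (Pi.single 0 u) =
        proj (slPart σ) (Pi.single 0 u) := by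
    intro i j hi hj hij hij' t
    have := far_fix hq hline hi hj hij t u hu
    rw [leviSL_transvection, comp_apply] at this
    exact this
  rw [tor_hPair_eq hrs, map_mul, map_mul, map_mul, map_mul, map_mul, mul_assoc,
    hT _ _ hr' hs' hne hrs, mul_assoc, hT _ _ hs' hr' hne.symm hrs.symm, mul_assoc,
    hT _ _ hr' hs' hne hrs, mul_assoc, hT _ _ hr' hs' hne hrs, mul_assoc,
    hT _ _ hs' hr' hne.symm hrs.symm, hT _ _ hr' hs' hne hrs]

theorem hPair_mem_closure (a : Fˣ) :
    tor (k + 3) F (hPair (p := 0) (q := 1) a) ∈ Subgroup.closure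
      (Set.range (xT (zero_ne_one'' (k := k))) ∪
        Set.range (xT (F := F) (zero_ne_one'' (k := k)).symm)) := by
  rw [tor_hPair_eq (zero_ne_one'' (k := k))]
  have h1 : ∀ t : F, xT (zero_ne_one'' (k := k)) t ∈ Subgroup.closure
      (Set.range (xT (zero_ne_one'' (k := k))) ∪
        Set.range (xT (F := F) (zero_ne_one'' (k := k)).symm)) :=
    fun t => Subgroup.subset_closure (Or.inl ⟨t, rfl⟩)
  have h2 : ∀ t : F, xT (zero_ne_one'' (k := k)).symm t ∈ Subgroup.closure
      (Set.range (xT (zero_ne_one'' (k := k))) ∪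
        Set.range (xT (F := F) (zero_ne_one'' (k := k)).symm)) :=
    fun t => Subgroup.subset_closure (Or.inr ⟨t, rfl⟩)
  exact mul_mem (mul_mem (mul_mem (mul_mem (mul_mem (h1 _) (h2 _)) (h1 _)) (h1 _)) (h2 _)) (h1 _)

/-- two disjoint pairs: one of the two characters is trivial -/
theorem IsWt.pair_rule (hq : 3 < Fintype.card F) (hline : LineCond σ) {v : W}
    {c : sqTor (k + 3) F → ℂ} (h : IsWt σ v c) {p q r s : Fin (k + 3)} (hpq : p ≠ q)
    (hrp : r ≠ p) (hrq : r ≠ q) (hsp : s ≠ p) (hsq : s ≠ q) (hrs : r ≠ s) (a b : Fˣ) :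
    c (hPair (p := p) (q := q) a) = 1 ∨ c (hPair (p := r) (q := s) b) = 1 := by
  set q' := Equiv.swap p 0 q
  set π : Equiv.Perm (Fin (k + 3)) := Equiv.swap q' 1 * Equiv.swap p 0
  have hq' : q' ≠ 0 := fun e => hpq ((Equiv.swap p 0).injective (by
    rw [Equiv.swap_apply_left]; exact e.symm))
  have hp : π p = 0 := by
    simp only [π, Equiv.Perm.mul_apply, Equiv.swap_apply_left]
    exact Equiv.swap_apply_of_ne_of_ne hq'.symm zero_ne_one''
  have hqq : π q = 1 := by simp [π, q']
  obtain ⟨v', h'⟩ := h.perm π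
  set r1 := π r
  set s1 := π s
  have r0 : r1 ≠ 0 := hp ▸ π.injective.ne hrp
  have r1' : r1 ≠ 1 := hqq ▸ π.injective.ne hrq
  have s0 : s1 ≠ 0 := hp ▸ π.injective.ne hsp
  have s1' : s1 ≠ 1 := hqq ▸ π.injective.ne hsq
  have hrs1 : r1 ≠ s1 := π.injective.ne hrs
  set g0 := tor (k + 3) F (hPair (p := r1) (q := s1) b)
  have hcomm : ∀ (i j : Fin (k + 3)) (hij : i ≠ j), (i = 0 ∨ i = 1) → (j = 0 ∨ j = 1) →
      ∀ u : F, Commute g0 (xT hij u) := by
    intro i j hij hi hj u
    refine tor_commute_xT _ hij ?_ u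
    have hz : ∀ l : Fin (k + 3), (l = 0 ∨ l = 1) →
        (hPair (p := r1) (q := s1) b).1 l = 1 := by
      rintro l (rfl | rfl) <;> simp [hPair_val, Ne.symm r0, Ne.symm r1', Ne.symm s0, Ne.symm s1']
    rw [hz i hi, hz j hj]
  have he := pair_eig (g0 := g0) (c := 1)
    (fun u => hcomm 0 1 _ (Or.inl rfl) (Or.inr rfl) u)
    (fun u => hcomm 1 0 _ (Or.inr rfl) (Or.inl rfl) u)
    (fun u hu => by rw [one_smul]; exact far_tor_fix hq hline r0 r1' s0 s1' hrs1 b u hu)
    (hPair_mem_closure a) (upFix_le_pairFix σ h'.2.1)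
  rw [one_smul, h'.2.2] at he
  have e0 : permTor π (hPair (p := 0) (q := 1) a) = hPair (p := p) (q := q) a := by
    rw [permTor_hPair, ← hp, ← hqq, Equiv.symm_apply_apply, Equiv.symm_apply_apply]
  have e1 : permTor π (hPair (p := r1) (q := s1) b) = hPair (p := r) (q := s) b := by
    rw [permTor_hPair]
    simp only [r1, s1, Equiv.symm_apply_apply]
  simp only [e0, map_sub, map_smul, g0, h'.2.2, e1] at he
  rw [← sub_eq_zero] at he
  have he2 : ((c (hPair (p := p) (q := q) a) - 1) * (c (hPair (p := r) (q := s) b) - 1)) • v' = 0 := by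
    rw [← he]; module
  rcases mul_eq_zero.1 ((smul_eq_zero.1 he2).resolve_right h'.1) with e | e
  · exact Or.inl (sub_eq_zero.1 e)
  · exact Or.inr (sub_eq_zero.1 e)

/-- weights with pairwise different characters are linearly independent -/
theorem IsWt.card_le {ι : Type*} [Fintype ι] {v : ι → W} {c : ι → sqTor (k + 3) F → ℂ}
    (h : ∀ i, IsWt σ (v i) (c i)) (hc : ∀ i j, c i = c j → i = j) :
    Fintype.card ι ≤ finrank ℂ (upFix (slPart σ)) := by
  classical
  have key : ∀ (s : Finset ι) (g : ι → ℂ), ∑ i ∈ s, g i • v i = 0 → ∀ i ∈ s, g i = 0 := by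
    intro s
    induction s using Finset.induction_on with
    | empty => simp
    | insert a t hat ih =>
      intro g hg
      rw [Finset.sum_insert hat] at hg
      have hrest : ∀ i ∈ t, g i = 0 := by
        intro i hi
        have hia : i ≠ a := fun e => hat (e ▸ hi)
        obtain ⟨d, hd⟩ := Function.ne_iff.1 (mt (hc i a) hia)
        have h2 := congrArg (fun x => σ (tor (k + 3) F d) x - c a d • x) hg
        simp only [map_add, map_sum, map_smul, (h _).2.2, map_zero, smul_add, Finset.smul_sum,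
          smul_zero, sub_zero] at h2
        have h3 : ∑ j ∈ t, (g j * (c j d - c a d)) • v j = 0 := by
          rw [← h2, smul_comm (g a) (c a d) (v a), add_sub_add_left_eq_sub, ← Finset.sum_sub_distrib]
          exact Finset.sum_congr rfl fun j _ => by module
        exact (mul_eq_zero.1 (ih _ h3 i hi)).resolve_right (sub_ne_zero.2 hd)
      rw [Finset.sum_eq_zero (fun i hi => by rw [hrest i hi, zero_smul]), add_zero,
        smul_eq_zero] at hg
      intro i hi
      rcases Finset.mem_insert.1 hi with rfl | hi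
      · exact hg.resolve_right (h i).1
      · exact hrest i hi
  have hli : LinearIndependent ℂ fun i => (⟨v i, (h i).2.1⟩ : upFix (slPart σ)) := by
    rw [Fintype.linearIndependent_iff]
    intro g hg i
    refine key Finset.univ g ?_ i (Finset.mem_univ i)
    have := congrArg Subtype.val hg
    simpa using this
  exact hli.fintype_card_le_finrank

/-- the pairs with a trivial character -/
def PairTriv (c : sqTor (k + 3) F → ℂ) (p q : Fin (k + 3)) : Prop :=
  ∀ a, c (hPair (p := p) (q := q) a) = 1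

theorem IsWt.triv_refl {v : W} {c : sqTor (k + 3) F → ℂ} (h : IsWt σ v c) (p : Fin (k + 3)) :
    PairTriv c p p := fun a => by rw [hPair_self, h.one]

theorem IsWt.triv_trans {v : W} {c : sqTor (k + 3) F → ℂ} (h : IsWt σ v c) {p q r : Fin (k + 3)}
    (h1 : PairTriv c p q) (h2 : PairTriv c q r) : PairTriv c p r := fun a => by
  rw [← hPair_mul p q r a, h.mul, h1, h2, mul_one]

theorem IsWt.triv_symm {v : W} {c : sqTor (k + 3) F → ℂ} (h : IsWt σ v c) {p q : Fin (k + 3)}
    (h1 : PairTriv c p q) : PairTriv c q p := fun a => by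
  have := h.mul (hPair (p := p) (q := q) a) (hPair (p := q) (q := p) a)
  rw [hPair_mul, hPair_self, h.one, h1, one_mul] at this
  exact this.symm

/-- three places: a weight fixed by a cyclic exchange -/
theorem IsWt.triv_three {σ : Representation ℂ (sqDet (0 + 3) F) W} {v : W}
    {c : sqTor (0 + 3) F → ℂ} (h : IsWt σ v c) (e : Equiv.Perm (Fin 3))
    (hee : e = finRotate 3 ∨ e = (finRotate 3)⁻¹) (he : ∀ d, c (permTor e d) = c d)
    (p q : Fin 3) : PairTriv c p q := by
  have hcy : e.symm 1 = 0 ∧ e.symm 2 = 1 ∧ e.symm 0 = 2 ∨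
      e.symm 0 = 1 ∧ e.symm 1 = 2 ∧ e.symm 2 = 0 := by
    rcases hee with rfl | rfl
    · left; decide
    · right; decide
  have hA : ∀ a : Fˣ, c (hPair (p := (0 : Fin 3)) (q := 1) a) = 1 ∧
      c (hPair (p := (1 : Fin 3)) (q := 2) a) = 1 := by
    intro a
    have hs : ∀ l : Fin 3, c (sqOne (e.symm l) a) = c (sqOne l a) := fun l => by
      rw [← permTor_sqOne, he]
    have hh : ∀ l l' : Fin 3, c (hPair (p := e.symm l) (q := e.symm l') a) =
        c (hPair (p := l) (q := l') a) := fun l l' => by rw [← permTor_hPair, he]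
    have hsq : c (hPair (p := (0 : Fin 3)) (q := 1) a) * c (hPair (p := (0 : Fin 3)) (q := 1) a) *
        c (sqOne (1 : Fin 3) a) = c (sqOne (0 : Fin 3) a) := by
      rw [← h.mul, ← h.mul]
      congr 1
      refine Subtype.ext (funext fun i => ?_)
      show (hPair (p := (0 : Fin 3)) (q := 1) a).1 i * (hPair (p := (0 : Fin 3)) (q := 1) a).1 i *
        (sqOne (1 : Fin 3) a).1 i = _
      rw [hPair_val]
      fin_cases i <;> simp [sqOne]
    have hcyc : c (hPair (p := (0 : Fin 3)) (q := 1) a) *
        c (hPair (p := (1 : Fin 3)) (q := 2) a) *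
        c (hPair (p := (2 : Fin 3)) (q := 0) a) = 1 := by
      rw [← h.mul, ← h.mul, hPair_mul, hPair_mul, hPair_self, h.one]
    have e12 : c (hPair (p := (1 : Fin 3)) (q := 2) a) =
        c (hPair (p := (0 : Fin 3)) (q := 1) a) := by
      rcases hcy with ⟨x1, x2, -⟩ | ⟨x0, x1, -⟩
      · have := hh 1 2; rw [x1, x2] at this; exact this.symm
      · have := hh 0 1; rw [x0, x1] at this; exact this
    have e20 : c (hPair (p := (2 : Fin 3)) (q := 0) a) =
        c (hPair (p := (1 : Fin 3)) (q := 2) a) := by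
      rcases hcy with ⟨-, x2, x0⟩ | ⟨-, x1, x2⟩
      · have := hh 2 0; rw [x2, x0] at this; exact this.symm
      · have := hh 1 2; rw [x1, x2] at this; exact this
    have e01 : c (sqOne (1 : Fin 3) a) = c (sqOne (0 : Fin 3) a) := by
      rcases hcy with ⟨x1, -, -⟩ | ⟨x0, -, -⟩
      · have := hs 1; rw [x1] at this; exact this.symm
      · have := hs 0; rw [x0] at this; exact this
    rw [e20, e12] at hcyc
    rw [e01, mul_eq_right₀ (h.ne_zero _)] at hsq
    rw [hsq, one_mul] at hcyc
    exact ⟨hcyc, e12.trans hcyc⟩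
  have t : ∀ l : Fin 3, PairTriv c 0 l := by
    intro l
    fin_cases l
    · exact h.triv_refl _
    · exact fun a => (hA a).1
    · exact h.triv_trans (fun a => (hA a).1) (fun a => (hA a).2)
  exact h.triv_trans (h.triv_symm (t p)) (t q)

/-- every weight is trivial on the torus of the special linear group -/
theorem IsWt.triv_all (hq : 3 < Fintype.card F) (hline : LineCond σ)
    (hf : finrank ℂ (upFix (slPart σ)) = k + 2) {v : W} {c : sqTor (k + 3) F → ℂ}
    (h : IsWt σ v c) (p q : Fin (k + 3)) : PairTriv c p q := by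
  by_contra hpq
  rcases Nat.eq_zero_or_pos k with hk | hk
  · -- three places
    subst hk
    set π : Equiv.Perm (Fin 3) := finRotate 3
    choose w hw using fun i : Fin 3 => h.perm (π ^ i.val)
    have := IsWt.card_le hw ?_
    · rw [Fintype.card_fin, hf] at this; omega
    intro i j hij
    by_contra hne
    have hcomb : ∀ (i j : Fin 3), i ≠ j →
        ((finRotate 3 ^ j.val)⁻¹ * finRotate 3 ^ i.val = finRotate 3 ∨
          (finRotate 3 ^ j.val)⁻¹ * finRotate 3 ^ i.val = (finRotate 3)⁻¹) := by decide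
    set e : Equiv.Perm (Fin 3) := (π ^ j.val)⁻¹ * π ^ i.val
    have he : ∀ d, c (permTor e d) = c d := by
      intro d
      have := congrFun hij (permTor (π ^ j.val)⁻¹ d)
      simp only [permTor_mul, inv_mul_cancel] at this
      exact this
    exact hpq (h.triv_three e (hcomb i j hne) he p q)
  · -- one exceptional place
    have hR : ∀ {a b r s : Fin (k + 3)}, ¬ PairTriv c a b → r ≠ a → r ≠ b → s ≠ a → s ≠ b →
        PairTriv c r s := by
      intro a b r s hab h1 h2 h3 h4
      by_cases hrs : r = s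
      · subst hrs; exact h.triv_refl _
      have hab' : a ≠ b := fun e => hab (e ▸ h.triv_refl a)
      obtain ⟨x, hx⟩ := not_forall.1 hab
      exact fun y => (h.pair_rule hq hline hab' h1 h2 h3 h4 hrs x y).resolve_left hx
    obtain ⟨r, hr, hr2⟩ : ∃ r, r ≠ p ∧ r ≠ q := by
      obtain ⟨r, -, hr⟩ := Finset.exists_mem_notMem_of_card_lt_card (s := ({p, q} : Finset (Fin (k + 3))))
        (t := Finset.univ) (by
          rw [Finset.card_univ, Fintype.card_fin]
          have := Finset.card_le_two (a := p) (b := q); omega)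
      simp only [Finset.mem_insert, Finset.mem_singleton, not_or] at hr
      exact ⟨r, hr⟩
    obtain ⟨s, hs, hs2, hsr⟩ : ∃ s, s ≠ p ∧ s ≠ q ∧ s ≠ r := by
      obtain ⟨s, -, hs⟩ := Finset.exists_mem_notMem_of_card_lt_card
        (s := ({p, q, r} : Finset (Fin (k + 3))))
        (t := Finset.univ) (by
          rw [Finset.card_univ, Fintype.card_fin]
          have := Finset.card_le_three (a := p) (b := q) (c := r); omega)
      simp only [Finset.mem_insert, Finset.mem_singleton, not_or] at hs
      exact ⟨s, hs⟩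
    obtain ⟨e, o, heo, he⟩ : ∃ e o, ¬ PairTriv c e o ∧
        ∀ x y, x ≠ e → y ≠ e → PairTriv c x y := by
      by_cases hqr : PairTriv c q r
      · refine ⟨p, q, hpq, ?_⟩
        have h1 : ∀ x, x ≠ p → PairTriv c q x := by
          intro x hx
          by_cases hxq : x = q
          · subst hxq; exact h.triv_refl _
          exact h.triv_trans hqr (hR hpq hr hr2 hx hxq)
        exact fun x y hx hy => h.triv_trans (h.triv_symm (h1 x hx)) (h1 y hy)
      · refine ⟨q, p, fun t => hpq (h.triv_symm t), ?_⟩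
        have h1 : ∀ x, x ≠ q → PairTriv c r x := by
          intro x hx
          by_cases hxp : x = p
          · subst hxp
            exact h.triv_trans (hR hpq hr hr2 hs hs2)
              (hR hqr hs2 hsr hx (Ne.symm hr))
          exact hR hpq hr hr2 hxp hx
        exact fun x y hx hy => h.triv_trans (h.triv_symm (h1 x hx)) (h1 y hy)
    choose w hw using fun f : Fin (k + 3) => h.perm (Equiv.swap e f)
    have := IsWt.card_le hw ?_
    · rw [Fintype.card_fin, hf] at this; omega
    intro f g hfg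
    by_contra hne
    have heoN : e ≠ o := fun t => heo (t ▸ h.triv_refl e)
    set x := Equiv.swap e f o
    have hxf : x ≠ f := fun t => heoN (by
      have h2 := (Equiv.swap e f).injective (t.trans (Equiv.swap_apply_left e f).symm)
      exact h2.symm)
    by_cases hxg : x = g
    · -- a third place
      obtain ⟨z, hzf, hzg⟩ : ∃ z, z ≠ f ∧ z ≠ g := by
        obtain ⟨z, -, hz⟩ := Finset.exists_mem_notMem_of_card_lt_card
          (s := ({f, g} : Finset (Fin (k + 3)))) (t := Finset.univ) (by
            rw [Finset.card_univ, Fintype.card_fin]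
            have := Finset.card_le_two (a := f) (b := g); omega)
        simp only [Finset.mem_insert, Finset.mem_singleton, not_or] at hz
        exact ⟨z, hz⟩
      apply heo
      intro a
      have hx0 : Equiv.swap e f z ≠ e := fun t => hzf ((Equiv.swap e f).injective (by
        rw [t, Equiv.swap_apply_right]))
      have h2 : PairTriv c e (Equiv.swap e f z) := by
        intro a
        have := congrFun hfg (hPair (p := f) (q := z) a)
        simp only [permTor_hPair, Equiv.symm_swap, Equiv.swap_apply_right] at this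
        rw [this]
        exact he _ _ (fun t => hne ((Equiv.swap e g).injective
            (t.trans (Equiv.swap_apply_right e g).symm)))
          (fun t => hzg ((Equiv.swap e g).injective
            (t.trans (Equiv.swap_apply_right e g).symm))) a
      exact h.triv_trans h2 (he _ _ hx0 heoN.symm) a
    · apply heo
      intro a
      have := congrFun hfg (hPair (p := f) (q := x) a)
      simp only [permTor_hPair, Equiv.symm_swap, Equiv.swap_apply_right, x,
        Equiv.swap_apply_self] at this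
      rw [this]
      exact he _ _ (fun t => hne ((Equiv.swap e g).injective
          (t.trans (Equiv.swap_apply_right e g).symm)))
        (fun t => hxg ((Equiv.swap e g).injective
          (t.trans (Equiv.swap_apply_right e g).symm))) a

/-- a common eigenvector of the torus -/
theorem exists_isWt (hpos : 0 < finrank ℂ (upFix (slPart σ))) : ∃ v c, IsWt σ v c := by
  classical
  have key : ∀ s : Finset (sqTor (k + 3) F), ∃ P : Submodule ℂ W, P ≠ ⊥ ∧ P ≤ upFix (slPart σ) ∧
      (∀ d, ∀ x ∈ P, σ (tor (k + 3) F d) x ∈ P) ∧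
      ∀ d ∈ s, ∃ μ : ℂ, ∀ x ∈ P, σ (tor (k + 3) F d) x = μ • x := by
    intro s
    induction s using Finset.induction_on with
    | empty =>
      refine ⟨upFix (slPart σ), fun e => ?_, le_rfl, fun d x hx => tor_upFix σ d hx, by simp⟩
      rw [e, finrank_bot] at hpos
      exact lt_irrefl _ hpos
    | insert a t _ ih =>
      obtain ⟨P, hP0, hPle, hPinv, hPs⟩ := ih
      haveI : Nontrivial P := Submodule.nontrivial_iff_ne_bot.2 hP0
      obtain ⟨μ, hμ⟩ := Module.End.exists_eigenvalue
        ((σ (tor (k + 3) F a)).restrict (hPinv a))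
      obtain ⟨x, hx⟩ := hμ.exists_hasEigenvector
      refine ⟨P ⊓ Module.End.eigenspace (σ (tor (k + 3) F a)) μ, fun e => hx.2 ?_,
        inf_le_left.trans hPle, fun d y hy => ⟨hPinv d y hy.1, ?_⟩, fun d hd => ?_⟩
      · have hmem : (x : W) ∈ P ⊓ Module.End.eigenspace (σ (tor (k + 3) F a)) μ :=
          ⟨x.2, Module.End.mem_eigenspace_iff.2 (congrArg Subtype.val hx.apply_eq_smul)⟩
        rw [e, Submodule.mem_bot] at hmem
        exact Subtype.ext hmem
      · have h1 : σ (tor (k + 3) F a) y = μ • y := Module.End.mem_eigenspace_iff.1 hy.2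
        refine Module.End.mem_eigenspace_iff.2 ?_
        rw [← rep_mul_apply, ← map_mul, mul_comm a d, map_mul, rep_mul_apply, h1, map_smul]
      · rcases Finset.mem_insert.1 hd with rfl | hd
        · exact ⟨μ, fun y hy => Module.End.mem_eigenspace_iff.1 hy.2⟩
        · obtain ⟨ν, hν⟩ := hPs d hd
          exact ⟨ν, fun y hy => hν y hy.1⟩
  obtain ⟨P, hP0, hPle, -, hPs⟩ := key Finset.univ
  obtain ⟨v, hv, hv0⟩ := Submodule.exists_mem_ne_zero_of_ne_bot hP0
  choose μ hμ using fun d => hPs d (Finset.mem_univ d)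
  exact ⟨v, μ, hv0, hPle hv, fun d => hμ d v hv⟩

/-- inversion of one place -/
def flipT (l : Fin (k + 3)) (d : sqTor (k + 3) F) : sqTor (k + 3) F :=
  ⟨flipU (fun j => decide (j = l)) d.1, by
    show (∏ i, flipU (fun j => decide (j = l)) d.1 i) ∈ sqU F
    have e : ∏ i, flipU (fun j => decide (j = l)) d.1 i = (∏ i, d.1 i) * ((d.1 l)⁻¹ * (d.1 l)⁻¹) := by
      rw [← Finset.mul_prod_erase _ _ (Finset.mem_univ l),
        ← Finset.mul_prod_erase _ (fun i => d.1 i) (Finset.mem_univ l)]
      have e' : ∏ i ∈ Finset.univ.erase l, flipU (fun j => decide (j = l)) d.1 i = ∏ i ∈ Finset.univ.erase l, d.1 i :=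
        Finset.prod_congr rfl fun i hi => by simp [flipU, Finset.ne_of_mem_erase hi]
      rw [e', show flipU (fun j => decide (j = l)) d.1 l = (d.1 l)⁻¹ by simp [flipU]]
      generalize ∏ i ∈ Finset.univ.erase l, d.1 i = P
      calc (d.1 l)⁻¹ * P = d.1 l * (d.1 l)⁻¹ * ((d.1 l)⁻¹ * P) := by
            rw [mul_inv_cancel, one_mul]
        _ = _ := by ac_rfl
    rw [e]
    exact mul_mem d.2 ⟨(d.1 l)⁻¹, by simp [sq]⟩⟩

theorem flipT_hPair {l : Fin (k + 3)} (hl : (0 : Fin (k + 3)) ≠ l) (a : Fˣ) :
    flipT l (hPair (p := 0) (q := l) a) = aPair (p := 0) (q := l) a := by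
  refine Subtype.ext (funext fun i => ?_)
  show flipU (fun j => decide (j = l)) (hPair (p := 0) (q := l) a).1 i = _
  unfold flipU
  by_cases hi : i = l
  · subst hi; simp [hPair, aPair, hl.symm]
  · simp [hPair, aPair, hi]

/-- every weight is trivial -/
theorem IsWt.eq_one (hq : 3 < Fintype.card F) (hline : LineCond σ)
    (hf : finrank ℂ (upFix (slPart σ)) = k + 2) (S : W →ₗ[ℂ] W) (hSinj : ∀ x ∈ upFix (slPart σ), S x = 0 → x = 0)
    (hSmem : ∀ x ∈ upFix (slPart σ), S x ∈ upFix (slPart σ))
    (hS : ∀ (d : sqTor (k + 3) F), ∀ x ∈ upFix (slPart σ),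
      σ (tor (k + 3) F d) (S x) = S (σ (tor (k + 3) F (flipT (Fin.last (k + 2)) d)) x))
    {v : W} {c : sqTor (k + 3) F → ℂ} (h : IsWt σ v c) (d : sqTor (k + 3) F) : c d = 1 := by
  set l := Fin.last (k + 2)
  have hl : (0 : Fin (k + 3)) ≠ l := ne_of_lt (Fin.last_pos)
  have h' : IsWt σ (S v) fun d => c (flipT l d) :=
    ⟨fun e => h.1 (hSinj v h.2.1 e), hSmem v h.2.1, fun d => by
      rw [hS d v h.2.1, h.2.2, map_smul]⟩
  have hsq : ∀ a : Fˣ, c (sqOne 0 a) = 1 := by
    intro a
    have h1 := h.triv_all hq hline hf 0 l a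
    have h2 := h'.triv_all hq hline hf 0 l a
    simp only [flipT_hPair hl] at h2
    have e : hPair (p := (0 : Fin (k + 3))) (q := l) a * aPair (p := 0) (q := l) a =
        sqOne 0 a := by
      refine Subtype.ext (funext fun i => ?_)
      show (hPair (p := (0 : Fin (k + 3))) (q := l) a).1 i *
        (aPair (p := (0 : Fin (k + 3))) (q := l) a).1 i = _
      simp only [hPair_val, aPair, sqOne, Pi.mul_apply, Pi.mulSingle_apply]
      split_ifs <;> simp_all [mul_comm]
    rw [← e, h.mul, h1, h2, one_mul]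
  obtain ⟨b, hb⟩ := d.2
  let cH : sqTor (k + 3) F →* ℂ :=
    { toFun := c, map_one' := h.one, map_mul' := h.mul }
  have hd : d = sqOne 0 b * ∏ p ∈ (Finset.univ : Finset (Fin (k + 3))).erase 0,
      hPair (p := p) (q := 0) (d.1 p) := by
    refine Subtype.ext (funext fun i => ?_)
    show d.1 i = (sqOne 0 b).1 i *
      (∏ p ∈ (Finset.univ : Finset (Fin (k + 3))).erase 0, hPair (p := p) (q := 0) (d.1 p)).1 i
    rw [Subgroup.val_finset_prod, Finset.prod_apply]
    simp only [hPair_val]
    rw [Finset.prod_mul_distrib]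
    by_cases hi : i = 0
    · subst hi
      have e1 : ∏ p ∈ (Finset.univ : Finset (Fin (k + 3))).erase 0,
          (if (0 : Fin (k + 3)) = p then d.1 p else 1) = 1 :=
        Finset.prod_eq_one fun p hp => by rw [if_neg (Finset.ne_of_mem_erase hp).symm]
      rw [e1, one_mul]
      simp only [if_true, Finset.prod_inv_distrib]
      have hb' : b * b = ∏ i, d.1 i := by simpa [sq] using hb
      rw [show (sqOne (0 : Fin (k + 3)) b).1 0 = b * b by simp [sqOne], hb',
        ← Finset.mul_prod_erase _ _ (Finset.mem_univ (0 : Fin (k + 3))), mul_inv_cancel_right]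
    · have e2 : ∏ p ∈ (Finset.univ : Finset (Fin (k + 3))).erase 0,
          (if i = 0 then (d.1 p)⁻¹ else 1) = 1 := Finset.prod_eq_one fun p _ => by rw [if_neg hi]
      rw [e2, mul_one, show (sqOne (0 : Fin (k + 3)) b).1 i = 1 by simp [sqOne, hi], one_mul,
        Finset.prod_ite_eq, if_pos (Finset.mem_erase.2 ⟨hi, Finset.mem_univ i⟩)]
  show cH d = 1
  rw [hd, map_mul, map_prod, show cH (sqOne 0 b) = 1 from hsq b, one_mul]
  exact Finset.prod_eq_one fun p _ => h.triv_all hq hline hf p 0 _

/-- the vectors fixed by the upper triangular matrices -/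
noncomputable def borFix (σ : Representation ℂ (sqDet (k + 3) F) W) : Submodule ℂ W where
  carrier := {v | v ∈ upFix (slPart σ) ∧ ∀ d, σ (tor (k + 3) F d) v = v}
  add_mem' {x y} hx hy := ⟨add_mem hx.1 hy.1, fun d => by rw [map_add, hx.2, hy.2]⟩
  zero_mem' := ⟨zero_mem _, fun d => map_zero _⟩
  smul_mem' c x hx := ⟨Submodule.smul_mem _ c hx.1, fun d => by rw [map_smul, hx.2]⟩

/-- **No representation of that kind.** -/
theorem no_small_rep (hq : 3 < Fintype.card F) (hline : LineCond σ)
    (hf : finrank ℂ (upFix (slPart σ)) = k + 2)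
    (hnfix : ∀ v : W, (∀ g, slPart σ g v = v) → v = 0)
    (S : W →ₗ[ℂ] W) (hSinj : ∀ x ∈ upFix (slPart σ), S x = 0 → x = 0)
    (hSmem : ∀ x ∈ upFix (slPart σ), S x ∈ upFix (slPart σ))
    (hS : ∀ (d : sqTor (k + 3) F), ∀ x ∈ upFix (slPart σ),
      σ (tor (k + 3) F d) (S x) = S (σ (tor (k + 3) F (flipT (Fin.last (k + 2)) d)) x))
    (hkappa : ∃ a : Fˣ, ∀ s : F, s ≠ 0 →
      σ (tor (k + 3) F (aPair (p := 0) (q := 1) a)) * proj (slPart σ) (Pi.single 0 s) =
        (-1 : ℂ) • proj (slPart σ) (Pi.single 0 s)) : False := by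
  obtain ⟨a, ha⟩ := hkappa
  obtain ⟨v, c, hv⟩ := exists_isWt (σ := σ) (by omega)
  have h1 := IsWt.eq_one hq hline hf S hSinj hSmem hS hv
  have hv0 : v ∈ borFix σ := ⟨hv.2.1, fun d => by rw [hv.2.2, h1, one_smul]⟩
  set g0 := tor (k + 3) F (aPair (p := (0 : Fin (k + 3))) (q := 1) a)
  have hcomm : ∀ (i j : Fin (k + 3)) (hij : i ≠ j), (i = 0 ∨ i = 1) → (j = 0 ∨ j = 1) →
      ∀ u : F, Commute g0 (xT hij u) := by
    intro i j hij hi hj u
    refine tor_commute_xT _ hij ?_ u
    rcases hi with rfl | rfl <;> rcases hj with rfl | rfl <;> simp [aPair]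
  have hstart : ∀ x ∈ borFix σ, ∀ u : F, σ (xT (zero_ne_one'' (k := k)).symm u) x = x := by
    intro x hx u
    have e := pair_eig (g0 := g0) (c := -1) (fun u => hcomm 0 1 _ (Or.inl rfl) (Or.inr rfl) u)
      (fun u => hcomm 1 0 _ (Or.inr rfl) (Or.inl rfl) u) ha
      (Subgroup.subset_closure (Or.inr ⟨u, rfl⟩)) (upFix_le_pairFix σ hx.1)
    rw [map_sub, ← rep_mul_apply, (hcomm 1 0 _ (Or.inr rfl) (Or.inl rfl) u).eq, rep_mul_apply,
      hx.2, neg_smul, one_smul, eq_neg_iff_add_eq_zero, ← two_smul ℂ,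
      smul_eq_zero_iff_right (two_ne_zero' ℂ), sub_eq_zero] at e
    exact e
  have hmem : ∀ p, ∀ x ∈ borFix σ, hR σ p x ∈ borFix σ := fun p x hx =>
    ⟨hR_upFix σ p hx.1, fun d => by rw [tor_hR, hx.2]⟩
  have hinj : ∀ p, Function.Injective ((hR σ p).restrict (hmem p)) := by
    intro p
    rw [← LinearMap.ker_eq_bot, LinearMap.ker_eq_bot']
    intro x hx
    by_contra hne
    exact hR_ne_zero p (v := (x : W)) (c := fun _ => 1)
      ⟨fun e => hne (Subtype.ext e), x.2.1, fun d => by rw [x.2.2, one_smul]⟩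
      (congrArg Subtype.val hx)
  have hadj : ∀ p : Fin (k + 2), ∀ x ∈ borFix σ, ∀ t : F,
      σ (xT (ne_of_lt (lp_lt_rp p)).symm t) x = x := by
    intro p
    induction p using Fin.induction with
    | zero =>
      intro x hx t
      exact hstart x hx t
    | succ i ih =>
      intro x hx t
      obtain ⟨y, hy⟩ := LinearMap.surjective_of_injective
        (f := (hR σ i.castSucc).restrict (hmem _) ∘ₗ (hR σ i.succ).restrict (hmem _))
        ((hinj _).comp (hinj _)) ⟨x, hx⟩
      have hy' : hR σ i.castSucc (hR σ i.succ y.1) = x := congrArg Subtype.val hy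
      rw [← hy']
      exact hR_pair i.castSucc i.succ rfl (ih y.1 y.2) t
  have hlow : ∀ (a c : Fin (k + 3)) (hca : c < a) (t : F),
      σ (xT (ne_of_lt hca).symm t) v = v := by
    intro a
    induction a using Fin.induction with
    | zero => exact fun c hc => absurd hc (Fin.not_lt_zero _)
    | succ i ih =>
      intro c hc t
      rcases lt_or_eq_of_le (Fin.le_castSucc_iff.2 hc) with h2 | h2
      · have e : xT (ne_of_lt hc).symm t =
            xT (ne_of_lt (lp_lt_rp i)).symm t * xT (ne_of_lt h2).symm 1 *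
              xT (ne_of_lt (lp_lt_rp i)).symm (-t) * xT (ne_of_lt h2).symm (-1) := by
          refine sqDet_ext fun x => funext fun l => ?_
          simp only [mul_mulVec_sq, xT_mulVec, Pi.add_apply]
          have n1 := (ne_of_lt h2)
          have n2 := (ne_of_lt hc)
          have n3 := ne_of_lt (lp_lt_rp i)
          by_cases l1 : l = i.succ
          · subst l1; simp [lp, rp, n1, n1.symm, n2, n2.symm, n3, n3.symm]; ring
          · by_cases l2 : l = i.castSucc
            · subst l2; simp [lp, rp, n1, n1.symm, n2, n2.symm, n3, n3.symm, l1]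
            · simp [l1, l2]
        rw [e]
        simp only [rep_mul_apply]
        rw [ih c h2, hadj i v hv0, ih c h2, hadj i v hv0]
      · subst h2
        exact hadj i v hv0 t
  refine hv.1 (hnfix v fun g => ?_)
  refine H37.SL_transvection_induction (fun g => slPart σ g v = v) ?_ ?_ ?_ g
  · rw [map_one, Module.End.one_apply]
  · intro i j hij t
    rcases lt_or_gt_of_ne hij with hlt | hgt
    · exact hv.2.1 i j hlt t
    · rw [comp_apply]; exact hlow i j hgt t
  · intro A B hA hB
    rw [rep_mul_apply, hB, hA]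

end H19.OM
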