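import Cfsg.Agent.H19.OM.Core
import Cfsg.Agent.H19.OM.Twist
import Cfsg.Agent.H19.OM.WeightsFinal

/-!
# The Levi with a square determinant in `Ω_{2n+1}`
-/

set_option autoImplicit false
set_option linter.unusedSectionVars false

namespace H19.OM

open Module Matrix H50.LS
open scoped commutatorElement
open H43 (polB orthGroup refl)

variable {F : Type*} [Field F] [Fintype F] [DecidableEq F] {k : ℕ}

/-- the form of the one-dimensional kernel -/
noncomputable def qSq (F : Type*) [Field F] : QuadraticForm F (Fin 1 → F) :=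
  (QuadraticMap.sq (R := F)).comp (LinearMap.proj 0)

theorem qSq_apply (w : Fin 1 → F) : qSq F w = w 0 * w 0 := by simp [qSq]

theorem polB_qSq (u v : Fin 1 → F) : polB (qSq F) u v = 2 * (u 0 * v 0) := by
  rw [H43.polB_apply, QuadraticMap.polar, qSq_apply, qSq_apply, qSq_apply, Pi.add_apply]
  ring

theorem qSq_nondeg (h2 : (2 : F) ≠ 0) : (polB (qSq F)).Nondegenerate := by
  have h : ∀ u : Fin 1 → F, (∀ v, polB (qSq F) u v = 0) → u = 0 := by
    intro u hu
    have := hu 1
    rw [polB_qSq, Pi.one_apply, mul_one] at this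
    funext i
    rw [Subsingleton.elim i 0]
    exact (mul_eq_zero.1 this).resolve_left h2
  exact ⟨h, fun v hv => h v fun u => by rw [H43.polB_comm]; exact hv u⟩

theorem levO_sqDet_mem (g : sqDet (k + 3) F) :
    levO (qSq F) g.1 ∈ GG (k + 3) (qSq F) := by
  obtain ⟨c, hc⟩ := g.2
  set d : GL (Fin (k + 3)) F := dgGL (Pi.mulSingle (0 : Fin (k + 3)) (c * c))
  have hd : GeneralLinearGroup.det (d⁻¹ * g.1) = 1 := by
    rw [map_mul, map_inv, det_dgGL]
    simp only [Fintype.prod_pi_mulSingle']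
    rw [← hc]
    simp [sq]
  let s : SpecialLinearGroup (Fin (k + 3)) F :=
    ⟨(d⁻¹ * g.1).1, by
      have := congrArg Units.val hd
      rw [GeneralLinearGroup.val_det_apply] at this
      exact this⟩
  have hg : g.1 = d * SpecialLinearGroup.toGL s := by
    have : SpecialLinearGroup.toGL s = d⁻¹ * g.1 := Units.ext rfl
    rw [this, mul_inv_cancel_left]
  rw [hg, map_mul]
  exact mul_mem (levO_sq_mem (qSq F) 0 c) (levSO_mem (qSq F) (by omega) s)

/-- the Levi with a square determinant -/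
noncomputable def gL : sqDet (k + 3) F →* GG (k + 3) (qSq F) :=
  ((levO (qSq F)).comp (sqDet (k + 3) F).subtype).codRestrict _ levO_sqDet_mem

theorem isLev_gL (g : sqDet (k + 3) F) : IsLev (qSq F) (gL g) g.1 := rfl

theorem gL_slIn (s : SpecialLinearGroup (Fin (k + 3)) F) : gL (slIn (k + 3) F s) = gl (qSq F) s :=
  Subtype.ext rfl

variable {V : Type*} [AddCommGroup V] [Module ℂ V] [FiniteDimensional ℂ V]
variable (ρ : GG (k + 3) (qSq F) →* Module.End ℂ V)

theorem rho_mul_apply (g h : GG (k + 3) (qSq F)) (x : V) : ρ (g * h) x = ρ g (ρ h x) := by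
  rw [map_mul, Module.End.mul_apply]

/-- the action on the vectors fixed by the centre of the radical -/
noncomputable def levSq : Representation ℂ (sqDet (k + 3) F) (Vw ρ 0) where
  toFun g := (ρ (gL g)).restrict fun _ hx => mem_Vw_iff_cong ρ (isLev_gL g) (cong_zero _) hx
  map_one' := LinearMap.ext fun x => Subtype.ext (by
    show ρ (gL 1) x.1 = x.1
    rw [map_one, map_one, Module.End.one_apply])
  map_mul' a b := LinearMap.ext fun x => Subtype.ext (by
    show ρ (gL (a * b)) x.1 = ρ (gL a) (ρ (gL b) x.1)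
    rw [map_mul, rho_mul_apply])

theorem slPart_levSq : slPart (levSq ρ) = levN ρ :=
  MonoidHom.ext fun g => LinearMap.ext fun x => Subtype.ext rfl

/-! ### exchange at one place -/

/-- the vector `e_l + f_l` -/
def pVec (l : Fin (k + 3)) : Sp (k + 3) 1 F := (Pi.single l 1, Pi.single l 1, 0)

theorem flipPos_mem (h2 : (2 : F) ≠ 0) (l : Fin (k + 3)) :
    refl (Qf (k + 3) (qSq F)) (pVec l) * refl (Qf (k + 3) (qSq F)) (0, 0, 1) ∈
      GG (k + 3) (qSq F) := by
  set a : Sp (k + 3) 1 F := pVec l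
  set b : Sp (k + 3) 1 F := (0, 0, 1)
  have ha : Qf (k + 3) (qSq F) a = 1 := by simp [a, pVec, Qf_apply, qSq_apply]
  have hb : Qf (k + 3) (qSq F) b = 1 := by simp [b, Qf_apply, qSq_apply]
  obtain ⟨g, hg⟩ := H43.exists_orth_map (polB_Qf_nondeg (m := k + 3) (qSq_nondeg h2)) (x := a)
    (y := b) (fun h => by simpa [h] using ha) (fun h => by simpa [h] using hb) (ha.trans hb.symm)
  have h : refl (Qf (k + 3) (qSq F)) a * refl (Qf (k + 3) (qSq F)) b =
      ⁅refl (Qf (k + 3) (qSq F)) a, g⁆ := by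
    rw [← hg, ← H43.refl_conj, commutatorElement_def, H43.refl_inv]; group
  rw [h]
  exact comm_mem _ _ _

/-- `x_l ↦ -y_l`, `y_l ↦ -x_l`, `w ↦ -w` -/
noncomputable def flipP (h2 : (2 : F) ≠ 0) (l : Fin (k + 3)) : GG (k + 3) (qSq F) :=
  ⟨_, flipPos_mem h2 l⟩

theorem flipP_apply (h2 : (2 : F) ≠ 0) (l : Fin (k + 3)) (x y : Fin (k + 3) → F) (w : Fin 1 → F) :
    (flipP h2 l).1.1 (x, y, w) =
      (fun i => if i = l then -y i else x i, fun i => if i = l then -x i else y i, -w) := by
  show (refl _ _ * refl _ _).1 _ = _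
  rw [H43.orth_mul_apply, H43.refl_apply, H43.refl_apply]
  simp only [pVec, Qf_apply, polB_Qf, qSq_apply, polB_qSq, Prod.smul_mk, Prod.mk_sub_mk,
    single_dotProduct, dotProduct_single, Pi.one_apply, mul_one, one_mul, dotProduct_zero,
    zero_dotProduct, smul_zero, sub_zero, zero_add, add_zero, Pi.zero_apply, mul_zero,
    Pi.single_eq_same, map_zero]
  simp only [Prod.mk.injEq]
  refine ⟨funext fun i => ?_, funext fun i => ?_, funext fun i => ?_⟩
  · by_cases hi : i = l
    · subst hi; simp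
    · simp [hi]
  · by_cases hi : i = l
    · subst hi; simp
    · simp [hi]
  · rw [Subsingleton.elim i 0]
    simp
    ring

theorem flipP_mul_self (h2 : (2 : F) ≠ 0) (l : Fin (k + 3)) : flipP h2 l * flipP h2 l = 1 := by
  refine Subtype.ext (H43.orth_ext fun v => ?_)
  obtain ⟨x, y, w⟩ := v
  show (flipP h2 l).1.1 ((flipP h2 l).1.1 (x, y, w)) = (x, y, w)
  rw [flipP_apply, flipP_apply]
  simp only [Prod.mk.injEq, neg_neg, and_true]
  refine ⟨funext fun i => ?_, funext fun i => ?_⟩ <;> by_cases hi : i = l <;> simp [hi]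

theorem flipP_gu (h2 : (2 : F) ≠ 0) (l : Fin (k + 3)) {s : Fin (k + 3) → F} (hs : s l = 0)
    (w : Fin 1 → F) : flipP h2 l * gu (qSq F) s w = gu (qSq F) s (-w) * flipP h2 l := by
  refine Subtype.ext (H43.orth_ext fun v => ?_)
  obtain ⟨x, y, z⟩ := v
  show (flipP h2 l).1.1 ((uO (qSq F) s w).1 (x, y, z)) =
    (uO (qSq F) s (-w)).1 ((flipP h2 l).1.1 (x, y, z))
  rw [uO_apply, flipP_apply, flipP_apply, uO_apply]
  have hd : s ⬝ᵥ (fun i => if i = l then -x i else y i) = s ⬝ᵥ y := by
    refine Finset.sum_congr rfl fun i _ => ?_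
    by_cases hi : i = l
    · subst hi; simp [hs]
    · simp [hi]
  rw [hd]
  simp only [Prod.mk.injEq, qSq_apply, polB_qSq, Pi.neg_apply]
  refine ⟨funext fun i => ?_, funext fun i => ?_, ?_⟩
  · by_cases hi : i = l
    · subst hi; simp [hs]
    · simp [hi]
  · by_cases hi : i = l
    · subst hi; simp [hs]
    · simp [hi]
  · module

theorem flipP_gz_single (h2 : (2 : F) ≠ 0) {l i : Fin (k + 3)} (hil : i ≠ l) (s : F) :
    flipP h2 l * gT (Q0 := qSq F) hil (-s) =
      gz (qSq F) (wedge (Pi.single i s) (Pi.single l 1)) * flipP h2 l := by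
  refine Subtype.ext (H43.orth_ext fun v => ?_)
  obtain ⟨x, y, w⟩ := v
  show (flipP h2 l).1.1 ((levO (qSq F) (SpecialLinearGroup.toGL
      (SpecialLinearGroup.transvection hil (-s)))).1 (x, y, w)) =
    (zO (qSq F) _).1 ((flipP h2 l).1.1 (x, y, w))
  rw [toGL_transvection, levO_apply, flipP_apply, flipP_apply, zO_apply, tvG_inv, tvG_val, tvG_val,
    neg_neg, transvection_mulVec]
  rw [Matrix.transvection, Matrix.transpose_add, Matrix.transpose_one, Matrix.transpose_single,
    ← Matrix.transvection, transvection_mulVec, wedge_mulVec, single_dotProduct, single_dotProduct]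
  refine Prod.ext (funext fun c => ?_) (Prod.ext (funext fun c => ?_) rfl)
  · by_cases hc : c = l
    · subst hc; simp [hil]; ring
    · by_cases hci : c = i
      · subst hci; simp [hc]; ring
      · simp [hc, hci, hil]
  · by_cases hc : c = l
    · subst hc; simp [hil.symm]
    · simp [hc]

theorem flipP_gT (h2 : (2 : F) ≠ 0) {l i : Fin (k + 3)} (hil : i ≠ l) (t : F) :
    gT (Q0 := qSq F) hil t * flipP h2 l =
      flipP h2 l * gz (qSq F) (wedge (Pi.single i (-t)) (Pi.single l 1)) := by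
  have h := flipP_gz_single h2 hil (-t)
  rw [neg_neg] at h
  calc gT (Q0 := qSq F) hil t * flipP h2 l
      = flipP h2 l * (flipP h2 l * gT hil t) * flipP h2 l := by
        rw [← mul_assoc, flipP_mul_self, one_mul]
    _ = flipP h2 l * (gz (qSq F) (wedge (Pi.single i (-t)) (Pi.single l 1)) * flipP h2 l) *
          flipP h2 l := by rw [h]
    _ = _ := by rw [mul_assoc, mul_assoc, flipP_mul_self, mul_one]

theorem flipP_gz_far (h2 : (2 : F) ≠ 0) {l : Fin (k + 3)} {A : Alt (k + 3) F} (hA : A.1 l = 0) :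
    flipP h2 l * gz (qSq F) A = gz (qSq F) A * flipP h2 l := by
  refine Subtype.ext (H43.orth_ext fun v => ?_)
  obtain ⟨x, y, w⟩ := v
  show (flipP h2 l).1.1 ((zO (qSq F) A).1 (x, y, w)) =
    (zO (qSq F) A).1 ((flipP h2 l).1.1 (x, y, w))
  rw [zO_apply, flipP_apply, flipP_apply, zO_apply]
  have hcol : ∀ i, A.1 i l = 0 := fun i => by rw [Alt.sk A l i, hA]; simp
  have hmv : (A.1 *ᵥ fun i => if i = l then -x i else y i) = A.1 *ᵥ y := by
    funext a
    simp only [mulVec, dotProduct]
    refine Finset.sum_congr rfl fun j _ => ?_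
    by_cases hj : j = l
    · subst hj; simp [hcol]
    · simp [hj]
  rw [hmv]
  refine Prod.ext (funext fun i => ?_) (Prod.ext (funext fun i => ?_) rfl)
  · by_cases hi : i = l
    · subst hi; simp [mulVec, hA]
    · simp [hi]
  · by_cases hi : i = l
    · subst hi; simp [mulVec, hA]
    · simp [hi]

theorem flipP_gL_comm (h2 : (2 : F) ≠ 0) (l : Fin (k + 3)) {g : sqDet (k + 3) F}
    (hr : ∀ x : Fin (k + 3) → F, (g.1.1 *ᵥ x) l = x l)
    (hc : g.1.1 *ᵥ Pi.single l 1 = Pi.single l 1) :
    flipP h2 l * gL g = gL g * flipP h2 l := by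
  have hinv : (g.1⁻¹).1 *ᵥ Pi.single l 1 = Pi.single l 1 := by
    conv_lhs => rw [← hc]
    rw [mulVec_mulVec, Units.inv_mul, one_mulVec]
  have hrinv : ∀ x : Fin (k + 3) → F, ((g.1⁻¹).1 *ᵥ x) l = x l := fun x => by
    conv_rhs => rw [← one_mulVec x, ← Units.mul_inv g.1, ← mulVec_mulVec]
    rw [hr]
  have hT : ∀ y : Fin (k + 3) → F, ((g.1⁻¹).1ᵀ *ᵥ y) l = y l := fun y => by
    calc ((g.1⁻¹).1ᵀ *ᵥ y) l = ((g.1⁻¹).1 *ᵥ Pi.single l 1) ⬝ᵥ y := by
          rw [mulVec_single_one]; rfl
      _ = y l := by rw [hinv, single_dotProduct, one_mul]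
  have hTcol : (g.1⁻¹).1ᵀ *ᵥ Pi.single l 1 = Pi.single l 1 := by
    rw [mulVec_single_one]
    funext j
    have := hrinv (Pi.single j 1)
    rw [mulVec_single_one] at this
    simpa [Matrix.col_apply, Pi.single_apply, eq_comm] using this
  refine Subtype.ext (H43.orth_ext fun v => ?_)
  obtain ⟨x, y, w⟩ := v
  show (flipP h2 l).1.1 ((levO (qSq F) g.1).1 (x, y, w)) =
    (levO (qSq F) g.1).1 ((flipP h2 l).1.1 (x, y, w))
  rw [levO_apply, flipP_apply, flipP_apply, levO_apply]
  have key : ∀ (M : Matrix (Fin (k + 3)) (Fin (k + 3)) F), M *ᵥ Pi.single l 1 = Pi.single l 1 →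
      (∀ x, (M *ᵥ x) l = x l) → ∀ (x : Fin (k + 3) → F) (r : F),
      (M *ᵥ fun i => if i = l then r else x i) = fun i => if i = l then r else (M *ᵥ x) i := by
    intro M h1 h2' x r
    have e : (fun i => if i = l then r else x i) = x + (r - x l) • Pi.single l 1 := by
      funext i
      by_cases hi : i = l
      · subst hi; simp
      · simp [hi]
    rw [e, mulVec_add, mulVec_smul, h1]
    funext i
    by_cases hi : i = l
    · subst hi; simp [h2']
    · simp [hi]
  have e1 : (fun i => if i = l then -y i else x i) = fun i => if i = l then -y l else x i := by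
    funext i; by_cases hi : i = l <;> simp [hi]
  have e2 : (fun i => if i = l then -x i else y i) = fun i => if i = l then -x l else y i := by
    funext i; by_cases hi : i = l <;> simp [hi]
  rw [e1, e2, key _ hc hr, key _ hTcol hT]
  refine Prod.ext (funext fun i => ?_) (Prod.ext (funext fun i => ?_) rfl) <;>
    by_cases hi : i = l
  · subst hi; simp only [if_true]; rw [hT]
  · simp [hi]
  · subst hi; simp only [if_true]; rw [hr]
  · simp [hi]

theorem flipP_tor (h2 : (2 : F) ≠ 0) (l : Fin (k + 3)) (d : sqTor (k + 3) F) :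
    gL (tor (k + 3) F d) * flipP h2 l = flipP h2 l * gL (tor (k + 3) F (flipT l d)) := by
  refine Subtype.ext (H43.orth_ext fun v => ?_)
  obtain ⟨x, y, w⟩ := v
  show (levO (qSq F) (dgGL d.1)).1 ((flipP h2 l).1.1 (x, y, w)) =
    (flipP h2 l).1.1 ((levO (qSq F) (dgGL (flipT l d).1)).1 (x, y, w))
  rw [levO_apply, flipP_apply, flipP_apply, levO_apply]
  refine Prod.ext (funext fun i => ?_) (Prod.ext (funext fun i => ?_) rfl) <;>
    by_cases hi : i = l
  all_goals first
    | (subst hi; simp [dgGL, flipT, flipU, mulVec_diagonal])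
    | simp [dgGL, flipT, flipU, mulVec_diagonal, hi]

/-! ### the operator at the last place -/

theorem gz_generators {P : Alt (k + 3) F → Prop} (h0 : P 0)
    (hadd : ∀ A B, P A → P B → P (A + B))
    (hgen : ∀ (i j : Fin (k + 3)) (s : F), i < j → P (wedge (Pi.single i s) (Pi.single j 1)))
    (A : Alt (k + 3) F) : P A := by
  have hA : A = ∑ i, ∑ j, if i < j then wedge (Pi.single i (A.1 i j)) (Pi.single j 1) else 0 := by
    have e : ∀ i j : Fin (k + 3),
        ((if i < j then wedge (Pi.single i (A.1 i j)) (Pi.single j 1) else 0 : Alt (k + 3) F) :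
          Matrix (Fin (k + 3)) (Fin (k + 3)) F) =
        Matrix.single i j (up A i j) - (Matrix.single i j (up A i j))ᵀ := by
      intro i j
      by_cases h : i < j
      · rw [if_pos h, show up A i j = A.1 i j from if_pos h]
        ext a b
        simp only [wedge_apply, Matrix.sub_apply, Matrix.transpose_apply, Matrix.single_apply,
          Pi.single_apply, @eq_comm _ i, @eq_comm _ j]
        by_cases ha : a = i <;> by_cases hb : b = j <;> by_cases hc : b = i <;>
          by_cases hd : a = j <;> simp [ha, hb, hc, hd, ne_of_lt h, (ne_of_lt h).symm]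
      · rw [if_neg h, show up A i j = 0 from if_neg h]
        simp
    apply Subtype.ext
    rw [AddSubgroup.val_finsetSum]
    simp only [AddSubgroup.val_finsetSum, e, Finset.sum_sub_distrib, ← Matrix.transpose_sum,
      ← Matrix.matrix_eq_sum_single]
    exact (up_sub A).symm
  rw [hA]
  refine Finset.sum_induction _ P hadd h0 fun i _ => Finset.sum_induction _ P hadd h0 fun j _ => ?_
  split_ifs with h
  · exact hgen i j _ h
  · exact h0

theorem gl_upFix_fix {x : Vw ρ 0} (hx : x ∈ upFix (slPart (levSq ρ))) {i j : Fin (k + 3)}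
    (hij : i < j) (t : F) : ρ (gT (ne_of_lt hij) t) x.1 = x.1 :=
  congrArg Subtype.val (hx i j hij t)

/-- the image of a fixed vector under the exchange at the last place -/
theorem flipP_upFix_mem (h2 : (2 : F) ≠ 0) {x : Vw ρ 0} (hx : x ∈ upFix (slPart (levSq ρ))) :
    ρ (flipP h2 (Fin.last (k + 2))) x.1 ∈ Vw ρ 0 := by
  rw [mem_Vw]
  intro A
  rw [chr_zero, AddChar.zero_apply, one_smul]
  induction A using gz_generators with
  | h0 => rw [gz_zero, map_one, Module.End.one_apply]
  | hadd A B hA hB => rw [gz_add, rho_mul_apply, hB, hA]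
  | hgen i j s hij =>
    by_cases hj : j = Fin.last (k + 2)
    · subst hj
      rw [← rho_mul_apply, ← flipP_gz_single h2 (ne_of_lt hij), rho_mul_apply,
        gl_upFix_fix ρ hx hij (-s)]
    · have hi : i ≠ Fin.last (k + 2) := ne_of_lt (lt_of_lt_of_le hij (Fin.le_last j))
      rw [← rho_mul_apply, ← flipP_gz_far h2 (funext fun b => by
          simp [wedge_apply, Ne.symm hi, Ne.symm hj]), rho_mul_apply, gz_fix ρ x.2]

/-- the exchange at the last place followed by the projection -/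
noncomputable def sOp (h2 : (2 : F) ≠ 0) : Vw ρ 0 →ₗ[ℂ] Vw ρ 0 :=
  LinearMap.codRestrict (Vw ρ 0)
    ((eigProj (Zr ρ) (chr 0) * ρ (flipP h2 (Fin.last (k + 2)))).comp (Vw ρ 0).subtype)
    fun x => eigProj_mem (Zr ρ) (chr 0) _

theorem sOp_val (h2 : (2 : F) ≠ 0) {x : Vw ρ 0} (hx : x ∈ upFix (slPart (levSq ρ))) :
    (sOp ρ h2 x).1 = ρ (flipP h2 (Fin.last (k + 2))) x.1 := by
  classical
  show eigProj (Zr ρ) (chr 0) (ρ (flipP h2 (Fin.last (k + 2))) x.1) = _
  rw [eigProj_of_mem (Zr ρ) (flipP_upFix_mem ρ h2 hx), if_pos rfl]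

theorem sOp_inj (h2 : (2 : F) ≠ 0) (x : Vw ρ 0) (hx : x ∈ upFix (slPart (levSq ρ)))
    (h : sOp ρ h2 x = 0) : x = 0 := by
  have h1 := congrArg (ρ (flipP h2 (Fin.last (k + 2)))) (sOp_val ρ h2 hx)
  rw [h, ← rho_mul_apply, flipP_mul_self, map_one, Module.End.one_apply] at h1
  refine Subtype.ext ?_
  rw [← h1]
  exact map_zero _

theorem sOp_upFix (h2 : (2 : F) ≠ 0) (x : Vw ρ 0) (hx : x ∈ upFix (slPart (levSq ρ))) :
    sOp ρ h2 x ∈ upFix (slPart (levSq ρ)) := by
  intro a b hab t
  refine Subtype.ext ?_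
  show ρ (gT (ne_of_lt hab) t) (sOp ρ h2 x).1 = (sOp ρ h2 x).1
  rw [sOp_val ρ h2 hx]
  by_cases hb : b = Fin.last (k + 2)
  · subst hb
    rw [← rho_mul_apply, flipP_gT h2 (ne_of_lt hab), rho_mul_apply, gz_fix ρ x.2]
  · have ha : a ≠ Fin.last (k + 2) := ne_of_lt (lt_of_lt_of_le hab (Fin.le_last b))
    have e : gT (Q0 := qSq F) (ne_of_lt hab) t * flipP h2 (Fin.last (k + 2)) =
        flipP h2 (Fin.last (k + 2)) * gT (ne_of_lt hab) t := by
      show gl (qSq F) _ * _ = _ * gl (qSq F) _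
      rw [← gL_slIn]
      refine (flipP_gL_comm h2 _ (fun y => ?_) ?_).symm
      · show (Matrix.transvection a b t *ᵥ y) _ = _
        rw [transvection_mulVec]; simp [Ne.symm ha]
      · show Matrix.transvection a b t *ᵥ _ = _
        rw [transvection_mulVec]; simp [hb]
    rw [← rho_mul_apply, e, rho_mul_apply, gl_upFix_fix ρ hx hab]

theorem sOp_tor (h2 : (2 : F) ≠ 0) (d : sqTor (k + 3) F) (x : Vw ρ 0)
    (hx : x ∈ upFix (slPart (levSq ρ))) :
    levSq ρ (tor (k + 3) F d) (sOp ρ h2 x) =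
      sOp ρ h2 (levSq ρ (tor (k + 3) F (flipT (Fin.last (k + 2)) d)) x) := by
  refine Subtype.ext ?_
  rw [sOp_val ρ h2 (tor_upFix (levSq ρ) _ hx)]
  show ρ (gL (tor (k + 3) F d)) (sOp ρ h2 x).1 = _
  rw [sOp_val ρ h2 hx, ← rho_mul_apply, flipP_tor, rho_mul_apply]
  rfl

end H19.OM
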