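import Cfsg.Agent.H19.OM.Base

/-!
# Orbits of the Levi on bivectors and the resulting degree bounds
-/

set_option autoImplicit false
set_option linter.unusedSectionVars false

namespace H19.OM

open Module Matrix
open H43 (polB)

variable {F : Type*} [Field F] [Fintype F] [DecidableEq F] {k δ : ℕ}

theorem cong_row {m : ℕ} (g : Matrix (Fin m) (Fin m) F) (ω : Alt m F) (i : Fin m) :
    (cong g ω).1 i = g *ᵥ (g i ᵥ* ω.1) := by
  funext b
  show (g * ω.1 * gᵀ) i b = _
  rw [Matrix.mul_apply, Matrix.mulVec, dotProduct]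
  exact Finset.sum_congr rfl fun c _ => by
    rw [Matrix.transpose_apply, mul_comm]; rfl

theorem cong_row_of_single {m : ℕ} (g : Matrix (Fin m) (Fin m) F) (ω : Alt m F) {i i' : Fin m}
    (h : g i = Pi.single i' 1) : (cong g ω).1 i = g *ᵥ ω.1 i' := by
  rw [cong_row, h, single_one_vecMul]; rfl

theorem cong_injective {m : ℕ} {g g' : Matrix (Fin m) (Fin m) F} (h : g' * g = 1) :
    Function.Injective (cong (F := F) g) := fun a b hab => by
  have := congrArg (cong g') hab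
  rwa [← cong_mul, ← cong_mul, h, cong_one, cong_one] at this

theorem sl_left_inv {m : ℕ} (g : SpecialLinearGroup (Fin m) F) :
    (↑(g⁻¹) : Matrix (Fin m) (Fin m) F) * g.1 = 1 :=
  (Matrix.SpecialLinearGroup.coe_mul _ _).symm.trans (by rw [inv_mul_cancel]; rfl)

theorem Dec.cong_sl {m : ℕ} {ω : Alt m F} (h : Dec ω) (g : SpecialLinearGroup (Fin m) F) :
    Dec (cong g.1 ω) := h.cong_of (sl_left_inv g)

theorem dec_cong_sl_iff {m : ℕ} {ω : Alt m F} (g : SpecialLinearGroup (Fin m) F) :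
    Dec (cong g.1 ω) ↔ Dec ω := by
  refine ⟨fun h => ?_, fun h => h.cong_sl g⟩
  have := h.cong_sl g⁻¹
  rwa [← cong_mul, sl_left_inv, cong_one] at this

/-- the standard decomposable bivector -/
def E01 (k : ℕ) (F : Type*) [Field F] : Alt (k + 3) F := wedge (Pi.single 0 1) (Pi.single 1 1)

theorem E01_row0 : (E01 k F).1 0 = Pi.single 1 1 := by
  funext b
  simp [E01, wedge_apply]

theorem dec_E01 : Dec (E01 k F) := by
  refine ⟨fun h => ?_, _, _, rfl⟩
  have := congrFun (E01_row0 (k := k) (F := F)) 1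
  rw [h] at this
  simp at this

theorem single_one_eq_cons :
    (Pi.single 1 1 : Fin (k + 3) → F) = Fin.cons 0 (Pi.single 0 1) := by
  funext b
  refine Fin.cases ?_ (fun b => ?_) b
  · simp
  · rw [Fin.cons_succ, Pi.single_apply, Pi.single_apply]
    exact if_congr (by rw [show (1 : Fin (k + 3)) = Fin.succ 0 from rfl, Fin.succ_inj]) rfl rfl

theorem exists_row {ω : Alt (k + 3) F} (hω : ω ≠ 0) :
    ∃ h : SpecialLinearGroup (Fin (k + 3)) F, (cong h.1 ω).1 0 = Pi.single 1 1 := by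
  obtain ⟨i, hi⟩ : ∃ i, ω.1 i ≠ 0 := by
    by_contra h
    push Not at h
    exact hω (Alt.ext fun i j => by rw [h i]; rfl)
  obtain ⟨g, hg⟩ := H40.exists_SL_mulVec_eq (F := F) (m := k + 3) (by omega)
    (u := Pi.single 0 1) (v := Pi.single i 1) (by simp) (by simp)
  set ω' := cong g.1ᵀ ω with hω'
  set φ := ω'.1 0 with hφdef
  have hgT : (g.1ᵀ) 0 = Pi.single i 1 := by
    funext a
    rw [Matrix.transpose_apply, ← hg]
    simp
  have hφ : φ ≠ 0 := by
    intro h
    apply hi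
    rw [hφdef, hω', cong_row_of_single _ _ hgT, mulVec_transpose] at h
    have := congrArg (· ᵥ* (↑(g⁻¹) : Matrix (Fin (k + 3)) (Fin (k + 3)) F)) h
    simp only [vecMul_vecMul, zero_vecMul, ← Matrix.SpecialLinearGroup.coe_mul, mul_inv_cancel,
      Matrix.SpecialLinearGroup.coe_one, vecMul_one] at this
    exact this
  have ht : Fin.tail φ ≠ 0 := fun h => hφ (by
    funext b
    refine Fin.cases ?_ (fun b => ?_) b
    · exact Alt.dg ω' 0
    · exact congrFun h b)
  obtain ⟨A, hA⟩ := H40.exists_SL_mulVec_eq (F := F) (m := k + 2) (by omega) ht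
    (v := Pi.single 0 1) (by simp)
  refine ⟨H40.leviSL A * g.transpose, ?_⟩
  rw [Matrix.SpecialLinearGroup.coe_mul, cong_mul, Matrix.SpecialLinearGroup.coe_transpose, ← hω']
  have h0 : (H40.leviSL A).1 0 = Pi.single 0 1 := by
    funext b; refine Fin.cases ?_ (fun b => ?_) b <;> simp [H40.leviSL, H40.levi]
  rw [cong_row_of_single _ _ h0, ← hφdef, ← Fin.cons_self_tail φ, H40.MinDeg.leviSL_mulVec, hA]
  rw [single_one_eq_cons, show φ 0 = 0 from Alt.dg ω' 0]

/-- the shear `1 + c ⊗ e₀` -/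
def shear (c : Fin (k + 3) → F) (hc : c 0 = 0) : SpecialLinearGroup (Fin (k + 3)) F :=
  H40.MinDeg.tvec c (Pi.single 0 1) (by simpa using hc)

theorem shear_mulVec (c : Fin (k + 3) → F) (hc : c 0 = 0) (v : Fin (k + 3) → F) :
    (shear c hc).1 *ᵥ v = v + v 0 • c := by
  show (1 + vecMulVec c (Pi.single 0 1)) *ᵥ v = _
  rw [add_mulVec, one_mulVec, vecMulVec_mulVec]
  simp

theorem shear_row (c : Fin (k + 3) → F) (hc : c 0 = 0) (i : Fin (k + 3)) :
    (shear c hc).1 i = Pi.single i 1 + c i • Pi.single 0 1 := by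
  funext b
  show (1 + vecMulVec c (Pi.single 0 1) : Matrix (Fin (k + 3)) (Fin (k + 3)) F) i b = _
  rw [Matrix.add_apply, vecMulVec_apply, Pi.add_apply, Pi.smul_apply, smul_eq_mul]
  congr 1
  simp [Matrix.one_apply, Pi.single_apply, eq_comm]

theorem cong_shear_row (c : Fin (k + 3) → F) (hc : c 0 = 0) (ω : Alt (k + 3) F) (i : Fin (k + 3)) :
    (cong (shear c hc).1 ω).1 i = ω.1 i + c i • ω.1 0 + (ω.1 i 0 + c i * ω.1 0 0) • c := by
  rw [cong_row, shear_row, add_vecMul, smul_vecMul, single_one_vecMul, single_one_vecMul,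
    shear_mulVec]
  rfl

/-- a normal form -/
theorem exists_normal {ω : Alt (k + 3) F} (hω : ω ≠ 0) :
    ∃ h : SpecialLinearGroup (Fin (k + 3)) F, (cong h.1 ω).1 0 = Pi.single 1 1 ∧
      (cong h.1 ω).1 1 = -Pi.single 0 1 := by
  obtain ⟨h, hh⟩ := exists_row hω
  set ω' := cong h.1 ω with hω'
  let c : Fin (k + 3) → F := fun b => if b = 0 then 0 else ω'.1 1 b
  have hc : c 0 = 0 := by simp [c]
  have hc1 : c 1 = 0 := by
    have h10 : (1 : Fin (k + 3)) ≠ 0 := by simp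
    simp only [c, if_neg h10]
    exact Alt.dg ω' 1
  clear_value ω'
  refine ⟨shear c hc * h, ?_, ?_⟩
  all_goals rw [Matrix.SpecialLinearGroup.coe_mul, cong_mul, ← hω', cong_shear_row]
  · rw [hc, Alt.dg ω' 0]; simpa using hh
  · have h10 : ω'.1 1 0 = -1 := by rw [Alt.sk ω' 0 1, hh]; simp
    rw [hc1, h10]
    funext b
    by_cases hb : b = 0
    · subst hb; simp [c, h10]
    · simp [c, hb, Pi.single_eq_of_ne hb]

theorem dec_of_residual_zero {ω : Alt (k + 3) F} (h0 : ω.1 0 = Pi.single 1 1)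
    (h1 : ω.1 1 = -Pi.single 0 1)
    (hR : ∀ a b : Fin (k + 3), a ≠ 0 → a ≠ 1 → b ≠ 0 → b ≠ 1 → ω.1 a b = 0) : ω = E01 k F := by
  have e0 : ∀ b, (E01 k F).1 0 b = ω.1 0 b := fun b => by rw [E01_row0, h0]
  have e1 : ∀ b, (E01 k F).1 1 b = ω.1 1 b := fun b => by
    rw [h1, E01, wedge_apply]; simp
  refine Alt.ext fun a b => ?_
  by_cases ha0 : a = 0
  · subst ha0; exact (e0 b).symm
  by_cases ha1 : a = 1
  · subst ha1; exact (e1 b).symm
  by_cases hb0 : b = 0
  · subst hb0; rw [Alt.sk ω 0 a, Alt.sk (E01 k F) 0 a, e0]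
  by_cases hb1 : b = 1
  · subst hb1; rw [Alt.sk ω 1 a, Alt.sk (E01 k F) 1 a, e1]
  rw [hR a b ha0 ha1 hb0 hb1, E01, wedge_apply]
  simp [ha0, ha1, hb0, hb1]

theorem Dec.exists_to_E01 {ω : Alt (k + 3) F} (hω : Dec ω) :
    ∃ h : SpecialLinearGroup (Fin (k + 3)) F, cong h.1 ω = E01 k F := by
  obtain ⟨h, h0, h1⟩ := exists_normal hω.1
  refine ⟨h, dec_of_residual_zero h0 h1 fun a b ha0 ha1 hb0 hb1 => ?_⟩
  have := (hω.cong_sl h).identity 0 1 a b
  rw [h0, h1] at this
  simpa [ha0, ha1, hb0, hb1] using this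

variable (Q0 : QuadraticForm F (Fin δ → F))
variable {V : Type*} [AddCommGroup V] [Module ℂ V] [FiniteDimensional ℂ V]
variable (ρ : GG (k + 3) Q0 →* Module.End ℂ V)

theorem eV_dec {ω : Alt (k + 3) F} (hω : Dec ω) : eV ρ ω = eV ρ (E01 k F) := by
  obtain ⟨h, hh⟩ := hω.exists_to_E01
  rw [← hh, eV_cong_sl]

/-- A non-decomposable bivector in the support gives a large degree. -/
theorem big_bound (hQ0 : (polB Q0).Nondegenerate) {ω : Alt (k + 3) F} (hω : ω ≠ 0)
    (hdec : ¬ Dec ω) (hne : eV ρ ω ≠ 0) {κ : Type*} [Fintype κ] (sq : κ → Fˣ)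
    (hsq : Function.Injective fun x => sq x * sq x) :
    (Fintype.card F ^ (k + 2) - 1) * Fintype.card F ^ (k + 1) * Fintype.card κ *
      Fintype.card F ^ (2 * δ) ≤ finrank ℂ V := by
  classical
  obtain ⟨h, h0, h1⟩ := exists_normal hω
  set ω1 := cong h.1 ω with hω1
  have hdec1 : ¬ Dec ω1 := fun hd => hdec ((dec_cong_sl_iff h).1 hd)
  have he1 : eV ρ ω1 = eV ρ ω := eV_cong_sl ρ h ω
  obtain ⟨i, j, hi0, hi1, hj0, hj1, hij⟩ : ∃ i j : Fin (k + 3),
      i ≠ 0 ∧ i ≠ 1 ∧ j ≠ 0 ∧ j ≠ 1 ∧ ω1.1 i j ≠ 0 := by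
    by_contra hcon
    push Not at hcon
    exact hdec1 (dec_of_residual_zero h0 h1 (fun a b c d e f => hcon a b c d e f) ▸ dec_E01)
  -- the multiplicity
  obtain ⟨d, hd⟩ : ∃ d, eV ρ ω1 = Fintype.card F ^ δ * (Fintype.card F ^ δ * d) := by
    have hst : ev ω1 (Pi.single 0 1) (Pi.single 1 1) = 1 := by rw [ev_single, h0]; simp
    have hst' : ev ω1 (Pi.single i 1) (Pi.single j (ω1.1 i j)⁻¹) = 1 := by
      rw [ev_single, one_mul, inv_mul_cancel₀ hij]
    have hU : ∀ v : Fin (k + 3) → F, ev ω1 (Pi.single 0 1) v = 0 → ∀ w,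
        ∀ x ∈ uFix ρ (Vw ρ ω1) (Pi.single 0 1),
          ρ (gu Q0 v w) x ∈ uFix ρ (Vw ρ ω1) (Pi.single 0 1) := fun v hv w x hx =>
      ⟨gu_mem ρ hx.1 v w, fun w' => by
        rw [gu_comm_apply ρ hx.1, hv, mul_zero, AddChar.map_zero_eq_one, one_smul, hx.2 w']⟩
    have e0v : ∀ a : Fin (k + 3), a ≠ 1 → ∀ c : F, ev ω1 (Pi.single 0 1) (Pi.single a c) = 0 :=
      fun a ha c => by rw [ev_single, h0, Pi.single_eq_of_ne ha]; simp
    refine ⟨finrank ℂ (uFix ρ (uFix ρ (Vw ρ ω1) (Pi.single 0 1)) (Pi.single i 1)), ?_⟩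
    rw [eV, finrank_eq_uFix ρ hQ0 le_rfl hst (fun w _ hx => gu_mem ρ hx _ w)
      (fun w _ hx => gu_mem ρ hx _ w), finrank_eq_uFix ρ hQ0 (fun x (hx : x ∈ uFix ρ (Vw ρ ω1) (Pi.single 0 1)) => hx.1) hst'
      (hU _ (e0v i hi1 1)) (hU _ (e0v j hj1 _))]
  have hlow : Fintype.card F ^ (2 * δ) ≤ eV ρ ω := by
    rw [← he1, hd]
    have : d ≠ 0 := fun h => hne (by rw [← he1, hd, h, mul_zero, mul_zero])
    rw [two_mul, pow_add, ← mul_assoc]
    exact Nat.le_mul_of_pos_right _ (Nat.pos_of_ne_zero this)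
  -- the orbit
  let Φ := {φ : Fin (k + 2) → F // φ ≠ 0}
  have hA : ∀ φ : Φ, ∃ A : SpecialLinearGroup (Fin (k + 2)) F, A.1 *ᵥ Pi.single 0 1 = φ.1 :=
    fun φ => H40.exists_SL_mulVec_eq (by omega) (by simp) φ.2
  choose A hA using hA
  let cc : (Fin (k + 1) → F) → Fin (k + 3) → F := fun c => Fin.cons 0 (Fin.cons 0 c)
  let D : κ → Fin (k + 3) → F := fun x l =>
    ((Pi.mulSingle i (sq x * sq x) : Fin (k + 3) → Fˣ) l : F)
  have hcc0 : ∀ c, cc c 0 = 0 := fun c => rfl
  let elem : Φ × (Fin (k + 1) → F) × κ → Alt (k + 3) F := fun p =>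
    cong (H40.leviSL (A p.1)).1 (cong (shear (cc p.2.1) (hcc0 _)).1 (cong (diagonal (D p.2.2)) ω1))
  have helem : ∀ p, eV ρ (elem p) = eV ρ ω := fun p => by
    simp only [elem]
    rw [eV_cong_sl, eV_cong_sl, eV_cong_diag, he1]
  have hD : ∀ x a b, (cong (diagonal (D x)) ω1).1 a b = D x a * ω1.1 a b * D x b := fun x a b => by
    rw [cong_val, diagonal_transpose, mul_diagonal, diagonal_mul]
  have hDi : ∀ x l, l ≠ i → D x l = 1 := fun x l hl => by simp [D, Pi.mulSingle_eq_of_ne hl]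
  have hD0 : ∀ x, (cong (diagonal (D x)) ω1).1 0 = Pi.single 1 1 := fun x => funext fun b => by
    rw [hD, h0, hDi x 0 (Ne.symm hi0)]
    by_cases hb : b = 1
    · subst hb; rw [hDi x 1 (Ne.symm hi1)]; simp
    · simp [Pi.single_eq_of_ne hb]
  have hD1 : ∀ x, (cong (diagonal (D x)) ω1).1 1 = -Pi.single 0 1 := fun x => funext fun b => by
    rw [hD, h1, hDi x 1 (Ne.symm hi1)]
    by_cases hb : b = 0
    · subst hb; rw [hDi x 0 (Ne.symm hi0)]; simp
    · simp [Pi.single_eq_of_ne hb]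
  have hcc1 : ∀ c, cc c 1 = 0 := fun c => by
    show (Fin.cons (α := fun _ => F) 0 (Fin.cons 0 c)) (Fin.succ 0) = 0
    rw [Fin.cons_succ, Fin.cons_zero]
  have hrow0 : ∀ c x, (cong (shear (cc c) (hcc0 c)).1 (cong (diagonal (D x)) ω1)).1 0 =
      Pi.single 1 1 := fun c x => by
    rw [cong_shear_row, hD0]
    simp [cc]
  have hinj : Function.Injective elem := by
    rintro ⟨φ, c, x⟩ ⟨φ', c', x'⟩ hp
    simp only [elem] at hp
    have hφ : φ = φ' := by
      have hrow : ∀ ψ : Φ, ∀ η : Alt (k + 3) F, η.1 0 = Pi.single 1 1 →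
          (cong (H40.leviSL (A ψ)).1 η).1 0 = Fin.cons 0 ψ.1 := fun ψ η hη => by
        have hl : (H40.leviSL (A ψ)).1 0 = Pi.single 0 1 := by
          funext b; refine Fin.cases ?_ (fun b => ?_) b <;> simp [H40.leviSL, H40.levi]
        rw [cong_row_of_single _ _ hl, hη, single_one_eq_cons, H40.MinDeg.leviSL_mulVec, hA]
      have := congrArg (fun η => η.1 0) hp
      simp only [hrow _ _ (hrow0 _ _)] at this
      exact Subtype.ext (Fin.cons_right_injective (α := fun _ => F) 0 this)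
    subst hφ
    have hp2 := cong_injective (sl_left_inv _) hp
    have hc : c = c' := by
      have := congrArg (fun η => η.1 1) hp2
      simp only [cong_shear_row, hD1, hcc1] at this
      funext b
      have hb := congrFun this b.succ.succ
      have hb0 : (b.succ.succ : Fin (k + 3)) ≠ 0 := Fin.succ_ne_zero _
      simpa [hb0, cc] using hb
    subst hc
    have hp3 := cong_injective (sl_left_inv _) hp2
    have := congrArg (fun η => η.1 i j) hp3
    simp only [hD] at this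
    have hji : j ≠ i := fun h => hij (h ▸ Alt.dg ω1 i)
    rw [hDi x j hji, hDi x' j hji, mul_one, mul_one] at this
    have h3 := mul_right_cancel₀ hij this
    simp only [D, Pi.mulSingle_eq_same] at h3
    rw [hsq (Units.ext h3)]
  calc _ ≤ Fintype.card (Φ × (Fin (k + 1) → F) × κ) * eV ρ ω := by
        refine le_trans (le_of_eq ?_) (Nat.mul_le_mul_left _ hlow)
        simp only [Φ, Fintype.card_prod, Fintype.card_subtype_compl, Fintype.card_subtype_eq,
          Fintype.card_fun, Fintype.card_fin]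
        ring
    _ = ∑ η ∈ Finset.univ.image elem, eV ρ η := by
        rw [Finset.sum_image fun a _ b _ h => hinj h, Finset.sum_congr rfl fun p _ => helem p,
          Finset.sum_const, Finset.card_univ, smul_eq_mul]
    _ ≤ finrank ℂ V := sum_eV_le ρ _

end H19.OM
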