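import Cfsg.Agent.H19.OM.Twist
import Cfsg.Agent.H43.Bridge

/-!
# An anisotropic binary form
-/

set_option autoImplicit false
set_option linter.unusedSectionVars false

namespace H19.OM

open Matrix
open scoped commutatorElement
open H43 (polB orthGroup)

variable {F : Type*} [Field F]

/-- `z₁² + a z₁ z₂ + b z₂²` -/
noncomputable def qBin (a b : F) : QuadraticForm F (Fin 2 → F) :=
  QuadraticMap.proj 0 0 + a • QuadraticMap.proj 0 1 + b • QuadraticMap.proj 1 1

theorem qBin_apply (a b : F) (w : Fin 2 → F) :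
    qBin a b w = w 0 ^ 2 + a * w 0 * w 1 + b * w 1 ^ 2 := by
  simp [qBin]; ring

theorem polB_qBin (a b : F) (u v : Fin 2 → F) :
    polB (qBin a b) u v = 2 * u 0 * v 0 + a * (u 0 * v 1 + u 1 * v 0) + 2 * b * u 1 * v 1 := by
  simp only [H43.polB_apply, QuadraticMap.polar, qBin_apply, Pi.add_apply]; ring

/-- no non-zero zero -/
def Aniso (a b : F) : Prop :=
  ∀ z₁ z₂ : F, z₁ ^ 2 + a * z₁ * z₂ + b * z₂ ^ 2 = 0 → z₁ = 0 ∧ z₂ = 0

theorem qBin_ne_zero {a b : F} (hab : Aniso a b) {w : Fin 2 → F} (hw : w ≠ 0) : qBin a b w ≠ 0 := by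
  intro h
  rw [qBin_apply] at h
  obtain ⟨h0, h1⟩ := hab _ _ h
  exact hw (funext fun i => by fin_cases i <;> assumption)

variable [Fintype F]

theorem qBin_disc {a b : F} (hab : Aniso a b) : a ^ 2 - 4 * b ≠ 0 :=
  H43.disc_ne_zero_of_anisotropic hab

theorem qBin_kernel {a b : F} (hab : Aniso a b) {x y : F}
    (h0 : 2 * x + a * y = 0) (h1 : a * x + 2 * b * y = 0) : x = 0 ∧ y = 0 :=
  ⟨(mul_eq_zero.1 (show (a ^ 2 - 4 * b) * x = 0 by linear_combination a * h1 - 2 * b * h0)
    ).resolve_left (qBin_disc hab),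
  (mul_eq_zero.1 (show (a ^ 2 - 4 * b) * y = 0 by linear_combination a * h0 - 2 * h1)
    ).resolve_left (qBin_disc hab)⟩

theorem qBin_nondeg {a b : F} (hab : Aniso a b) : (polB (qBin a b)).Nondegenerate := by
  refine H43.nondeg_of_left _ fun u hu => ?_
  have h0 := hu (Pi.single 0 1)
  have h1 := hu (Pi.single 1 1)
  simp [polB_qBin] at h0 h1
  obtain ⟨hx, hy⟩ := qBin_kernel hab (x := u 0) (y := u 1) (by linear_combination h0)
    (by linear_combination h1)
  exact funext fun i => by fin_cases i <;> assumption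

/-- every value is taken -/
theorem qBin_surj {a b : F} (hab : Aniso a b) (c : F) : ∃ w, qBin a b w = c := by
  classical
  by_cases h2 : (2 : F) = 0
  · obtain ⟨r, hr⟩ := FiniteField.isSquare_of_char_two
      (CharP.ringChar_of_prime_eq_zero Nat.prime_two (by exact_mod_cast h2)) c
    exact ⟨![r, 0], by rw [qBin_apply]; simp [hr, sq]⟩
  · have hodd : Fintype.card F % 2 = 1 := FiniteField.odd_card_of_char_ne_two fun h => h2 (by
      have := ringChar.Nat.cast_ringChar (R := F)
      rw [h] at this
      exact_mod_cast this)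
    set e : F := b - (a / 2) ^ 2
    have he : e ≠ 0 := by
      intro he
      apply qBin_disc hab
      have : a = 2 * (a / 2) := by field_simp
      rw [this]; linear_combination (-4 : F) * he
    obtain ⟨x, y, hxy⟩ := FiniteField.exists_root_sum_quadratic
      (f := (Polynomial.X : Polynomial F) ^ 2 - Polynomial.C c)
      (g := Polynomial.C e * (Polynomial.X : Polynomial F) ^ 2)
      (Polynomial.degree_X_pow_sub_C (by norm_num) _)
      (by rw [Polynomial.degree_C_mul he, Polynomial.degree_X_pow]; norm_num) hodd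
    simp only [Polynomial.eval_sub, Polynomial.eval_pow, Polynomial.eval_X, Polynomial.eval_C,
      Polynomial.eval_mul] at hxy
    refine ⟨![x - a / 2 * y, y], ?_⟩
    rw [qBin_apply]
    simp only [Matrix.cons_val_zero, Matrix.cons_val_one]
    have : a = 2 * (a / 2) := by field_simp
    linear_combination hxy + (x * y - a / 2 * y ^ 2) * this

/-- multiplication by `p + q t` where `t² = a t - b` -/
def mulPlane (a b p q : F) : (Fin 2 → F) →ₗ[F] (Fin 2 → F) where
  toFun w := ![p * w 0 - b * q * w 1, q * w 0 + (p + a * q) * w 1]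
  map_add' u v := funext fun i => by fin_cases i <;> simp <;> ring
  map_smul' c v := funext fun i => by fin_cases i <;> simp <;> ring

theorem mulPlane_zero (a b p q : F) (w : Fin 2 → F) :
    mulPlane a b p q w 0 = p * w 0 - b * q * w 1 := rfl

theorem mulPlane_one (a b p q : F) (w : Fin 2 → F) :
    mulPlane a b p q w 1 = q * w 0 + (p + a * q) * w 1 := rfl

/-- the conjugation -/
def conjPlane (a : F) : (Fin 2 → F) →ₗ[F] (Fin 2 → F) where
  toFun w := ![w 0 + a * w 1, -w 1]
  map_add' u v := funext fun i => by fin_cases i <;> simp <;> ring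
  map_smul' c v := funext fun i => by fin_cases i <;> simp <;> ring

theorem conjPlane_zero (a : F) (w : Fin 2 → F) : conjPlane a w 0 = w 0 + a * w 1 := rfl

theorem conjPlane_one (a : F) (w : Fin 2 → F) : conjPlane a w 1 = -w 1 := rfl

theorem qBin_hasRot {a b : F} (hab : Aniso a b) (k : ℕ) : HasRot k (qBin a b) := by
  classical
  have hQ := qBin_nondeg hab
  obtain ⟨x, hx⟩ : ∃ x : F, 2 * x + a ≠ 0 := by
    by_cases ha : a = 0
    · refine ⟨1, fun h => qBin_disc hab ?_⟩
      subst ha
      linear_combination (-2 * b) * h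
    · exact ⟨0, by simpa using ha⟩
  set c : F := x ^ 2 + a * x + b
  have hc : c ≠ 0 := fun h => one_ne_zero (hab x 1 (by linear_combination h)).2
  set p : F := (x ^ 2 - b) / c with hp
  set q : F := (2 * x + a) / c with hq
  have hnorm : p ^ 2 + a * p * q + b * q ^ 2 = 1 := by
    rw [hp, hq]; field_simp; ring
  let M : orthGroup (qBin a b) := H43.ofIsometry hQ (mulPlane a b p q) fun w => by
    rw [qBin_apply, qBin_apply, mulPlane_zero, mulPlane_one]
    linear_combination (w 0 ^ 2 + a * w 0 * w 1 + b * w 1 ^ 2) * hnorm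
  let σ : orthGroup (qBin a b) := H43.ofIsometry hQ (conjPlane a) fun w => by
    rw [qBin_apply, qBin_apply, conjPlane_zero, conjPlane_one]; ring
  have hM : ∀ w, M.1 w = mulPlane a b p q w := fun w => H43.ofIsometry_apply _ _ _ w
  have hσ : ∀ w, σ.1 w = conjPlane a w := fun w => H43.ofIsometry_apply _ _ _ w
  have hσσ : σ * σ = 1 := H43.orth_ext fun w => funext fun i => by
    rw [H43.orth_mul_apply, H43.orth_one_apply, hσ, hσ]
    fin_cases i
    · simp [conjPlane]
    · simp [conjPlane]
  have hMi : σ * M * σ = M⁻¹ := by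
    refine eq_inv_of_mul_eq_one_right (H43.orth_ext fun w => funext fun i => ?_)
    simp only [H43.orth_mul_apply, H43.orth_one_apply, hσ, hM]
    fin_cases i <;>
      simp [conjPlane, mulPlane] <;>
      first | linear_combination (w 0) * hnorm | linear_combination (w 1) * hnorm
  refine ⟨M * M, ?_, fun w hw => ?_⟩
  · have h : M * M = ⁅M, σ⁆ := by
      have hσi : σ⁻¹ = σ := inv_eq_of_mul_eq_one_right hσσ
      rw [commutatorElement_def, hσi, ← hMi]
      simp only [mul_assoc, ← mul_assoc σ σ, hσσ, one_mul]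
      simp
    rw [h, map_commutatorElement]
    exact comm_mem _ _ _
  · rw [H43.orth_mul_apply] at hw
    have h2 : M.1 w = (σ * M * σ).1 w := by
      rw [hMi]; conv_rhs => rw [← hw]
      rw [H43.orth_inv_apply_self]
    have e0 := congrFun h2 0
    have e1 := congrFun h2 1
    simp [H43.orth_mul_apply, hM, hσ, conjPlane, mulPlane] at e0 e1
    have hq0 : q ≠ 0 := div_ne_zero hx hc
    obtain ⟨hx0, hy0⟩ := qBin_kernel hab (x := w 0) (y := w 1)
      ((mul_eq_zero.1 (show q * (2 * w 0 + a * w 1) = 0 by linear_combination e1)).resolve_left hq0)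
      ((mul_eq_zero.1 (show q * (a * w 0 + 2 * b * w 1) = 0 by linear_combination -e0)).resolve_left hq0)
    exact funext fun i => by fin_cases i <;> assumption

end H19.OM
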