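import Cfsg.Agent.H19.OM.Core
import Cfsg.Agent.H43.Witt
import Cfsg.Agent.H38.StdForms
import Cfsg.Agent.H12.Integral

/-!
# The minimal degree of `Ω⁺`
-/

set_option autoImplicit false
set_option linter.unusedSectionVars false

namespace H19.OM

open Module Matrix H50.LS
open H43 (polB orthGroup)

variable {F : Type*} [Field F] [Fintype F] [DecidableEq F]

/-- the zero form -/
noncomputable abbrev qNil (F : Type*) [Field F] : QuadraticForm F (Fin 0 → F) := 0

theorem qNil_nondeg : (polB (qNil F)).Nondegenerate :=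
  ⟨fun x _ => Subsingleton.elim _ _, fun x _ => Subsingleton.elim _ _⟩

theorem polB_qNil (x y : Fin 0 → F) : polB (qNil F) x y = 0 := by
  simp [H43.polB_apply, QuadraticMap.polar]

instance finite_OO {m δ : ℕ} {Q0 : QuadraticForm F (Fin δ → F)} : Finite (OO m Q0) :=
  Finite.of_injective (fun g v => g.1 v) fun _ _ h => H43.orth_ext (congrFun h)

/-- coordinates of the plus form -/
noncomputable def plusL (m : ℕ) (F : Type*) [Field F] : (Fin m ⊕ Fin m → F) ≃ₗ[F] Sp m 0 F where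
  toFun v := (v ∘ Sum.inl, v ∘ Sum.inr, 0)
  invFun p := Sum.elim p.1 p.2.1
  map_add' u v := Prod.ext rfl (Prod.ext rfl (Subsingleton.elim _ _))
  map_smul' c v := Prod.ext rfl (Prod.ext rfl (Subsingleton.elim _ _))
  left_inv v := funext fun i => by cases i <;> rfl
  right_inv p := Prod.ext rfl (Prod.ext rfl (Subsingleton.elim _ _))

theorem plusL_apply (m : ℕ) (v : Fin m ⊕ Fin m → F) :
    plusL m F v = (v ∘ Sum.inl, v ∘ Sum.inr, 0) := rfl

theorem plusL_form (m : ℕ) (v : Fin m ⊕ Fin m → F) :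
    Qf m (qNil F) (plusL m F v) = H43.qPlus m F v := by
  rw [plusL_apply, Qf_apply, show (qNil F) 0 = 0 from rfl, add_zero, H43.coe_qPlus]
  rfl

theorem card_plus_singular (m : ℕ) :
    Nat.card {p : (Fin (m + 1) → F) × (Fin (m + 1) → F) // p ≠ 0 ∧ p.1 ⬝ᵥ p.2 = 0} =
      (Fintype.card F ^ (m + 1) - 1) * (Fintype.card F ^ m + 1) := by
  classical
  rw [← H38.plus_nonzero_zeros (F := F) m]
  have e1 : {p : (Fin (m + 1) → F) × (Fin (m + 1) → F) // p.1 ⬝ᵥ p.2 = 0} ≃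
      {v // Cfsg.quadFormPlus (m + 1) F v = 0} :=
    (Equiv.sumArrowEquivProdArrow _ _ _).symm.subtypeEquiv fun p => Iff.rfl
  rw [← Nat.card_congr e1, Nat.card_eq_fintype_card, Nat.card_eq_fintype_card,
    Fintype.card_subtype, Fintype.card_subtype, ← Finset.filter_filter]
  have : (Finset.univ.filter fun p : (Fin (m + 1) → F) × (Fin (m + 1) → F) => p.1 ⬝ᵥ p.2 = 0) =
      insert 0 ((Finset.univ.filter fun p : (Fin (m + 1) → F) × (Fin (m + 1) → F) => p ≠ 0).filter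
        fun p => p.1 ⬝ᵥ p.2 = 0) := by
    ext p
    by_cases hp : p = 0
    · subst hp; simp
    · simp [hp]
  rw [this, Finset.card_insert_of_notMem (by simp), Nat.add_sub_cancel]

variable {k : ℕ}

/-- singular orthogonal pairs -/
def Pair (k : ℕ) (F : Type*) [Field F] (p : Sp (k + 3) 0 F × Sp (k + 3) 0 F) : Prop :=
  LinearIndependent F ![p.1, p.2] ∧ Qf (k + 3) (qNil F) p.1 = 0 ∧ Qf (k + 3) (qNil F) p.2 = 0 ∧
    polB (Qf (k + 3) (qNil F)) p.1 p.2 = 0

/-- the standard pair -/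
def pair0 (k : ℕ) (F : Type*) [Field F] : Sp (k + 3) 0 F × Sp (k + 3) 0 F :=
  ((Pi.single 0 1, 0, 0), (Pi.single 1 1, 0, 0))

theorem pair_pair0 : Pair k F (pair0 k F) := by
  refine ⟨?_, by simp [pair0, Qf_apply], by simp [pair0, Qf_apply], by simp [pair0, polB_Qf, polB_qNil]⟩
  rw [LinearIndependent.pair_iff]
  intro s t h
  have h0 := congrArg (fun v : Sp (k + 3) 0 F => v.1 0) h
  have h1 := congrArg (fun v : Sp (k + 3) 0 F => v.1 1) h
  simp [pair0] at h0 h1
  exact ⟨h0, h1⟩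

theorem zO_E01_apply (v : Sp (k + 3) 0 F) :
    (zO (qNil F) (E01 k F)).1 v = v + polB (Qf (k + 3) (qNil F)) v (pair0 k F).2 • (pair0 k F).1 -
      polB (Qf (k + 3) (qNil F)) v (pair0 k F).1 • (pair0 k F).2 := by
  obtain ⟨x, y, w⟩ := v
  rw [zO_apply, E01, wedge_mulVec]
  simp only [pair0, polB_Qf, dotProduct_zero, zero_add, map_zero, add_zero, Prod.smul_mk,
    smul_zero, Prod.mk_add_mk, Prod.mk_sub_mk, sub_zero, sub_eq_add_neg, neg_zero, add_assoc,
    Prod.neg_mk]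

theorem stab_le_centralizer (g : OO (k + 3) (qNil F)) (h1 : g.1 (pair0 k F).1 = (pair0 k F).1)
    (h2 : g.1 (pair0 k F).2 = (pair0 k F).2) :
    g ∈ Subgroup.centralizer ({zO (qNil F) (E01 k F)} : Set (OO (k + 3) (qNil F))) := by
  rw [Subgroup.mem_centralizer_singleton_iff]
  refine H43.orth_ext fun v => ?_
  have e1 := H43.orth_polB_map g v (pair0 k F).1
  have e2 := H43.orth_polB_map g v (pair0 k F).2
  rw [h1] at e1
  rw [h2] at e2
  rw [H43.orth_mul_apply, H43.orth_mul_apply, zO_E01_apply, zO_E01_apply, map_sub, map_add,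
    map_smul, map_smul, h1, h2, e1, e2]

theorem centralizer_index_dvd :
    (Subgroup.centralizer ({zO (qNil F) (E01 k F)} : Set (OO (k + 3) (qNil F)))).index ∣
      Nat.card {p // Pair k F p} := by
  classical
  let X := {p : Sp (k + 3) 0 F × Sp (k + 3) 0 F // Pair k F p}
  have hmem : ∀ (g : OO (k + 3) (qNil F)) (p : X), Pair k F (g.1 p.1.1, g.1 p.1.2) := by
    rintro g ⟨p, hli, h1, h2, h3⟩
    refine ⟨?_, (g.2 _).trans h1, (g.2 _).trans h2, (H43.orth_polB_map g _ _).trans h3⟩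
    have := hli.map' (g.1 : Sp (k + 3) 0 F →ₗ[F] Sp (k + 3) 0 F) (LinearEquiv.ker g.1)
    have hfun : ![g.1 p.1, g.1 p.2] =
        (g.1 : Sp (k + 3) 0 F →ₗ[F] Sp (k + 3) 0 F) ∘ ![p.1, p.2] := by
      funext i; fin_cases i <;> rfl
    rwa [hfun]
  letI : MulAction (OO (k + 3) (qNil F)) X :=
    { smul := fun g p => ⟨(g.1 p.1.1, g.1 p.1.2), hmem g p⟩
      one_smul := fun p => rfl
      mul_smul := fun g h p => rfl }
  let x0 : X := ⟨pair0 k F, pair_pair0⟩
  have htop : MulAction.orbit (OO (k + 3) (qNil F)) x0 = Set.univ := by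
    refine Set.eq_univ_of_forall fun p => ?_
    obtain ⟨g, hg1, hg2⟩ := H43.exists_orth_map₂ (polB_Qf_nondeg qNil_nondeg) x0.2.1 p.2.1
      (x0.2.2.1.trans p.2.2.1.symm) (x0.2.2.2.1.trans p.2.2.2.1.symm)
      (x0.2.2.2.2.trans p.2.2.2.2.symm)
    exact ⟨g, Subtype.ext (Prod.ext hg1 hg2)⟩
  have hcard : (MulAction.stabilizer (OO (k + 3) (qNil F)) x0).index = Nat.card X := by
    rw [MulAction.index_stabilizer, htop, Set.ncard_univ]
  rw [← hcard]
  refine Subgroup.index_dvd_of_le fun g hg => ?_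
  have := congrArg Subtype.val (MulAction.mem_stabilizer_iff.1 hg)
  exact stab_le_centralizer g (congrArg Prod.fst this) (congrArg Prod.snd this)

theorem card_pairs_le :
    Nat.card {p // Pair k F p} =
      ((Fintype.card F ^ (k + 3) - 1) * (Fintype.card F ^ (k + 2) + 1)) *
        (Fintype.card F * ((Fintype.card F ^ (k + 2) - 1) * (Fintype.card F ^ (k + 1) + 1))) := by
  classical
  let S := {u : Sp (k + 3) 0 F // u ≠ 0 ∧ Qf (k + 3) (qNil F) u = 0}
  let fib : S → Type _ := fun u => {v : Sp (k + 3) 0 F // Pair k F (u.1, v)}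
  have e : {p // Pair k F p} ≃ Σ u : S, fib u :=
    { toFun := fun p => ⟨⟨p.1.1, by
        have := p.2.1.ne_zero 0
        exact ⟨this, p.2.2.1⟩⟩, p.1.2, p.2⟩
      invFun := fun q => ⟨(q.1.1, q.2.1), q.2.2⟩
      left_inv := fun p => rfl
      right_inv := fun q => rfl }
  have hu0 : (pair0 k F).1 ≠ 0 := pair_pair0.1.ne_zero 0
  let u0 : S := ⟨(pair0 k F).1, hu0, pair_pair0.2.1⟩
  have hfib : ∀ u : S, Nat.card (fib u) = Nat.card (fib u0) := by
    intro u
    obtain ⟨g, hg⟩ := H43.exists_orth_map (polB_Qf_nondeg qNil_nondeg) u.2.1 hu0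
      (u.2.2.trans pair_pair0.2.1.symm)
    refine Nat.card_congr (Equiv.subtypeEquiv g.1.toEquiv fun v => ?_)
    show Pair k F (u.1, v) ↔ Pair k F ((pair0 k F).1, g.1 v)
    rw [← hg]
    have hl : ∀ a b : Sp (k + 3) 0 F,
        LinearIndependent F ![g.1 a, g.1 b] ↔ LinearIndependent F ![a, b] := fun a b => by
      have hfun : ![g.1 a, g.1 b] = (g.1 : Sp (k + 3) 0 F →ₗ[F] Sp (k + 3) 0 F) ∘ ![a, b] := by
        funext i; fin_cases i <;> rfl
      rw [hfun, LinearMap.linearIndependent_iff _ (LinearEquiv.ker g.1)]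
    simp only [Pair, hl, H43.orth_qmap, H43.orth_polB_map]
  have h0 : Nat.card (fib u0) =
      Fintype.card F * ((Fintype.card F ^ (k + 2) - 1) * (Fintype.card F ^ (k + 1) + 1)) := by
    rw [← card_plus_singular (F := F) (k + 1), ← Nat.card_eq_fintype_card (α := F), ← Nat.card_prod]
    have hmemfib : ∀ v : Sp (k + 3) 0 F, Pair k F ((pair0 k F).1, v) ↔
        v.2.1 0 = 0 ∧ Fin.tail v.1 ⬝ᵥ Fin.tail v.2.1 = 0 ∧ (Fin.tail v.1, Fin.tail v.2.1) ≠ 0 := by
      rintro ⟨x, y, w⟩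
      have hw : w = 0 := Subsingleton.elim _ _
      subst hw
      have hdot : x ⬝ᵥ y = x 0 * y 0 + Fin.tail x ⬝ᵥ Fin.tail y := by
        rw [dotProduct, Fin.sum_univ_succ]; rfl
      constructor
      · rintro ⟨hli, -, hq, hb⟩
        have hy0 : y 0 = 0 := by simpa [pair0, polB_Qf, polB_qNil] using hb
        rw [Qf_apply, hdot, hy0, mul_zero, zero_add, show (qNil F) 0 = 0 from rfl, add_zero] at hq
        refine ⟨hy0, hq, fun hz => ?_⟩
        have hx := congrArg Prod.fst hz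
        have hy := congrArg Prod.snd hz
        have := (LinearIndependent.pair_iff.1 hli (x 0) (-1) ?_).2
        · simp at this
        refine Prod.ext (funext fun i => ?_) (Prod.ext (funext fun i => ?_) (Subsingleton.elim _ _))
        · refine Fin.cases ?_ (fun i => ?_) i
          · simp [pair0]
          · simpa [pair0, Fin.tail] using congrFun hx i
        · refine Fin.cases ?_ (fun i => ?_) i
          · simp [pair0, hy0]
          · simpa [pair0, Fin.tail] using congrFun hy i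
      · rintro ⟨hy0, hq, hne⟩
        dsimp only at hy0 hq hne
        refine ⟨?_, pair_pair0.2.1, ?_, by simpa [pair0, polB_Qf, polB_qNil] using hy0⟩
        · rw [LinearIndependent.pair_iff]
          intro s t h
          by_cases ht : t = 0
          · subst ht
            have h0 := congrArg (fun v : Sp (k + 3) 0 F => v.1 0) h
            simp [pair0] at h0
            exact ⟨h0, rfl⟩
          · exfalso
            apply hne
            refine Prod.ext (funext fun i => ?_) (funext fun i => ?_)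
            · have h0 := congrArg (fun v : Sp (k + 3) 0 F => v.1 i.succ) h
              simpa [pair0, ht, Fin.tail] using h0
            · have h0 := congrArg (fun v : Sp (k + 3) 0 F => v.2.1 i.succ) h
              simpa [pair0, ht, Fin.tail] using h0
        · rw [Qf_apply, hdot, hy0, mul_zero, zero_add, show (qNil F) 0 = 0 from rfl, add_zero, hq]
    refine Nat.card_congr
      { toFun := fun v => (v.1.1 0, ⟨(Fin.tail v.1.1, Fin.tail v.1.2.1),
          ((hmemfib v.1).1 v.2).2.2, ((hmemfib v.1).1 v.2).2.1⟩)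
        invFun := fun q => ⟨(Fin.cons q.1 q.2.1.1, Fin.cons 0 q.2.1.2, 0),
          (hmemfib _).2 ⟨rfl, by simpa using q.2.2.2, by simpa using q.2.2.1⟩⟩
        left_inv := fun v => by
          obtain ⟨⟨x, y, w⟩, hv⟩ := v
          have hy0 : y 0 = 0 := ((hmemfib _).1 hv).1
          refine Subtype.ext (Prod.ext ?_ (Prod.ext ?_ (Subsingleton.elim _ _)))
          · exact Fin.cons_self_tail x
          · show Fin.cons 0 (Fin.tail y) = y
            rw [← hy0, Fin.cons_self_tail]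
        right_inv := fun q => by simp }
  have hS : Nat.card S = (Fintype.card F ^ (k + 3) - 1) * (Fintype.card F ^ (k + 2) + 1) := by
    rw [← card_plus_singular (F := F) (k + 2)]
    refine Nat.card_congr (Equiv.subtypeEquiv
      ((Equiv.refl _).prodCongr (Equiv.prodUnique _ _)) fun v => ?_)
    obtain ⟨x, y, w⟩ := v
    have hw : w = 0 := Subsingleton.elim _ _
    subst hw
    show ((x, y, (0 : Fin 0 → F)) ≠ 0 ∧ _) ↔ ((x, y) ≠ 0 ∧ _)
    rw [Qf_apply, show (qNil F) 0 = 0 from rfl, add_zero]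
    refine and_congr (not_congr ?_) Iff.rfl
    simp [Prod.ext_iff]
  rw [Nat.card_congr e, Nat.card_sigma, Finset.sum_congr rfl fun u _ => hfib u, Finset.sum_const,
    smul_eq_mul, Finset.card_univ, ← Nat.card_eq_fintype_card, hS, h0]

open scoped Classical in
/-- the character at the long root element of the radical -/
theorem character_gZ {δ : ℕ} {Q0 : QuadraticForm F (Fin δ → F)} {V : Type*} [AddCommGroup V]
    [Module ℂ V] [FiniteDimensional ℂ V] (ρ : Representation ℂ (GG (k + 3) Q0) V) (h : ℕ)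
    (heV : ∀ ω : Alt (k + 3) F, ω ≠ 0 → eV ρ ω = if Dec ω then h else 0) :
    ρ.character (gZ 1) =
      (finrank ℂ V : ℂ) - ((h * Fintype.card F ^ (2 * k + 3) : ℕ) : ℂ) := by
  classical
  show LinearMap.trace ℂ V (ρ (gZ 1)) = _
  rw [trace_gZ, ← sum_eV ρ, Nat.cast_sum, eq_sub_iff_add_eq, ← eq_sub_iff_add_eq',
    ← Finset.sum_sub_distrib]
  set ψ := H40.MinDeg.psi F
  have hterm : ∀ ω : Alt (k + 3) F, (eV ρ ω : ℂ) - ψ (1 * ω.1 0 1) * (eV ρ ω : ℂ) =
      if Dec ω then (1 - ψ (ω.1 0 1)) * h else 0 := by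
    intro ω
    by_cases hω : ω = 0
    · subst hω
      rw [if_neg fun hd => hd.1 rfl]
      simp
    · rw [heV ω hω]
      split_ifs with hd
      · rw [one_mul]; ring
      · simp
  rw [Finset.sum_congr rfl fun ω _ => hterm ω, ← Finset.sum_filter, ← Finset.sum_mul,
    ← Finset.sum_fiberwise (Finset.univ.filter fun ω : Alt (k + 3) F => Dec ω)
      (fun ω : Alt (k + 3) F => ω.1 0 1),
    ← Finset.add_sum_erase _ _ (Finset.mem_univ (0 : F))]
  rw [Finset.sum_eq_zero fun ω hω => by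
      rw [(Finset.mem_filter.1 hω).2, AddChar.map_zero_eq_one, sub_self],
    zero_add, Finset.sum_congr rfl fun c hc => by
      rw [Finset.sum_congr rfl fun ω hω => by rw [(Finset.mem_filter.1 hω).2], Finset.sum_const,
        Finset.filter_filter, ← Fintype.card_subtype, ← Nat.card_eq_fintype_card,
        card_dec_entry one_ne_zero' (Finset.ne_of_mem_erase hc), nsmul_eq_mul],
    ← Finset.mul_sum, Finset.sum_sub_distrib]
  have hsum := AddChar.sum_eq_zero_of_ne_one (H40.MinDeg.psi_ne_one (F := F))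
  rw [← Finset.add_sum_erase _ _ (Finset.mem_univ (0 : F)), AddChar.map_zero_eq_one] at hsum
  rw [show ∑ x ∈ Finset.univ.erase (0 : F), ψ x = -1 by linear_combination hsum,
    Finset.sum_const, Finset.card_erase_of_mem (Finset.mem_univ _), Finset.card_univ,
    nsmul_eq_mul, mul_one, Nat.cast_sub Fintype.card_pos]
  push_cast
  ring

theorem plus_arith {q n : ℕ} (hq : 4 ≤ q) (hn : 4 ≤ n)
    (h : ((q : ℤ) ^ n + q ^ 2 + q - 1) ∣
      (q : ℤ) * ((q : ℤ) ^ 2 - 1) * ((q : ℤ) ^ n - 1) * ((q : ℤ) ^ (n - 1) + 1) *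
        ((q : ℤ) ^ (n - 2) + 1) * (q : ℤ) ^ (2 * n - 3)) : False := by
  obtain ⟨j, rfl⟩ : ∃ j, n = j + 2 := ⟨n - 2, by omega⟩
  rw [show j + 2 - 1 = j + 1 by omega, show j + 2 - 2 = j by omega] at h
  set Q : ℤ := (q : ℤ)
  have hQ : (4 : ℤ) ≤ Q := by show (4 : ℤ) ≤ (q : ℤ); exact_mod_cast hq
  set A : ℤ := Q ^ (j + 2) + Q ^ 2 + Q - 1 with hA
  have hcop : IsCoprime A Q := ⟨-1, Q ^ (j + 1) + Q + 1, by rw [hA]; ring⟩
  have h1 : A ∣ (Q ^ 2 - 1) * (Q ^ (j + 2) - 1) * (Q ^ (j + 1) + 1) * (Q ^ j + 1) := by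
    have h' : A ∣ Q ^ (2 * (j + 2) - 3 + 1) *
        ((Q ^ 2 - 1) * (Q ^ (j + 2) - 1) * (Q ^ (j + 1) + 1) * (Q ^ j + 1)) := by
      refine h.trans (dvd_of_eq ?_); ring
    exact hcop.pow_right.dvd_of_dvd_mul_left h'
  have hdvd : ∀ x y : ℤ, A ∣ x - y → ∀ r, A ∣ x * r → A ∣ y * r := fun x y hxy r hr => by
    have := dvd_sub hr (hxy.mul_right r)
    rwa [show x * r - (x - y) * r = y * r by ring] at this
  have h2 : A ∣ (Q + 1) * ((Q ^ 2 - 1) * (Q ^ (j + 1) + 1) * (Q ^ j + 1)) := by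
    refine hcop.dvd_of_dvd_mul_left (?_ : A ∣ Q * _)
    have e := hdvd (Q ^ (j + 2) - 1) (-(Q * (Q + 1))) ⟨1, by rw [hA]; ring⟩ _
      (by refine h1.trans (dvd_of_eq ?_); exact (by ring :
        (Q ^ 2 - 1) * (Q ^ (j + 2) - 1) * (Q ^ (j + 1) + 1) * (Q ^ j + 1) =
          (Q ^ (j + 2) - 1) * ((Q ^ 2 - 1) * (Q ^ (j + 1) + 1) * (Q ^ j + 1))))
    rw [neg_mul, dvd_neg, mul_assoc] at e
    exact e
  have h3 : A ∣ (Q + 1) * (Q ^ 2 - 1) * (Q ^ 2 - 1) * (Q ^ j + 1) := by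
    have e1 : A ∣ Q * ((Q ^ (j + 1) + 1) * ((Q + 1) * (Q ^ 2 - 1) * (Q ^ j + 1))) := by
      refine Dvd.dvd.mul_left ?_ _
      refine h2.trans (dvd_of_eq ?_); ring
    rw [← mul_assoc] at e1
    have e := hdvd (Q * (Q ^ (j + 1) + 1)) (1 - Q ^ 2) ⟨1, by rw [hA]; ring⟩ _ e1
    rw [show (1 - Q ^ 2) * ((Q + 1) * (Q ^ 2 - 1) * (Q ^ j + 1)) =
      -((Q + 1) * (Q ^ 2 - 1) * (Q ^ 2 - 1) * (Q ^ j + 1)) by ring, dvd_neg] at e
    exact e
  have h4 : A ∣ (Q + 1) * (Q ^ 2 - 1) * (Q ^ 2 - 1) * (Q - 1) := by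
    have e1 : A ∣ Q ^ 2 * (Q ^ j + 1) * ((Q + 1) * (Q ^ 2 - 1) * (Q ^ 2 - 1)) := by
      refine (h3.mul_left (Q ^ 2)).trans (dvd_of_eq ?_); ring
    have e := hdvd (Q ^ 2 * (Q ^ j + 1)) (1 - Q) ⟨1, by rw [hA]; ring⟩ _ e1
    rw [show (1 - Q) * ((Q + 1) * (Q ^ 2 - 1) * (Q ^ 2 - 1)) =
      -((Q + 1) * (Q ^ 2 - 1) * (Q ^ 2 - 1) * (Q - 1)) by ring, dvd_neg] at e
    exact e
  have hQ2 : 16 ≤ Q ^ 2 := by nlinarith
  have hQ1 : 4 * Q ≤ Q ^ 2 := by nlinarith
  have hQ3 : 4 * Q ^ 2 ≤ Q ^ 3 := by nlinarith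
  have hQ4 : 4 * Q ^ 3 ≤ Q ^ 4 := by nlinarith
  have hQ5 : 4 * Q ^ 4 ≤ Q ^ 5 := by nlinarith
  rcases Nat.lt_or_ge j 4 with hj | hj
  · interval_cases j
    · omega
    · omega
    · -- n = 4
      have hA4 : A = Q ^ 4 + Q ^ 2 + Q - 1 := hA.trans (by norm_num)
      have h5 : A ∣ (Q + 1) * (Q ^ 2 - 1) * (Q ^ 2 - 1) * (Q - 1) - A * (Q ^ 2 - 4) :=
        dvd_sub h4 (dvd_mul_right _ _)
      rw [show (Q + 1) * (Q ^ 2 - 1) * (Q ^ 2 - 1) * (Q - 1) - A * (Q ^ 2 - 4) =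
        -Q ^ 3 + 8 * Q ^ 2 + 4 * Q - 5 by rw [hA]; ring] at h5
      have hA0 : 0 < A := by rw [hA4]; linarith
      by_cases hz : -Q ^ 3 + 8 * Q ^ 2 + 4 * Q - 5 = 0
      · rcases le_or_gt Q 9 with h9 | h9
        · interval_cases Q <;> omega
        · nlinarith
      · have := Int.le_of_dvd (abs_pos.2 hz) ((dvd_abs _ _).2 h5)
        rcases abs_cases (-Q ^ 3 + 8 * Q ^ 2 + 4 * Q - 5) with ⟨e, -⟩ | ⟨e, -⟩ <;>
          rw [e, hA4] at this <;> linarith
    · -- n = 5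
      have hA5 : A = Q ^ 5 + Q ^ 2 + Q - 1 := hA.trans (by norm_num)
      have h5 : A ∣ (Q + 1) * (Q ^ 2 - 1) * (Q ^ 2 - 1) * (Q - 1) - A * Q :=
        dvd_sub h4 (dvd_mul_right _ _)
      rw [show (Q + 1) * (Q ^ 2 - 1) * (Q ^ 2 - 1) * (Q - 1) - A * Q =
        -3 * Q ^ 4 - Q ^ 3 + 2 * Q ^ 2 + Q - 1 by rw [hA]; ring] at h5
      have hneg : 0 < -(-3 * Q ^ 4 - Q ^ 3 + 2 * Q ^ 2 + Q - 1) := by nlinarith
      have := Int.le_of_dvd hneg (dvd_neg.2 h5)
      rw [hA5] at this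
      linarith
  · -- n ≥ 6
    have hA0 : Q ^ 6 ≤ Q ^ (j + 2) := pow_le_pow_right₀ (by omega) (by omega)
    have hpos : 0 < (Q + 1) * (Q ^ 2 - 1) * (Q ^ 2 - 1) * (Q - 1) := by
      have : 0 < Q ^ 2 - 1 := by omega
      have : 0 < Q - 1 := by omega
      positivity
    have := Int.le_of_dvd hpos h4
    rw [hA] at this
    nlinarith

/-- the bound for the plus type -/
theorem plus_bound (hk : 1 ≤ k) (hq : 3 < Fintype.card F) {d : ℕ}
    (ρ : Representation ℂ (GG (k + 3) (qNil F)) (Fin d → ℂ)) (hirr : ρ.IsIrreducible)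
    (hne : ρ (gz (qNil F) (E01 k F)) ≠ 1) :
    (Fintype.card F ^ (k + 3) - 1) * (Fintype.card F ^ (k + 2) + Fintype.card F) ≤
      d * (Fintype.card F ^ 2 - 1) := by
  classical
  obtain ⟨a, ha⟩ := exists_sq_ne_one hq
  have hsq : Function.Injective fun x : Bool => (if x then a else 1) * (if x then a else 1) := by
    intro x y h
    cases x <;> cases y <;> simp at h ⊢
    · exact ha (by rw [← Units.val_mul, ← h, Units.val_one])
    · exact ha (by rw [← Units.val_mul, h, Units.val_one])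
  have hex : ¬ H40.MinDeg.Exceptional F (k + 3) := by
    rintro (⟨h, -⟩ | ⟨-, h⟩) <;> omega
  have hq1 : 1 ≤ Fintype.card F := Fintype.card_pos
  have hD := card_dec (F := F) (k + 2)
  rw [show k + 2 + 1 = k + 3 from rfl] at hD
  have hp : ∀ i, 1 ≤ Fintype.card F ^ i := fun i => Nat.one_le_pow _ _ hq1
  have hpq : (Fintype.card F : ℤ) * Fintype.card F ≤ (Fintype.card F : ℤ) ^ (k + 1) := by
    rw [← sq]
    exact pow_le_pow_right₀ (by exact_mod_cast hq1) (by omega)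
  have hq4 : (4 : ℤ) ≤ Fintype.card F := by exact_mod_cast hq
  rcases shapes ρ qNil_nondeg hq hex hne (fun x : Bool => if x then a else 1) hsq with
    h | h | ⟨hfin, heV, h⟩
  · rw [Fintype.card_bool, Module.finrank_fin_fun, mul_zero, pow_zero, mul_one] at h
    refine le_trans ?_ (Nat.mul_le_mul_right _ h)
    zify [hp (k + 3), hp (k + 2), hp 2]
    rw [pow_succ (Fintype.card F : ℤ) (k + 2), pow_succ (Fintype.card F : ℤ) (k + 1)]
    generalize hX : (Fintype.card F : ℤ) ^ (k + 1) = X at hpq ⊢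
    generalize (Fintype.card F : ℤ) = q at hpq hq4 ⊢
    have hX16 : 16 ≤ X := by nlinarith
    have h16 : (0 : ℤ) ≤ 16 * (q ^ 3 - 2 * q) - (q ^ 3 + 2 * q ^ 2 - q - 2) := by
      nlinarith [mul_le_mul_of_nonneg_left hq4 (by nlinarith : (0 : ℤ) ≤ q * q)]
    nlinarith [mul_nonneg (by linarith : (0 : ℤ) ≤ X) h16,
      mul_nonneg (mul_nonneg (by linarith : (0 : ℤ) ≤ X) (by linarith : (0 : ℤ) ≤ X - 16))
        (by nlinarith : (0 : ℤ) ≤ q ^ 3 - 2 * q)]
  · rw [Module.finrank_fin_fun, pow_zero, one_mul] at h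
    refine le_trans ?_ (Nat.mul_le_mul_right _ h)
    zify [hp (k + 3), hp 2]
    rw [mul_assoc, mul_comm (Nat.card _ : ℤ), hD]
    have hX : (Fintype.card F : ℤ) ^ 2 ≤ (Fintype.card F : ℤ) ^ (k + 2) :=
      pow_le_pow_right₀ (by omega) (by omega)
    have h3 : (0 : ℤ) ≤ (Fintype.card F : ℤ) ^ (k + 3) - 1 := by
      have := hp (k + 3); exact sub_nonneg.2 (by exact_mod_cast this)
    nlinarith [mul_nonneg h3 (by nlinarith :
      (0 : ℤ) ≤ (Fintype.card F : ℤ) ^ (k + 2) - Fintype.card F - 2)]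
  rw [Module.finrank_fin_fun, pow_zero, one_mul] at hfin
  set q := Fintype.card F with hqdef
  set D := Nat.card {ω : Alt (k + 3) F // Dec ω}
  set N := eV ρ 0
  have hX0 : (0 : ℤ) ≤ (q : ℤ) ^ (k + 3) - 1 :=
    sub_nonneg.2 (by exact_mod_cast hp (k + 3))
  rcases h with h | ⟨-, h⟩
  · zify [hp (k + 3), hp 2] at h ⊢
    rw [hfin, Nat.cast_add, add_mul, mul_comm (D : ℤ), hD]
    nlinarith [mul_le_mul_of_nonneg_right h (by nlinarith : (0 : ℤ) ≤ (q : ℤ) ^ 2 - 1),
      mul_nonneg hX0 (by nlinarith : (0 : ℤ) ≤ (q : ℤ) ^ 2 - 1 - q - 1)]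
  by_cases hN : q ^ (k + 3) - 1 ≤ (q - 1) * N
  · zify [hp (k + 3), hp 2, hq1] at hN ⊢
    rw [hfin, Nat.cast_add, add_mul, mul_comm (D : ℤ), hD]
    nlinarith [mul_le_mul_of_nonneg_right hN (by positivity : (0 : ℤ) ≤ (q : ℤ) + 1)]
  exfalso
  -- the equality case
  have hNeq : ((q : ℤ) - 1) * N = (q : ℤ) ^ (k + 3) - q := by
    have hpow : q ≤ q ^ (k + 3) := Nat.le_self_pow (by omega) _
    obtain ⟨c, hc⟩ : q - 1 ∣ q ^ (k + 3) - q := by
      have h2 := Nat.sub_dvd_pow_sub_pow q 1 (k + 2)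
      rw [one_pow] at h2
      rw [pow_succ', ← Nat.mul_sub_one]
      exact h2.mul_left _
    have hc1 : c ≤ N := Nat.le_of_mul_le_mul_left (hc ▸ h) (by omega)
    have hc2 : N < c + 1 := by
      refine Nat.lt_of_mul_lt_mul_left (a := q - 1) ?_
      rw [mul_add, ← hc, mul_one]
      omega
    obtain rfl : c = N := by omega
    zify [hq1, hpow] at hc
    linarith
  have hdeg : ((q : ℤ) ^ 2 - 1) * d =
      ((q : ℤ) ^ (k + 2) - 1) * ((q : ℤ) ^ (k + 3) + (q : ℤ) ^ 2 + q - 1) := by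
    rw [hfin, Nat.cast_add, mul_add, hD]
    linear_combination ((q : ℤ) + 1) * hNeq
  haveI := hirr
  letI : Fintype (GG (k + 3) (qNil F)) := Fintype.ofFinite _
  have hint := H12.isIntegral_classSize_mul_char_div ρ (gZ 1)
  set I := (Subgroup.centralizer ({gZ 1} : Set (GG (k + 3) (qNil F)))).index with hI
  rw [character_gZ ρ 1 (fun ω hω => by rw [heV ω hω, pow_zero]), Module.finrank_fin_fun,
    one_mul] at hint
  have hd0 : d ≠ 0 := by
    intro hd0; subst hd0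
    exact hne (LinearMap.ext fun x => Subsingleton.elim _ _)
  have hdvd : d ∣ I * q ^ (2 * k + 3) := by
    refine H12.nat_dvd_of_isIntegral_div hd0 ?_
    have : ((I * q ^ (2 * k + 3) : ℕ) : ℂ) / (d : ℂ) =
        (I : ℂ) - (I : ℂ) * ((d : ℂ) - ((q ^ (2 * k + 3) : ℕ) : ℂ)) / (d : ℂ) := by
      have : (d : ℂ) ≠ 0 := Nat.cast_ne_zero.2 hd0
      field_simp
      push_cast
      ring
    rw [this]
    exact (isIntegral_algebraMap (R := ℤ) (A := ℂ) (x := (I : ℤ))).sub hint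
  -- the class size
  set C := Subgroup.centralizer ({zO (qNil F) (E01 k F)} : Set (OO (k + 3) (qNil F))) with hC
  have hgZ : (gZ (1 : F) : GG (k + 3) (qNil F)).1 = zO (qNil F) (E01 k F) := rfl
  have hIC : Subgroup.centralizer ({gZ 1} : Set (GG (k + 3) (qNil F))) =
      C.subgroupOf (GG (k + 3) (qNil F)) := by
    ext g
    rw [Subgroup.mem_subgroupOf, hC, Subgroup.mem_centralizer_singleton_iff,
      Subgroup.mem_centralizer_singleton_iff, Subtype.ext_iff, Subgroup.coe_mul, Subgroup.coe_mul,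
      hgZ]
  have hIdvd : I ∣ C.index := by
    rw [hI, hIC]
    show C.relIndex (GG (k + 3) (qNil F)) ∣ _
    have h1 := Subgroup.relIndex_mul_index (inf_le_left : C ⊓ GG (k + 3) (qNil F) ≤ C)
    have h2 := Subgroup.relIndex_mul_index (inf_le_right : C ⊓ GG (k + 3) (qNil F) ≤ _)
    rw [Subgroup.inf_relIndex_left] at h1
    rw [Subgroup.inf_relIndex_right, ← h1] at h2
    obtain ⟨y, hy⟩ := Subgroup.relIndex_dvd_index_of_normal (GG (k + 3) (qNil F)) C
    rw [hy] at h2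
    refine ⟨y, ?_⟩
    have hne0 : (GG (k + 3) (qNil F)).relIndex C ≠ 0 := fun h0 => by
      rw [h0, zero_mul] at hy
      exact Subgroup.index_ne_zero_of_finite hy
    apply mul_left_cancel₀ hne0
    rw [← h2]; ring
  have hfinal := hdvd.trans (mul_dvd_mul_right (hIdvd.trans centralizer_index_dvd) _)
  rw [card_pairs_le, ← hqdef] at hfinal
  have hfinal' : ((q : ℤ) ^ 2 - 1) * (d : ℤ) ∣ ((q : ℤ) ^ 2 - 1) *
      (((((q : ℤ) ^ (k + 3) - 1) * ((q : ℤ) ^ (k + 2) + 1)) *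
        ((q : ℤ) * (((q : ℤ) ^ (k + 2) - 1) * ((q : ℤ) ^ (k + 1) + 1)))) * (q : ℤ) ^ (2 * k + 3)) := by
    refine mul_dvd_mul_left _ ?_
    have := Int.natCast_dvd_natCast.2 hfinal
    push_cast [hp (k + 3), hp (k + 2)] at this
    exact this
  rw [hdeg] at hfinal'
  refine plus_arith (q := q) (n := k + 3) (by omega) (by omega) ?_
  rw [show k + 3 - 1 = k + 2 by omega, show k + 3 - 2 = k + 1 by omega,
    show 2 * (k + 3) - 3 = 2 * k + 3 by omega]
  have hne' : ((q : ℤ) ^ (k + 2) - 1) ≠ 0 := by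
    have : 2 ≤ q ^ (k + 2) := le_trans (by omega : 2 ≤ q) (Nat.le_self_pow (by omega) _)
    have : (2 : ℤ) ≤ (q : ℤ) ^ (k + 2) := by exact_mod_cast this
    omega
  refine (mul_dvd_mul_iff_left hne').1 (hfinal'.trans (dvd_of_eq ?_))
  ring

end H19.OM
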