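import Cfsg.Agent.H19.OM.Twist

/-!
# The Levi root group on the non-trivial eigenspaces, for any field
-/

set_option autoImplicit false
set_option linter.unusedSectionVars false

namespace H19.OM

open Module Matrix H50.LS
open H43 (polB orthGroup refl)

variable {F : Type*} [Field F] [Fintype F] [DecidableEq F] {k δ : ℕ}
variable {Q0 : QuadraticForm F (Fin δ → F)}
variable {V : Type*} [AddCommGroup V] [Module ℂ V] [FiniteDimensional ℂ V]
variable (ρ : GG (k + 3) Q0 →* Module.End ℂ V)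
variable (hQ0 : (polB Q0).Nondegenerate)

/-- exchange at the second coordinate, compensated on the kernel -/
noncomputable def gS1 {w0 : Fin δ → F} (hw0 : Q0 w0 = -1) : GG (k + 3) Q0 :=
  ⟨(flipO Q0 fun j => decide (j = 1)) * wLift Q0 (refl Q0 w0), flip_refl_mem Q0 hQ0 1 hw0⟩

include hQ0 in
theorem gS1_mul_gY {w0 : Fin δ → F} (hw0 : Q0 w0 = -1) (t : F) :
    gS1 (k := k) hQ0 hw0 * gY t = gZ t * gS1 hQ0 hw0 := by
  apply Subtype.ext
  show (flipO Q0 _ * wLift Q0 _) * (gY t).1 = zO Q0 _ * (flipO Q0 _ * wLift Q0 _)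
  rw [isLev_gY t, mul_assoc, wLift_levO, ← mul_assoc, ← mul_assoc]
  congr 1
  refine H43.orth_ext fun v => ?_
  obtain ⟨x, y, w⟩ := v
  rw [H43.orth_mul_apply, H43.orth_mul_apply, levO_apply, flipO_apply, flipO_apply, zO_apply,
    tvG_inv, tvG_val, tvG_val, Matrix.transvection, Matrix.transvection, Matrix.transpose_add,
    Matrix.transpose_one, Matrix.transpose_single, ← Matrix.transvection, ← Matrix.transvection,
    transvection_mulVec, transvection_mulVec, wedge_mulVec, single_dotProduct, single_dotProduct]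
  refine Prod.ext (funext fun i => ?_) (Prod.ext (funext fun i => ?_) rfl)
  · simp only [decide_eq_true_eq, Pi.add_apply, Pi.sub_apply, Pi.smul_apply, smul_eq_mul,
      Pi.single_apply, one_ne_zero', if_false, if_true, one_mul]
    by_cases h0 : i = 0
    · subst h0; simp [mul_comm]
    · by_cases h1 : i = 1
      · subst h1; simp
      · simp [h0, h1]
  · simp only [decide_eq_true_eq, Pi.add_apply, Pi.single_apply]
    by_cases h0 : i = 0
    · subst h0; simp
    · by_cases h1 : i = 1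
      · subst h1; simp
      · simp [h0, h1]

include hQ0 in
theorem gS1_mul_gz {w0 : Fin δ → F} (hw0 : Q0 w0 = -1) {A : Alt (k + 3) F} (hA : A.1 1 = 0) :
    gS1 hQ0 hw0 * gz Q0 A = gz Q0 A * gS1 hQ0 hw0 := by
  apply Subtype.ext
  show (flipO Q0 _ * wLift Q0 _) * zO Q0 A = zO Q0 A * (flipO Q0 _ * wLift Q0 _)
  rw [mul_assoc, wLift_zO, ← mul_assoc, ← mul_assoc]
  congr 1
  refine H43.orth_ext fun v => ?_
  obtain ⟨x, y, w⟩ := v
  rw [H43.orth_mul_apply, H43.orth_mul_apply, zO_apply, flipO_apply, flipO_apply, zO_apply]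
  have hcol : ∀ i, A.1 i 1 = 0 := fun i => by rw [Alt.sk A 1 i, hA]; simp
  refine Prod.ext (funext fun i => ?_) (Prod.ext (funext fun i => ?_) rfl)
  · by_cases hi : i = 1
    · subst hi; simp [mulVec, hA]
    · simp only [decide_eq_true_eq, hi, if_false, Pi.add_apply]
      congr 1
      simp only [mulVec, dotProduct]
      refine Finset.sum_congr rfl fun j _ => ?_
      by_cases hj : j = 1
      · subst hj; simp [hcol]
      · simp [hj]
  · by_cases hi : i = 1
    · subst hi; simp [mulVec, hA]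
    · simp [hi]

theorem gY_gu_zero_any (t : F) (w : Fin δ → F) :
    gY (Q0 := Q0) (k := k) t * gu Q0 (Pi.single 0 1) w = gu Q0 (Pi.single 0 1) w * gY t := by
  rw [(isLev_gY t).mul_gu, tvG_val, transvection_mulVec,
    Pi.single_eq_of_ne (one_ne_zero' (k := k)).symm, mul_zero, Pi.single_zero, add_zero]

theorem gY_add_any (s t : F) : gY (Q0 := Q0) (k := k) (s + t) = gY s * gY t := by
  unfold gY
  rw [← map_mul]
  congr 1
  exact Subtype.ext (Matrix.transvection_mul_transvection_same _ _ one_ne_zero' _ _).symm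

open scoped Classical in
include hQ0 in
/-- the averages agree on each level set of an entry away from the exchanged coordinate -/
theorem average_eq_on {w0 : Fin δ → F} (hw0 : Q0 w0 = -1) {i j : Fin (k + 3)} (hi : i ≠ 1)
    (hj : j ≠ 1) (c : F) :
    Fintype.card F * (∑ ω ∈ Finset.univ.filter (fun ω : Alt (k + 3) F => ω.1 i j = c),
        if ω.1 0 1 = 0 then eV ρ ω else 0) =
      ∑ ω ∈ Finset.univ.filter (fun ω : Alt (k + 3) F => ω.1 i j = c),
        if YFix ω then Fintype.card F * fY ρ ω else eV ρ ω := by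
  let ψ := H40.MinDeg.psi F
  let E : F → Alt (k + 3) F := fun s => wedge (Pi.single i s) (Pi.single j 1)
  have hE1 : ∀ s, (E s).1 1 = 0 := fun s => funext fun b => by
    simp [E, wedge_apply, hi.symm, hj.symm]
  let P : Module.End ℂ V := ∑ s : F, ψ (-(s * c)) • ρ (gz Q0 (E s))
  have hP : ∀ ω, P * eigProj (Zr ρ) (chr ω) =
      if ω.1 i j = c then (Fintype.card F : ℂ) • eigProj (Zr ρ) (chr ω) else 0 := by
    intro ω
    have h1 : ∀ s, ρ (gz Q0 (E s)) * eigProj (Zr ρ) (chr ω) =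
        ψ (s * ω.1 i j) • eigProj (Zr ρ) (chr ω) := fun s => LinearMap.ext fun x => by
      rw [Module.End.mul_apply, gz_apply ρ (eigProj_mem (Zr ρ) (chr ω) x), chr_apply,
        pr_wedge_single, mul_one]
      rfl
    simp only [P, Finset.sum_mul, smul_mul_assoc, h1, smul_smul, ← AddChar.map_add_eq_mul,
      ← Finset.sum_smul]
    rw [Finset.sum_congr rfl fun s _ => show ψ (-(s * c) + s * ω.1 i j) = ψ (s * (ω.1 i j - c)) by
      rw [mul_sub, neg_add_eq_sub], AddChar.sum_mulShift _ psi_isPrimitive]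
    by_cases h : ω.1 i j = c
    · rw [if_pos (sub_eq_zero.2 h), if_pos h]
    · rw [if_neg (sub_ne_zero.2 h), if_neg h]; simp
  have hcomm : ρ (gS1 hQ0 hw0) * P = P * ρ (gS1 hQ0 hw0) := by
    simp only [P, Finset.mul_sum, Finset.sum_mul, mul_smul_comm, smul_mul_assoc]
    refine Finset.sum_congr rfl fun s _ => ?_
    rw [← map_mul, ← map_mul, gS1_mul_gz hQ0 hw0 (hE1 s)]
  have htr : ∀ t, LinearMap.trace ℂ V (ρ (gY t) * P) = LinearMap.trace ℂ V (ρ (gZ t) * P) := by
    intro t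
    set S := gS1 (k := k) hQ0 hw0
    have h : ρ (gY t) = ρ S⁻¹ * (ρ (gZ t) * ρ S) := by
      rw [← map_mul, ← gS1_mul_gY hQ0 hw0, map_mul, ← mul_assoc, rho_inv_mul, one_mul]
    rw [h, mul_assoc, mul_assoc, hcomm, LinearMap.trace_mul_comm, ← mul_assoc (ρ (gZ t)),
      mul_assoc (ρ (gZ t) * P), ← map_mul, mul_inv_cancel, map_one, mul_one]
  clear_value P
  have hsplit : ∀ T : Module.End ℂ V, LinearMap.trace ℂ V (T * P) = (Fintype.card F : ℂ) *
      ∑ ω ∈ Finset.univ.filter (fun ω : Alt (k + 3) F => ω.1 i j = c),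
        LinearMap.trace ℂ V (T * eigProj (Zr ρ) (chr ω)) := by
    intro T
    rw [trace_eq_sum ρ (T * P), Finset.sum_filter, Finset.mul_sum]
    refine Finset.sum_congr rfl fun ω _ => ?_
    rw [mul_assoc, hP]
    split_ifs <;> simp
  have h1 : ∑ t : F, LinearMap.trace ℂ V (ρ (gZ t) * P) = (Fintype.card F : ℂ) *
      ((Fintype.card F * (∑ ω ∈ Finset.univ.filter (fun ω : Alt (k + 3) F => ω.1 i j = c),
        if ω.1 0 1 = 0 then eV ρ ω else 0) : ℕ) : ℂ) := by
    simp only [hsplit, ← Finset.mul_sum]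
    congr 1
    rw [Finset.sum_comm, Nat.cast_mul, Nat.cast_sum, Finset.mul_sum]
    refine Finset.sum_congr rfl fun ω _ => ?_
    have : ∀ t, LinearMap.trace ℂ V (ρ (gZ t) * eigProj (Zr ρ) (chr ω)) =
        ψ (t * ω.1 0 1) * (eV ρ ω : ℂ) := fun t => by
      have h : ρ (gZ t) * eigProj (Zr ρ) (chr ω) =
          chr ω (wedge (Pi.single 0 t) (Pi.single 1 1)) • eigProj (Zr ρ) (chr ω) :=
        LinearMap.ext fun x => gz_apply ρ (eigProj_mem (Zr ρ) (chr ω) x) _
      rw [h, map_smul, trace_eigProj, smul_eq_mul, chr_apply, pr_wedge_single, mul_one]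
      rfl
    rw [Finset.sum_congr rfl fun t _ => this t, ← Finset.sum_mul,
      AddChar.sum_mulShift _ psi_isPrimitive]
    split_ifs <;> simp
  have h2 : ∑ t : F, LinearMap.trace ℂ V (ρ (gY t) * P) = (Fintype.card F : ℂ) *
      ((∑ ω ∈ Finset.univ.filter (fun ω : Alt (k + 3) F => ω.1 i j = c),
        if YFix ω then Fintype.card F * fY ρ ω else eV ρ ω : ℕ) : ℂ) := by
    simp only [hsplit, ← Finset.mul_sum]
    congr 1
    rw [Finset.sum_comm, Nat.cast_sum]
    refine Finset.sum_congr rfl fun ω _ => ?_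
    split_ifs with h
    · exact sum_trace_fix ρ h
    · exact sum_trace_moved ρ h
  simp only [htr] at h2
  exact Nat.cast_injective (mul_left_cancel₀ (Nat.cast_ne_zero.2 Fintype.card_ne_zero)
    (h1.symm.trans h2))

open scoped Classical in
include hQ0 in
/-- the root group fixes the eigenspaces with an entry in the far block -/
theorem gY_fix_far {w0 : Fin δ → F} (hw0 : Q0 w0 = -1) {h : ℕ}
    (heV : ∀ ω : Alt (k + 3) F, ω ≠ 0 → eV ρ ω = if Dec ω then h else 0)
    {ω0 : Alt (k + 3) F} (hdec : Dec ω0) (hrow : ω0.1 0 = 0) {i j : Fin (k + 3)}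
    (hi0 : i ≠ 0) (hi1 : i ≠ 1) (hj0 : j ≠ 0) (hj1 : j ≠ 1) (hij : ω0.1 i j ≠ 0) :
    ∀ t, ∀ x ∈ Vw ρ ω0, ρ (gY t) x = x := by
  set c := ω0.1 i j
  set S := Finset.univ.filter fun ω : Alt (k + 3) F => ω.1 i j = c with hS
  set D := S.filter fun ω => Dec ω
  have hne : ∀ ω ∈ S, ω ≠ 0 := fun ω hω h0 => hij (by
    rw [← (Finset.mem_filter.1 hω).2, h0]; rfl)
  have hav := average_eq_on ρ hQ0 hw0 hi1 hj1 c
  rw [← hS] at hav
  -- inside one level set a fixed bivector has vanishing first row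
  have hY0 : ∀ ω ∈ D, YFix ω → ω.1 0 1 = 0 := by
    intro ω hω hy
    have hd : Dec ω := (Finset.mem_filter.1 hω).2
    have hc : ω.1 i j = c := (Finset.mem_filter.1 (Finset.mem_filter.1 hω).1).2
    have := hd.identity i j 0 1
    rw [Alt.sk ω 0 i, Alt.sk ω 0 j, hy i hi1, hy j hj1, hc] at this
    simpa [show c ≠ 0 from hij] using this
  -- the moved bivectors are evenly spread
  let Z := D.filter fun ω => ¬ YFix ω
  have hkey : Z.card = Fintype.card F * (Z.filter fun ω => ω.1 0 1 = 0).card := by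
    let kk : Alt (k + 3) F → Fin (k + 3) := fun ω => if ω.1 0 i ≠ 0 then i else j
    have hkk : ∀ ω, kk ω ≠ 1 := fun ω => by simp only [kk]; split_ifs <;> assumption
    have hkk0 : ∀ ω, (0 : Fin (k + 3)) ≠ kk ω := fun ω => by
      simp only [kk]; split_ifs <;> exact Ne.symm ‹_›
    have hmem : ∀ ω, ω ∈ Z ↔ ω.1 i j = c ∧ Dec ω ∧ ¬ YFix ω := fun ω => by
      simp [Z, D, hS, and_assoc]
    have hnz : ∀ ω ∈ Z, ω.1 0 (kk ω) ≠ 0 := by
      intro ω hω
      obtain ⟨hc, hd, hy⟩ := (hmem ω).1 hω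
      simp only [kk]
      split_ifs with hi'
      · exact hi'
      · push Not at hi'
        intro hj'
        apply hy
        intro b _
        have := hd.identity i j 0 b
        rw [Alt.sk ω 0 i, Alt.sk ω 0 j, hi', hj', hc] at this
        simpa [show c ≠ 0 from hij] using this
    let sh : Alt (k + 3) F → F → Alt (k + 3) F := fun ω s =>
      cong (Matrix.transvection 1 (kk ω) s) ω
    have hent : ∀ ω s (a b : Fin (k + 3)), a ≠ 1 → b ≠ 1 → (sh ω s).1 a b = ω.1 a b :=
      fun ω s a b ha hb => by simp [sh, cong_tv_apply, ha, hb]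
    have h01 : ∀ ω s, (sh ω s).1 0 1 = ω.1 0 1 + s * ω.1 0 (kk ω) := fun ω s => by
      simp [sh, cong_tv_apply, one_ne_zero']
    have hkeq : ∀ ω s, kk (sh ω s) = kk ω := fun ω s => by
      simp only [kk]; rw [hent ω s 0 i one_ne_zero' hi1]
    have hshmem : ∀ ω ∈ Z, ∀ s, sh ω s ∈ Z := by
      intro ω hω s
      obtain ⟨hc, hd, hy⟩ := (hmem ω).1 hω
      refine (hmem _).2 ⟨by rw [hent ω s i j hi1 hj1, hc], ?_, fun hy' => ?_⟩
      · exact hd.cong_of (g' := Matrix.transvection 1 (kk ω) (-s)) (by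
          rw [Matrix.transvection_mul_transvection_same _ _ (Ne.symm (hkk ω)), neg_add_cancel,
            Matrix.transvection_zero])
      · exact hy fun b hb => by rw [← hent ω s 0 b one_ne_zero' hb]; exact hy' b hb
    have hcomp : ∀ ω s s', sh (sh ω s) s' = sh ω (s' + s) := fun ω s s' => by
      show cong (Matrix.transvection 1 (kk (sh ω s)) s') (cong _ ω) = _
      rw [hkeq, ← cong_mul, Matrix.transvection_mul_transvection_same _ _ (Ne.symm (hkk ω))]
    have hsh0 : ∀ ω, sh ω 0 = ω := fun ω => by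
      show cong _ ω = ω
      rw [Matrix.transvection_zero, cong_one]
    rw [← Finset.card_univ, ← Finset.card_product]
    refine Finset.card_bij'
      (fun ω _ => (ω.1 0 1, sh ω (-(ω.1 0 1) / ω.1 0 (kk ω))))
      (fun p _ => sh p.2 (p.1 / p.2.1 0 (kk p.2))) ?_ ?_ ?_ ?_
    · intro ω hω
      refine Finset.mem_product.2 ⟨Finset.mem_univ _, Finset.mem_filter.2 ⟨hshmem ω hω _, ?_⟩⟩
      rw [h01, div_mul_cancel₀ _ (hnz ω hω), add_neg_cancel]
    · intro p hp
      exact hshmem _ (Finset.mem_filter.1 (Finset.mem_product.1 hp).2).1 _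
    · intro ω hω
      simp only
      rw [hkeq, hent ω _ 0 (kk ω) one_ne_zero' (hkk ω), hcomp, neg_div, add_neg_cancel, hsh0]
    · intro p hp
      obtain ⟨h2, h3⟩ := Finset.mem_filter.1 (Finset.mem_product.1 hp).2
      show ((sh p.2 (p.1 / p.2.1 0 (kk p.2))).1 0 1,
        sh (sh p.2 (p.1 / p.2.1 0 (kk p.2)))
          (-((sh p.2 (p.1 / p.2.1 0 (kk p.2))).1 0 1) /
            (sh p.2 (p.1 / p.2.1 0 (kk p.2))).1 0 (kk (sh p.2 (p.1 / p.2.1 0 (kk p.2)))))) = p
      have hne0 := hnz _ h2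
      rw [h01, h3, zero_add, div_mul_cancel₀ _ hne0, hkeq,
        hent p.2 _ 0 (kk p.2) one_ne_zero' (hkk p.2), hcomp, neg_div, neg_add_cancel, hsh0]
  have hle : ∀ ω, fY ρ ω ≤ eV ρ ω := fun ω => Submodule.finrank_mono inf_le_left
  have hL : (∑ ω ∈ S, if ω.1 0 1 = 0 then eV ρ ω else 0) =
      h * ((D.filter fun ω => YFix ω).card + (Z.filter fun ω => ω.1 0 1 = 0).card) := by
    rw [← Finset.card_union_of_disjoint, mul_comm, ← smul_eq_mul, ← Finset.sum_const]
    · have hset : (D.filter fun ω => YFix ω) ∪ (Z.filter fun ω => ω.1 0 1 = 0) =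
          S.filter fun ω => Dec ω ∧ ω.1 0 1 = 0 := by
        ext ω
        simp only [Z, D, Finset.mem_union, Finset.mem_filter]
        constructor
        · rintro (⟨⟨a, b⟩, hy⟩ | ⟨⟨⟨a, b⟩, -⟩, h0⟩)
          · exact ⟨a, b, hY0 ω (Finset.mem_filter.2 ⟨a, b⟩) hy⟩
          · exact ⟨a, b, h0⟩
        · rintro ⟨a, b, h0⟩
          by_cases hy : YFix ω
          · exact Or.inl ⟨⟨a, b⟩, hy⟩
          · exact Or.inr ⟨⟨⟨a, b⟩, hy⟩, h0⟩
      rw [hset, Finset.sum_filter (s := S)]
      refine Finset.sum_congr rfl fun ω hω => ?_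
      rw [heV ω (hne ω hω)]
      by_cases h1 : Dec ω <;> by_cases h2 : ω.1 0 1 = 0 <;> simp [h1, h2]
    · rw [Finset.disjoint_left]
      intro ω h1 h2
      exact (Finset.mem_filter.1 (Finset.mem_filter.1 h2).1).2 (Finset.mem_filter.1 h1).2
  have hR : (∑ ω ∈ S, if YFix ω then Fintype.card F * fY ρ ω else eV ρ ω) =
      Fintype.card F * (∑ ω ∈ D.filter (fun ω => YFix ω), fY ρ ω) + h * Z.card := by
    rw [show D.filter (fun ω => YFix ω) = S.filter (fun ω => Dec ω ∧ YFix ω) from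
        Finset.filter_filter _ _ _,
      show Z = S.filter (fun ω => Dec ω ∧ ¬ YFix ω) from Finset.filter_filter _ _ _,
      Finset.mul_sum, mul_comm h, ← smul_eq_mul (Finset.card _), ← Finset.sum_const,
      Finset.sum_filter (s := S), Finset.sum_filter (s := S), ← Finset.sum_add_distrib]
    refine Finset.sum_congr rfl fun ω hω => ?_
    have he := heV ω (hne ω hω)
    have hfle := hle ω
    by_cases h1 : Dec ω <;> by_cases h2 : YFix ω <;> simp [h1, h2] at he hfle ⊢ <;> omega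
  rw [hL, hR, hkey] at hav
  have hsum : h * (D.filter fun ω => YFix ω).card =
      ∑ ω ∈ D.filter (fun ω => YFix ω), fY ρ ω := by
    refine Nat.eq_of_mul_eq_mul_left (Fintype.card_pos (α := F)) ?_
    rw [mul_add, mul_add, ← mul_assoc (Fintype.card F) h (Z.filter _).card,
      mul_comm (Fintype.card F) h, mul_assoc h] at hav
    exact Nat.add_right_cancel hav
  have hall : ∀ ω ∈ D.filter (fun ω => YFix ω), fY ρ ω = h := by
    refine (Finset.sum_eq_sum_iff_of_le fun ω hω => ?_).1 ?_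
    · have hm := (Finset.mem_filter.1 (Finset.mem_filter.1 hω).1)
      exact (hle ω).trans (by rw [heV ω (hne ω hm.1), if_pos hm.2])
    · rw [Finset.sum_const, smul_eq_mul, mul_comm, hsum]
  have hmem0 : ω0 ∈ D.filter (fun ω => YFix ω) :=
    Finset.mem_filter.2 ⟨Finset.mem_filter.2 ⟨Finset.mem_filter.2 ⟨Finset.mem_univ _, rfl⟩, hdec⟩,
      fun b _ => by rw [hrow]; rfl⟩
  have hfull : Vw ρ ω0 ⊓ eigSp (Yr ρ) 0 = Vw ρ ω0 := by
    refine Submodule.eq_of_le_of_finrank_eq inf_le_left ?_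
    show fY ρ ω0 = eV ρ ω0
    rw [hall ω0 hmem0, heV ω0 hdec.1, if_pos hdec]
  intro t x hx
  have : x ∈ Vw ρ ω0 ⊓ eigSp (Yr ρ) 0 := by rw [hfull]; exact hx
  exact mem_eigSp_zero.1 this.2 t

open scoped Classical in
include hQ0 in
/-- the root group fixes every decomposable eigenspace with vanishing first row -/
theorem gY_trivial_rot (hrot : HasRot k Q0) {w0 : Fin δ → F} (hw0 : Q0 w0 = -1)
    (heV : ∀ ω : Alt (k + 3) F, ω ≠ 0 → eV ρ ω = if Dec ω then Fintype.card F ^ δ else 0)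
    {ω : Alt (k + 3) F} (hdec : Dec ω) (h0 : ω.1 0 = 0) :
    ∀ t, ∀ x ∈ Vw ρ ω, ρ (gY t) x = x := by
  by_cases hfar : ∃ i j : Fin (k + 3), i ≠ 0 ∧ i ≠ 1 ∧ j ≠ 0 ∧ j ≠ 1 ∧ ω.1 i j ≠ 0
  · obtain ⟨i, j, a, b, c, d, e⟩ := hfar
    exact gY_fix_far ρ hQ0 hw0 heV hdec h0 a b c d e
  push Not at hfar
  obtain ⟨l, hl⟩ : ∃ l, ω.1 1 l ≠ 0 := by
    by_contra h
    push Not at h
    refine hdec.1 (Alt.ext fun a b => ?_)
    by_cases ha : a = 0
    · subst ha; rw [h0]; rfl
    by_cases hb : b = 0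
    · subst hb; rw [Alt.sk ω 0 a, h0]; simp
    by_cases ha1 : a = 1
    · subst ha1; exact h b
    by_cases hb1 : b = 1
    · subst hb1; rw [Alt.sk ω 1 a, h a]; simp
    exact hfar a b ha ha1 hb hb1
  have hl0 : l ≠ 0 := fun h => hl (by rw [h, Alt.sk ω 0 1, h0]; simp)
  have hl1 : l ≠ 1 := fun h => hl (by rw [h]; exact Alt.dg ω 1)
  intro t
  refine gT_trivial ρ hQ0 hrot (one_ne_zero' (k := k)) (Ne.symm hl0) hl1 hdec.1 h0 (fun b hb => ?_)
    (by rw [heV ω hdec.1, if_pos hdec]) t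
  by_cases hb0 : b = 0
  · subst hb0; rw [Alt.sk ω 0 l, h0]; simp
  exact hfar l b hl0 hl1 hb0 hb

include hQ0 in
/-- when the kernel form takes every value, the standard eigenspace has a fixed vector -/
theorem exists_fixed_E01_surj (hsurj : ∀ c, ∃ b, Q0 b = c)
    (hd : eV ρ (E01 k F) = Fintype.card F ^ δ) :
    ∃ x ∈ Vw ρ (E01 k F), x ≠ 0 ∧ ∀ t, ρ (gY t) x = x := by
  classical
  have hst : ev (E01 k F) (Pi.single 0 1) (Pi.single 1 1) = 1 := by
    rw [ev_single, E01_row0]; simp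
  have hfin := finrank_eq_uFix ρ hQ0 (le_refl (Vw ρ (E01 k F))) hst
    (fun w _ hx => gu_mem ρ hx _ w) (fun w _ hx => gu_mem ρ hx _ w)
  have h1 : finrank ℂ (uFix ρ (Vw ρ (E01 k F)) (Pi.single 0 1)) = 1 := by
    rw [eV] at hd
    rw [hd] at hfin
    exact (Nat.mul_eq_left (pow_ne_zero _ Fintype.card_ne_zero)).1 hfin.symm
  obtain ⟨⟨v, hv⟩, hv0, hspan⟩ := finrank_eq_one_iff'.1 h1
  have hv' : v ≠ 0 := fun h => hv0 (Subtype.ext h)
  have hfix : YFix (E01 k F) := fun b hb => by rw [E01_row0, Pi.single_eq_of_ne hb]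
  have hY : ∀ t, ∃ lam : ℂ, ρ (gY t) v = lam • v := fun t => by
    obtain ⟨lam, hlam⟩ := hspan ⟨ρ (gY t) v, gY_mem_Vw ρ hfix t hv.1, fun w => by
      rw [← Module.End.mul_apply, ← map_mul, ← gY_gu_zero_any, map_mul, Module.End.mul_apply,
        hv.2 w]⟩
    exact ⟨lam, (congrArg Subtype.val hlam).symm⟩
  choose lam hlam using hY
  let χ : AddChar F ℂ :=
    { toFun := lam
      map_zero_eq_one' := smul_left_injective ℂ hv' (by
        simp only
        rw [← hlam, gY, show SpecialLinearGroup.transvection (one_ne_zero' (k := k)) (0 : F) = 1 from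
          Subtype.ext (Matrix.transvection_zero _ _), map_one, map_one, Module.End.one_apply,
          one_smul])
      map_add_eq_mul' := fun s t => smul_left_injective ℂ hv' (by
        simp only
        rw [← hlam, gY_add_any, map_mul, Module.End.mul_apply, hlam t, map_smul, hlam s, smul_smul,
          mul_comm]) }
  obtain ⟨c, hc⟩ : ∃ c, AddChar.mulShift (H40.MinDeg.psi F) c = χ := by
    have hb : Function.Bijective fun c : F => AddChar.mulShift (H40.MinDeg.psi F) c := by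
      rw [Fintype.bijective_iff_injective_and_card, AddChar.card_eq]
      exact ⟨AddChar.to_mulShift_inj_of_isPrimitive psi_isPrimitive, rfl⟩
    exact hb.2 χ
  obtain ⟨b, hb⟩ := hsurj c
  refine ⟨ρ (gu Q0 (Pi.single 1 1) b) v, gu_mem ρ hv.1 _ _, fun h => hv' ?_, fun t => ?_⟩
  · have := congrArg (ρ (gu Q0 (Pi.single 1 1) b)⁻¹) h
    rwa [map_zero, ← Module.End.mul_apply, rho_inv_mul, Module.End.one_apply] at this
  set e1 : Fin (k + 3) → F := Pi.single 1 1
  set e0 : Fin (k + 3) → F := Pi.single 0 t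
  have hmul : gY (Q0 := Q0) t * gu Q0 e1 b = gu Q0 (e1 + e0) b * gY t := by
    rw [(isLev_gY t).mul_gu, tvG_val, transvection_mulVec]
    simp [e1, e0]
  rw [← Module.End.mul_apply, ← map_mul, hmul, map_mul, Module.End.mul_apply, hlam t, map_smul]
  have h := LinearMap.congr_fun (congrArg ρ (gu_add_left Q0 e1 e0 b)) v
  have h0 : ρ (gu Q0 e0 b) v = v := by
    rw [show e0 = t • Pi.single 0 1 by rw [← Pi.single_smul, smul_eq_mul, mul_one], gu_smul, hv.2]
  rw [map_mul, map_mul, Module.End.mul_apply, Module.End.mul_apply, h0,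
    gz_apply ρ (gu_mem ρ hv.1 _ _), chr_wedge, ← ev, ev_smul_left, ev_swap, ev_single, E01_row0,
    hb] at h
  simp only [Pi.single_eq_same, mul_one, mul_neg, neg_mul, neg_neg] at h
  have hlt : lam t = H40.MinDeg.psi F (c * t) := by
    show χ t = _
    rw [← hc, AddChar.mulShift_apply]
  rw [hlt, h]

end H19.OM
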