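import Cfsg.Agent.H50.LSChar

/-!
# Eigenspaces of an abelian group and operators normalising it
-/

set_option autoImplicit false

namespace H19.OM

open Module H50.LS

variable {A : Type*} [AddCommGroup A] {E : Type*} [AddCommGroup E] [Module ℂ E]
variable (R : Multiplicative A →* Module.End ℂ E)

/-- An operator intertwining `R` with a twist of `R` maps eigenspaces to eigenspaces. -/
theorem eigSp_map {T : Module.End ℂ E} {σ : A → A}
    (h : ∀ a, R (Multiplicative.ofAdd a) * T = T * R (Multiplicative.ofAdd (σ a)))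
    {χ ψ : AddChar A ℂ} (hψ : ∀ a, ψ a = χ (σ a)) {x : E} (hx : x ∈ eigSp R χ) :
    T x ∈ eigSp R ψ := by
  intro a
  rw [← Module.End.mul_apply, h, Module.End.mul_apply, hx (σ a), map_smul, hψ]

theorem finrank_le_of_map [FiniteDimensional ℂ E] {T T' : Module.End ℂ E} (hT : T' * T = 1)
    {U W : Submodule ℂ E} (h : ∀ x ∈ U, T x ∈ W) : finrank ℂ U ≤ finrank ℂ W := by
  have hinj : Function.Injective T := fun x y hxy => by
    have := congrArg T' hxy
    rwa [← Module.End.mul_apply, ← Module.End.mul_apply, hT] at this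
  exact LinearMap.finrank_le_finrank_of_injective (f := T.restrict h)
    fun x y hxy => Subtype.ext (hinj (congrArg Subtype.val hxy))

theorem finrank_eigSp_le_of_map [FiniteDimensional ℂ E] {T T' : Module.End ℂ E} (hT : T' * T = 1)
    {σ : A → A} (h : ∀ a, R (Multiplicative.ofAdd a) * T = T * R (Multiplicative.ofAdd (σ a)))
    {χ ψ : AddChar A ℂ} (hψ : ∀ a, ψ a = χ (σ a)) :
    finrank ℂ (eigSp R χ) ≤ finrank ℂ (eigSp R ψ) :=
  finrank_le_of_map hT fun _ hx => eigSp_map R h hψ hx

variable [Fintype A]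

theorem sum_finset_le [FiniteDimensional ℂ E] (S : Finset (AddChar A ℂ)) :
    ∑ χ ∈ S, finrank ℂ (eigSp R χ) ≤ finrank ℂ E := by
  rw [← sum_finrank_eigSp R]
  exact Finset.sum_le_sum_of_subset (Finset.subset_univ S)

/-- If every character is reached from every other one, the space is evenly split. -/
theorem card_mul_finrank_eigSp [FiniteDimensional ℂ E]
    (h : ∀ χ ψ, finrank ℂ (eigSp R χ) ≤ finrank ℂ (eigSp R ψ)) (χ : AddChar A ℂ) :
    Fintype.card A * finrank ℂ (eigSp R χ) = finrank ℂ E := by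
  classical
  rw [← sum_finrank_eigSp R, Finset.sum_congr rfl fun ψ _ => le_antisymm (h ψ χ) (h χ ψ),
    Finset.sum_const, Finset.card_univ, AddChar.card_eq, smul_eq_mul]

theorem isProj_eigProj (χ : AddChar A ℂ) : LinearMap.IsProj (eigSp R χ) (eigProj R χ) := by
  classical
  exact ⟨fun x => eigProj_mem R χ x, fun x hx => by rw [eigProj_of_mem R hx, if_pos rfl]⟩

theorem trace_eigProj [FiniteDimensional ℂ E] (χ : AddChar A ℂ) :
    LinearMap.trace ℂ E (eigProj R χ) = (finrank ℂ (eigSp R χ) : ℂ) :=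
  (isProj_eigProj R χ).trace

theorem eigProj_mul_eigProj (χ ψ : AddChar A ℂ) [Decidable (χ = ψ)] :
    eigProj R χ * eigProj R ψ = if χ = ψ then eigProj R ψ else 0 := by
  refine LinearMap.ext fun x => ?_
  rw [Module.End.mul_apply, eigProj_of_mem R (eigProj_mem R ψ x)]
  split_ifs <;> rfl

theorem sum_eigProj_eq_one : ∑ χ : AddChar A ℂ, eigProj R χ = 1 :=
  LinearMap.ext fun x => by rw [LinearMap.sum_apply]; exact sum_eigProj R x

theorem eigProj_eq_zero_of_bot {χ : AddChar A ℂ} (h : eigSp R χ = ⊥) : eigProj R χ = 0 :=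
  LinearMap.ext fun x => (Submodule.eq_bot_iff _).1 h _ (eigProj_mem R χ x)

theorem eigProj_mul_of_mem {χ : AddChar A ℂ} {T : Module.End ℂ E}
    (h : ∀ x, T x ∈ eigSp R χ) : eigProj R χ * T = T := by
  classical
  exact LinearMap.ext fun x => by rw [Module.End.mul_apply, eigProj_of_mem R (h x), if_pos rfl]

/-- An operator moving one eigenspace to another has no trace there. -/
theorem trace_mul_eigProj_of_moved [FiniteDimensional ℂ E] {T : Module.End ℂ E}
    {χ ψ : AddChar A ℂ} (hne : χ ≠ ψ) (h : ∀ x ∈ eigSp R χ, T x ∈ eigSp R ψ) :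
    LinearMap.trace ℂ E (T * eigProj R χ) = 0 := by
  classical
  rw [← eigProj_mul_of_mem R (T := T * eigProj R χ) (χ := ψ)
    (fun x => h _ (eigProj_mem R χ x)), ← mul_assoc, LinearMap.trace_mul_comm, ← mul_assoc,
    eigProj_mul_eigProj, if_neg hne, zero_mul, map_zero]

/-- An operator commuting with `R` commutes with the projections. -/
theorem commute_eigProj {T : Module.End ℂ E}
    (h : ∀ a, Commute T (R (Multiplicative.ofAdd a))) (χ : AddChar A ℂ) :
    Commute T (eigProj R χ) :=
  (Commute.sum_right _ _ _ fun a _ => (h a).smul_right (χ (-a))).smul_right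
    ((Fintype.card A : ℂ)⁻¹)

end H19.OM
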