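import Cfsg.Agent.H19.OM.UFix
import Cfsg.Agent.H19.OM.Frame

/-!
# Matrices with a square determinant: torus, adjacent exchanges, the upper unipotent fixed space
-/

set_option autoImplicit false
set_option linter.unusedSectionVars false

namespace H19.OM

open Module Matrix

variable {F : Type*} [Field F] {m : ℕ}

/-- the squares of units -/
abbrev sqU (F : Type*) [Field F] : Subgroup Fˣ := (powMonoidHom 2 : Fˣ →* Fˣ).range

/-- invertible matrices with a square determinant -/
def sqDet (m : ℕ) (F : Type*) [Field F] : Subgroup (GL (Fin m) F) :=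
  (sqU F).comap GeneralLinearGroup.det

/-- diagonals with a square product -/
def sqTor (m : ℕ) (F : Type*) [Field F] : Subgroup (Fin m → Fˣ) where
  carrier := {d | (∏ i, d i) ∈ sqU F}
  mul_mem' {a b} ha hb := by
    show (∏ i, (a * b) i) ∈ sqU F
    simp only [Pi.mul_apply, Finset.prod_mul_distrib]
    exact mul_mem ha hb
  one_mem' := by
    show (∏ i, (1 : Fin m → Fˣ) i) ∈ sqU F
    simp
  inv_mem' {a} ha := by
    show (∏ i, (a⁻¹ : Fin m → Fˣ) i) ∈ sqU F
    simp only [Pi.inv_apply, Finset.prod_inv_distrib]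
    exact inv_mem ha

theorem det_dgGL (d : Fin m → Fˣ) : GeneralLinearGroup.det (dgGL d) = ∏ i, d i :=
  Units.ext (by simp [dgGL, Units.coe_prod])

/-- the torus as matrices -/
def tor (m : ℕ) (F : Type*) [Field F] : sqTor m F →* sqDet m F where
  toFun d := ⟨dgGL d.1, by
    show GeneralLinearGroup.det (dgGL d.1) ∈ sqU F
    rw [det_dgGL]; exact d.2⟩
  map_one' := Subtype.ext (Units.ext (by simp [dgGL]))
  map_mul' a b := Subtype.ext (dgGL_mul a.1 b.1)

/-- the special linear group inside -/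
def slIn (m : ℕ) (F : Type*) [Field F] : SpecialLinearGroup (Fin m) F →* sqDet m F :=
  (SpecialLinearGroup.toGL).codRestrict _ fun g => by
    show GeneralLinearGroup.det (SpecialLinearGroup.toGL g) ∈ sqU F
    have : GeneralLinearGroup.det (SpecialLinearGroup.toGL g) = 1 := Units.ext (by simp)
    rw [this]; exact one_mem _

/-- a transvection -/
def xT {i j : Fin m} (h : i ≠ j) (t : F) : sqDet m F :=
  slIn m F (SpecialLinearGroup.transvection h t)

theorem sqDet_ext {g h : sqDet m F} (H : ∀ x, g.1.1 *ᵥ x = h.1.1 *ᵥ x) : g = h :=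
  Subtype.ext (Units.ext (Matrix.toLin'.injective (LinearMap.ext fun x => by
    rw [toLin'_apply, toLin'_apply, H])))

theorem xT_mulVec {i j : Fin m} (h : i ≠ j) (t : F) (x : Fin m → F) :
    (xT h t).1.1 *ᵥ x = x + Pi.single i (t * x j) := transvection_mulVec i j t x

theorem tor_mulVec (d : sqTor m F) (x : Fin m → F) (a : Fin m) :
    ((tor m F d).1.1 *ᵥ x) a = (d.1 a : F) * x a := mulVec_diagonal _ _ _

theorem mul_mulVec_sq (g h : sqDet m F) (x : Fin m → F) :
    (g * h).1.1 *ᵥ x = g.1.1 *ᵥ (h.1.1 *ᵥ x) := (mulVec_mulVec _ _ _).symm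

theorem xT_add {i j : Fin m} (h : i ≠ j) (s t : F) : xT h (s + t) = xT h s * xT h t := by
  rw [xT, xT, xT, ← map_mul]
  congr 1
  exact Subtype.ext (Matrix.transvection_mul_transvection_same _ _ h _ _).symm

theorem xT_zero {i j : Fin m} (h : i ≠ j) : xT h (0 : F) = 1 := by
  rw [xT, show SpecialLinearGroup.transvection h (0 : F) = 1 from
    Subtype.ext (Matrix.transvection_zero _ _), map_one]

theorem tor_xT (d : sqTor m F) {i j : Fin m} (h : i ≠ j) (t : F) :
    tor m F d * xT h t = xT h ((d.1 i : F) * t * ((d.1 j)⁻¹ : Fˣ)) * tor m F d := by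
  refine sqDet_ext fun x => funext fun a => ?_
  rw [mul_mulVec_sq, mul_mulVec_sq, tor_mulVec, xT_mulVec, xT_mulVec, Pi.add_apply, Pi.add_apply,
    tor_mulVec, tor_mulVec]
  by_cases ha : a = i
  · subst ha
    simp only [Pi.single_eq_same]
    have := (d.1 j).ne_zero
    field_simp
    simp [mul_comm, mul_assoc, mul_left_comm]
  · simp [Pi.single_eq_of_ne ha]

/-- `diag(a, a⁻¹)` at two places -/
def hPair {p q : Fin m} (a : Fˣ) : sqTor m F :=
  ⟨Pi.mulSingle p a * Pi.mulSingle q a⁻¹, by
    show (∏ i, (Pi.mulSingle p a * Pi.mulSingle q a⁻¹ : Fin m → Fˣ) i) ∈ sqU F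
    simp [Finset.prod_mul_distrib]⟩

/-- `diag(a, a)` at two places -/
def aPair {p q : Fin m} (a : Fˣ) : sqTor m F :=
  ⟨Pi.mulSingle p a * Pi.mulSingle q a, by
    show (∏ i, (Pi.mulSingle p a * Pi.mulSingle q a : Fin m → Fˣ) i) ∈ sqU F
    simp only [Pi.mul_apply, Finset.prod_mul_distrib, Fintype.prod_pi_mulSingle']
    exact ⟨a, by simp [sq]⟩⟩

/-- a square at one place -/
def sqOne (p : Fin m) (a : Fˣ) : sqTor m F :=
  ⟨Pi.mulSingle p (a * a), by
    show (∏ i, (Pi.mulSingle p (a * a) : Fin m → Fˣ) i) ∈ sqU F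
    simp only [Fintype.prod_pi_mulSingle']
    exact ⟨a, by simp [sq]⟩⟩

/-- a permuted diagonal -/
def permTor (π : Equiv.Perm (Fin m)) (d : sqTor m F) : sqTor m F :=
  ⟨d.1 ∘ π, by
    show (∏ i, d.1 (π i)) ∈ sqU F
    rw [Equiv.prod_comp π]; exact d.2⟩

/-- the exchange element of two places -/
def wEx {i j : Fin m} (h : i ≠ j) : sqDet m F := xT h 1 * xT h.symm (-1) * xT h 1

theorem wEx_mulVec {i j : Fin m} (h : i ≠ j) (x : Fin m → F) (a : Fin m) :
    ((wEx (F := F) h).1.1 *ᵥ x) a = if a = i then x j else if a = j then -x i else x a := by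
  rw [wEx, mul_mulVec_sq, mul_mulVec_sq, xT_mulVec, xT_mulVec, xT_mulVec]
  by_cases hi : a = i
  · subst hi; simp [Pi.single_eq_of_ne h, Pi.single_eq_of_ne h.symm]
  · by_cases hj : a = j
    · subst hj; simp [Pi.single_eq_of_ne hi, hi]
    · simp [Pi.single_eq_of_ne hi, Pi.single_eq_of_ne hj, hi, hj]

theorem tor_wEx (d : sqTor m F) {i j : Fin m} (h : i ≠ j) :
    tor m F d * wEx h = wEx h * tor m F (permTor (Equiv.swap i j) d) := by
  refine sqDet_ext fun x => funext fun a => ?_
  rw [mul_mulVec_sq, mul_mulVec_sq, tor_mulVec, wEx_mulVec, wEx_mulVec, tor_mulVec, tor_mulVec,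
    tor_mulVec]
  show _ = if a = i then (d.1 (Equiv.swap i j j) : F) * x j
    else if a = j then -((d.1 (Equiv.swap i j i) : F) * x i)
    else (d.1 (Equiv.swap i j a) : F) * x a
  rw [Equiv.swap_apply_left, Equiv.swap_apply_right]
  split_ifs with hi hj
  · rw [hi]
  · rw [hj, mul_neg]
  · rw [Equiv.swap_apply_of_ne_of_ne hi hj]

theorem wEx_sq {i j : Fin m} (h : i ≠ j) :
    wEx h * wEx h = tor m F (hPair (p := i) (q := j) (-1)) := by
  refine sqDet_ext fun x => funext fun a => ?_
  rw [mul_mulVec_sq, tor_mulVec, wEx_mulVec, wEx_mulVec, wEx_mulVec, wEx_mulVec]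
  by_cases hi : a = i
  · subst hi; simp [hPair, h, h.symm]
  · by_cases hj : a = j
    · subst hj; simp [hPair, h, h.symm]
    · simp [hPair, hi, hj]

theorem wEx_xT_wEx {i j : Fin m} (h : i ≠ j) (t : Fˣ) :
    wEx h * xT h (t : F) * wEx h =
      xT h ((-t⁻¹ : Fˣ) : F) * tor m F (hPair (p := i) (q := j) (-t⁻¹)) * wEx h *
        xT h ((-t⁻¹ : Fˣ) : F) := by
  refine sqDet_ext fun x => funext fun a => ?_
  have ht := t.ne_zero
  simp only [mul_mulVec_sq, xT_mulVec, wEx_mulVec, tor_mulVec, Pi.add_apply]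
  by_cases hi : a = i
  · subst hi
    simp [hPair, h, h.symm]
  · by_cases hj : a = j
    · subst hj
      simp [hPair, h, h.symm]
      field_simp
      ring
    · simp [hPair, hi, hj]

theorem wEx_single {i j : Fin m} (h : i ≠ j) (a : Fin m) (r : F) :
    (wEx (F := F) h).1.1 *ᵥ Pi.single a r =
      Pi.single (Equiv.swap i j a) (if a = i then -r else r) := by
  funext c
  rw [wEx_mulVec]
  by_cases ai : a = i
  · subst ai
    rw [Equiv.swap_apply_left, if_pos rfl]
    by_cases ci : c = a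
    · subst ci; simp [h]
    · by_cases cj : c = j
      · subst cj; simp [h.symm]
      · simp [ci, cj]
  · rw [if_neg ai]
    by_cases aj : a = j
    · subst aj
      rw [Equiv.swap_apply_right]
      by_cases ci : c = i
      · subst ci; simp
      · by_cases cj : c = a
        · subst cj; simp [ci, h]
        · simp [ci, cj]
    · rw [Equiv.swap_apply_of_ne_of_ne ai aj]
      by_cases ci : c = i
      · subst ci; simp [Pi.single_eq_of_ne (Ne.symm aj), Pi.single_eq_of_ne (Ne.symm ai)]
      · by_cases cj : c = j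
        · subst cj; simp [ci, Pi.single_eq_of_ne (Ne.symm ai), Pi.single_eq_of_ne (Ne.symm aj)]
        · simp [ci, cj]

theorem wEx_at_swap {i j : Fin m} (h : i ≠ j) (x : Fin m → F) (b : Fin m) :
    ((wEx (F := F) h).1.1 *ᵥ x) (Equiv.swap i j b) = if b = i then -x b else x b := by
  rw [wEx_mulVec]
  by_cases bi : b = i
  · subst bi; simp [h.symm]
  · by_cases bj : b = j
    · subst bj; simp [bi]
    · rw [Equiv.swap_apply_of_ne_of_ne bi bj]; simp [bi, bj]

theorem wEx_xT {i j a b : Fin m} (h : i ≠ j) (hab : a ≠ b) (t : F) :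
    ∃ s : F, wEx h * xT hab t =
      xT (i := Equiv.swap i j a) (j := Equiv.swap i j b)
        (fun e => hab ((Equiv.swap i j).injective e)) s * wEx h := by
  refine ⟨(if a = i then -1 else 1) * (if b = i then -1 else 1) * t, sqDet_ext fun x => ?_⟩
  rw [mul_mulVec_sq, mul_mulVec_sq, xT_mulVec, xT_mulVec, mulVec_add, wEx_single, wEx_at_swap]
  congr 2
  split_ifs <;> ring

/-- moving an upper transvection past an adjacent one -/
theorem xT_past {i j a b : Fin m} (h : i ≠ j) (hab : a < b) (hij : i < j)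
    (hadj : ∀ c, ¬ (i < c ∧ c < j)) (s t : F) :
    ∃ g : sqDet m F, xT (ne_of_lt hab) s * xT h t = xT h t * g ∧
      (g = xT (ne_of_lt hab) s ∨
        (∃ (e : Fin m) (he : a < e) (r : F), ¬ (a = i ∧ e = j) ∧
            g = xT (ne_of_lt hab) s * xT (ne_of_lt he) r) ∨
        (∃ (e : Fin m) (he : e < b) (r : F), ¬ (e = i ∧ b = j) ∧
            g = xT (ne_of_lt hab) s * xT (ne_of_lt he) r)) := by
  by_cases hb : b = i
  · subst hb
    have haj : a < j := lt_trans hab hij
    refine ⟨_, ?_, Or.inr (Or.inl ⟨j, haj, s * t, fun e => (ne_of_lt hab) e.1, rfl⟩)⟩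
    refine sqDet_ext fun x => funext fun c => ?_
    simp only [mul_mulVec_sq, xT_mulVec, Pi.add_apply, Pi.single_apply]
    have h1 : a ≠ b := ne_of_lt hab
    have h2 : a ≠ j := ne_of_lt haj
    by_cases c1 : c = a <;> by_cases c2 : c = b <;> simp_all [eq_comm] <;> ring
  · by_cases ha : a = j
    · subst ha
      have hib : i < b := lt_trans hij hab
      refine ⟨_, ?_, Or.inr (Or.inr ⟨i, hib, -(t * s), fun e => (ne_of_lt hab) e.2.symm, rfl⟩)⟩
      refine sqDet_ext fun x => funext fun c => ?_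
      simp only [mul_mulVec_sq, xT_mulVec, Pi.add_apply, Pi.single_apply]
      have h1 : a ≠ b := ne_of_lt hab
      have h2 : i ≠ b := ne_of_lt hib
      by_cases c1 : c = i <;> by_cases c2 : c = a <;> simp_all [eq_comm] <;> ring
    · refine ⟨_, ?_, Or.inl rfl⟩
      refine sqDet_ext fun x => funext fun c => ?_
      simp only [mul_mulVec_sq, xT_mulVec, Pi.add_apply, Pi.single_apply]
      by_cases c1 : c = i <;> by_cases c2 : c = a <;> simp_all [eq_comm] <;> ring

end H19.OM
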