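import Cfsg.Agent.H19.OM.NSide
import Cfsg.Agent.H40.StarStep

/-!
# The arguments that use a torus element (`q > 3`)
-/

set_option autoImplicit false
set_option linter.unusedSectionVars false

namespace H19.OM

open Module Matrix H50.LS
open H43 (polB)

variable {F : Type*} [Field F] [Fintype F] [DecidableEq F] {k δ : ℕ}
variable {Q0 : QuadraticForm F (Fin δ → F)}
variable {V : Type*} [AddCommGroup V] [Module ℂ V] [FiniteDimensional ℂ V]
variable (ρ : GG (k + 3) Q0 →* Module.End ℂ V)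

theorem exists_sq_ne_one (hq : 3 < Fintype.card F) : ∃ a : Fˣ, (a : F) * a ≠ 1 := by
  obtain ⟨s, hs⟩ := H40.MinDeg.exists_pow_ne_one (F := F) (k := 2)
    fun h => by have := Nat.le_of_dvd (by omega) h; omega
  exact ⟨s, fun h => hs (Units.ext (by rw [sq, Units.val_mul, h, Units.val_one]))⟩

theorem gY_zero : gY (Q0 := Q0) (k := k) (0 : F) = 1 := by
  unfold gY
  rw [show SpecialLinearGroup.transvection (one_ne_zero' (k := k)) (0 : F) = 1 from
    Subtype.ext (Matrix.transvection_zero _ _), map_one]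

theorem gY_add (s t : F) : gY (Q0 := Q0) (k := k) (s + t) = gY s * gY t := by
  unfold gY
  rw [← map_mul]
  congr 1
  exact Subtype.ext (Matrix.transvection_mul_transvection_same _ _ one_ne_zero' _ _).symm

theorem rho_gY_add (s t : F) (x : V) : ρ (gY (s + t)) x = ρ (gY s) (ρ (gY t) x) := by
  rw [gY_add, map_mul, Module.End.mul_apply]

theorem rho_inv_apply (g : GG (k + 3) Q0) (x : V) : ρ g⁻¹ (ρ g x) = x := by
  rw [← Module.End.mul_apply, rho_inv_mul, Module.End.one_apply]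

theorem tv_mulVec_single_zero (t c : F) :
    (tvG (one_ne_zero' (k := k)) t).1 *ᵥ Pi.single 0 c = Pi.single 0 c := by
  rw [tvG_val, transvection_mulVec, Pi.single_eq_of_ne (one_ne_zero' (k := k)).symm, mul_zero,
    Pi.single_zero, add_zero]

theorem gY_gu (t : F) (s : Fin (k + 3) → F) (w : Fin δ → F) :
    gY (Q0 := Q0) t * gu Q0 s w = gu Q0 (s + Pi.single 0 (t * s 1)) w * gY t := by
  rw [(isLev_gY t).mul_gu, tvG_val, transvection_mulVec]

theorem gY_gu_zero (t : F) (w : Fin δ → F) (c : F) :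
    gY (Q0 := Q0) (k := k) t * gu Q0 (Pi.single 0 c) w = gu Q0 (Pi.single 0 c) w * gY t := by
  rw [(isLev_gY t).mul_gu, tv_mulVec_single_zero]

/-- the square torus element at the first coordinate -/
theorem gd_gY (a : Fˣ) (t : F) :
    gd Q0 (0 : Fin (k + 3)) a * gY t = gY ((a : F) * a * t) * gd Q0 0 a := by
  apply Subtype.ext
  rw [Subgroup.coe_mul, Subgroup.coe_mul, isLev_gY, isLev_gY, isLev_gd, ← map_mul, ← map_mul]
  congr 1
  apply Units.ext
  simp only [Units.val_mul, tvG_val, dgGL]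
  ext i j
  rw [Matrix.diagonal_mul, Matrix.mul_diagonal, Matrix.transvection, Matrix.transvection,
    Matrix.add_apply, Matrix.add_apply, Matrix.one_apply, Matrix.single_apply, Matrix.single_apply]
  by_cases hij : i = j
  · subst hij
    rw [if_pos rfl, if_neg fun h => one_ne_zero' (h.1.trans h.2.symm),
      if_neg fun h => one_ne_zero' (h.1.trans h.2.symm)]
    simp [mul_comm]
  · rw [if_neg hij]
    by_cases h : (0 : Fin (k + 3)) = i ∧ (1 : Fin (k + 3)) = j
    · obtain ⟨rfl, rfl⟩ := h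
      rw [if_pos ⟨rfl, rfl⟩, if_pos ⟨rfl, rfl⟩, Pi.mulSingle_eq_same,
        Pi.mulSingle_eq_of_ne (one_ne_zero' (k := k)).symm]
      simp
    · rw [if_neg h, if_neg h]; simp

theorem gd_mem_Vw (a : Fˣ) {ω : Alt (k + 3) F} (h0 : ω.1 0 = 0) {x : V} (hx : x ∈ Vw ρ ω) :
    ρ (gd Q0 0 a) x ∈ Vw ρ ω := by
  refine mem_Vw_iff_cong ρ (isLev_gd Q0 0 a) (Alt.ext fun i j => ?_) hx
  simp only [dgGL, Units.inv_mk, diagonal_transpose, cong_val]
  rw [Matrix.mul_diagonal, Matrix.diagonal_mul]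
  by_cases hi : i = 0
  · subst hi; simp [h0]
  · by_cases hj : j = 0
    · subst hj; simp [Alt.sk ω 0 i, h0]
    · simp [Pi.mulSingle_eq_of_ne hi, Pi.mulSingle_eq_of_ne hj]

theorem gd_gu_zero (a : Fˣ) (w : Fin δ → F) :
    gd Q0 (0 : Fin (k + 3)) a * gu Q0 (Pi.single 0 1) w =
      gu Q0 (Pi.single 0 1) (((a : F) * a) • w) * gd Q0 0 a := by
  rw [(isLev_gd Q0 0 a).mul_gu, ← gu_smul]
  congr 2
  funext j
  simp only [dgGL, mulVec_diagonal, Pi.smul_apply, smul_eq_mul]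
  by_cases hj : j = 0
  · subst hj; simp
  · simp [Pi.single_eq_of_ne hj]

theorem gu_commute_of_row {ω : Alt (k + 3) F} (h0 : ω.1 0 = 0) {x : V} (hx : x ∈ Vw ρ ω)
    (c : F) (s : Fin (k + 3) → F) (w w' : Fin δ → F) :
    ρ (gu Q0 (Pi.single 0 c) w) (ρ (gu Q0 s w') x) =
      ρ (gu Q0 s w') (ρ (gu Q0 (Pi.single 0 c) w) x) := by
  rw [gu_comm_apply ρ hx, ev_eq_zero_of_row h0, mul_zero, AddChar.map_zero_eq_one, one_smul]

variable (hQ0 : (polB Q0).Nondegenerate)

include hQ0 in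
/-- the translations along a radical vector act trivially -/
theorem gu_zero_trivial (hq : 3 < Fintype.card F) {ω : Alt (k + 3) F} (hω : ω ≠ 0)
    (h0 : ω.1 0 = 0) (hd : eV ρ ω = Fintype.card F ^ δ) (c : F) (w : Fin δ → F) :
    ∀ x ∈ Vw ρ ω, ρ (gu Q0 (Pi.single 0 c) w) x = x := by
  obtain ⟨a, ha⟩ := exists_sq_ne_one hq
  have hsc : ∀ w, ∃ lam : ℂ, ∀ x ∈ Vw ρ ω, ρ (gu Q0 (Pi.single 0 1) w) x = lam • x := fun w =>
    scalar_of_commute ρ hQ0 hd (fun x hx => gu_mem ρ hx _ _) hω fun i c' w' x hx =>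
      gu_commute_of_row ρ h0 hx 1 _ w w'
  choose lam hlam using hsc
  set e := ((a : F) * a - 1)
  have he : e ≠ 0 := sub_ne_zero.2 ha
  have key : ∀ w, ∀ x ∈ Vw ρ ω, ρ (gu Q0 (Pi.single 0 1) (e • w)) x = x := by
    intro w x hx
    have h1 : ρ (gd Q0 0 a) (ρ (gu Q0 (Pi.single 0 1) w) x) =
        ρ (gu Q0 (Pi.single 0 1) (((a : F) * a) • w)) (ρ (gd Q0 0 a) x) := by
      rw [← Module.End.mul_apply, ← map_mul, gd_gu_zero, map_mul, Module.End.mul_apply]
    rw [hlam w x hx, map_smul, show ((a : F) * a) • w = e • w + w by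
      rw [sub_smul, one_smul, sub_add_cancel], gu_add_right, map_mul, Module.End.mul_apply,
      hlam w _ (gd_mem_Vw ρ a h0 hx), map_smul] at h1
    have hne : lam w ≠ 0 := by
      intro hl
      have hne : Vw ρ ω ≠ ⊥ := fun hb => by
        rw [eV, hb, finrank_bot] at hd
        exact pow_ne_zero _ Fintype.card_ne_zero hd.symm
      obtain ⟨y, hy, hy0⟩ := Submodule.exists_mem_ne_zero_of_ne_bot hne
      have := congrArg (ρ (gu Q0 (Pi.single 0 1) w)⁻¹) (hlam w y hy)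
      rw [hl, zero_smul, map_zero, ← Module.End.mul_apply, rho_inv_mul,
        Module.End.one_apply] at this
      exact hy0 this
    have h2 := smul_right_injective V hne h1
    have h3 : ρ (gd Q0 0 a) x ∈ Vw ρ ω := gd_mem_Vw ρ a h0 hx
    have h4 : ρ (gd Q0 0 a) x = lam (e • w) • ρ (gd Q0 0 a) x := by rw [← hlam _ _ h3]; exact h2
    rw [hlam _ x hx]
    have h5 := congrArg (ρ (gd Q0 0 a)⁻¹) h4
    rw [map_smul, ← Module.End.mul_apply, rho_inv_mul, Module.End.one_apply] at h5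
    exact h5.symm
  intro x hx
  rw [show gu Q0 (Pi.single 0 c : Fin (k + 3) → F) w =
    gu Q0 (Pi.single 0 1) (e • (e⁻¹ • (c • w))) from by
      rw [smul_inv_smul₀ he, ← gu_smul, ← Pi.single_smul, smul_eq_mul, mul_one]]
  exact key _ x hx

include hQ0 in
/-- the Levi root group fixes the eigenspaces whose first row vanishes -/
theorem gY_trivial (hq : 3 < Fintype.card F) {ω : Alt (k + 3) F} (hω : ω ≠ 0) (h0 : ω.1 0 = 0)
    (hd : eV ρ ω = Fintype.card F ^ δ) : ∀ t, ∀ x ∈ Vw ρ ω, ρ (gY t) x = x := by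
  obtain ⟨a, ha⟩ := exists_sq_ne_one hq
  have hfix : YFix ω := fun b _ => by rw [h0]; rfl
  have hsc : ∀ t, ∃ lam : ℂ, ∀ x ∈ Vw ρ ω, ρ (gY t) x = lam • x := fun t =>
    scalar_of_commute ρ hQ0 hd (fun x hx => gY_mem_Vw ρ hfix t hx) hω fun i c w x hx => by
      set s : Fin (k + 3) → F := Pi.single i c
      set s0 : Fin (k + 3) → F := Pi.single 0 (t * s 1)
      have hy : ρ (gY t) x ∈ Vw ρ ω := gY_mem_Vw ρ hfix t hx
      rw [← Module.End.mul_apply, ← map_mul, gY_gu, map_mul, Module.End.mul_apply]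
      show ρ (gu Q0 (s + s0) w) _ = _
      have h := LinearMap.congr_fun (congrArg ρ (gu_add_left Q0 s s0 w)) (ρ (gY t) x)
      rw [map_mul, map_mul, Module.End.mul_apply, Module.End.mul_apply,
        gu_zero_trivial ρ hQ0 hq hω h0 hd _ _ _ hy, gz_apply ρ (gu_mem ρ hy _ _), chr_wedge,
        ← ev, ev_smul_left, ev_swap, ev_eq_zero_of_row h0, neg_zero, mul_zero,
        AddChar.map_zero_eq_one, one_smul] at h
      exact h.symm
  choose lam hlam using hsc
  intro t x hx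
  set e := ((a : F) * a - 1)
  have he : e ≠ 0 := sub_ne_zero.2 ha
  obtain ⟨u, rfl⟩ : ∃ u, e * u = t := ⟨t / e, by field_simp⟩
  have h3 : ρ (gd Q0 0 a) x ∈ Vw ρ ω := gd_mem_Vw ρ a h0 hx
  have h1 : ρ (gd Q0 0 a) (ρ (gY u) x) =
      ρ (gY (e * u)) (ρ (gY u) (ρ (gd Q0 0 a) x)) := by
    rw [← rho_gY_add, show e * u + u = (a : F) * a * u by ring, ← Module.End.mul_apply, ← map_mul,
      gd_gY, map_mul, Module.End.mul_apply]
  rw [hlam u x hx, map_smul, ← hlam u _ h3, hlam (e * u) _ (gY_mem_Vw ρ hfix u h3)] at h1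
  have h2 := congrArg (ρ (gd Q0 0 a)⁻¹) (congrArg (ρ (gY u)⁻¹) h1)
  simp only [map_smul, rho_inv_apply] at h2
  rw [hlam _ x hx]
  exact h2.symm

/-- the diagonal element `diag(a, a⁻¹, 1, …)` -/
def dSL (a : Fˣ) : SpecialLinearGroup (Fin (k + 3)) F :=
  ⟨diagonal fun i => ((Pi.mulSingle 0 a * Pi.mulSingle 1 a⁻¹ : Fin (k + 3) → Fˣ) i : F), by
    rw [det_diagonal, ← Units.coe_prod]
    simp [Finset.prod_mul_distrib]⟩

theorem toGL_dSL (a : Fˣ) : SpecialLinearGroup.toGL (dSL (k := k) a) =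
    dgGL (Pi.mulSingle 0 a * Pi.mulSingle 1 a⁻¹) := Units.ext rfl

theorem gl_dSL_gY (a : Fˣ) (t : F) :
    gl Q0 (dSL (k := k) a) * gY t = gY ((a : F) * a * t) * gl Q0 (dSL a) := by
  unfold gY
  rw [← map_mul, ← map_mul]
  congr 1
  apply Subtype.ext
  show diagonal _ * Matrix.transvection 0 1 t = Matrix.transvection 0 1 _ * diagonal _
  ext i j
  rw [Matrix.diagonal_mul, Matrix.mul_diagonal, Matrix.transvection, Matrix.transvection,
    Matrix.add_apply, Matrix.add_apply, Matrix.one_apply, Matrix.single_apply, Matrix.single_apply]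
  by_cases hij : i = j
  · subst hij
    rw [if_pos rfl, if_neg fun h => one_ne_zero' (h.1.trans h.2.symm),
      if_neg fun h => one_ne_zero' (h.1.trans h.2.symm)]
    simp [mul_comm]
  · rw [if_neg hij]
    by_cases h : (0 : Fin (k + 3)) = i ∧ (1 : Fin (k + 3)) = j
    · obtain ⟨rfl, rfl⟩ := h
      rw [if_pos ⟨rfl, rfl⟩, if_pos ⟨rfl, rfl⟩, Pi.mul_apply, Pi.mul_apply,
        Pi.mulSingle_eq_same, Pi.mulSingle_eq_same, Pi.mulSingle_eq_of_ne one_ne_zero',
        Pi.mulSingle_eq_of_ne (one_ne_zero' (k := k)).symm, one_mul, mul_one,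
        Units.val_inv_eq_inv_val]
      field_simp
      ring
    · rw [if_neg h, if_neg h]; simp

theorem gl_dSL_mem_E01 (a : Fˣ) {x : V} (hx : x ∈ Vw ρ (E01 k F)) :
    ρ (gl Q0 (dSL a)) x ∈ Vw ρ (E01 k F) := by
  refine mem_Vw_iff_cong ρ (isLev_gl Q0 _) ?_ hx
  rw [toGL_dSL, E01, cong_wedge]
  simp only [dgGL, Units.inv_mk, diagonal_transpose, mulVec_single_one]
  refine Alt.ext fun i j => ?_
  simp only [wedge_apply, Matrix.col_apply, Matrix.diagonal_apply, Pi.single_apply]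
  by_cases hi : i = 0 <;> by_cases hi1 : i = 1 <;> by_cases hj : j = 0 <;>
    by_cases hj1 : j = 1 <;> simp_all [one_ne_zero']

theorem gl_dSL_gu (a : Fˣ) (w : Fin δ → F) :
    gl Q0 (dSL (k := k) a) * gu Q0 (Pi.single 0 1) w =
      gu Q0 (Pi.single 0 1) ((a : F) • w) * gl Q0 (dSL a) := by
  rw [(isLev_gl Q0 _).mul_gu, toGL_dSL, ← gu_smul]
  congr 2
  funext j
  simp only [dgGL, mulVec_diagonal, Pi.smul_apply, smul_eq_mul, Pi.mul_apply]
  by_cases hj : j = 0
  · subst hj; simp [one_ne_zero']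
  · simp [Pi.single_eq_of_ne hj]

include hQ0 in
/-- one vector of the standard eigenspace is fixed by the Levi root group -/
theorem exists_fixed_E01 (hq : 3 < Fintype.card F)
    (hd : eV ρ (E01 k F) = Fintype.card F ^ δ) :
    ∃ x ∈ Vw ρ (E01 k F), x ≠ 0 ∧ ∀ t, ρ (gY t) x = x := by
  obtain ⟨a, ha⟩ := exists_sq_ne_one hq
  have hst : ev (E01 k F) (Pi.single 0 1) (Pi.single 1 1) = 1 := by
    rw [ev_single, E01_row0]; simp
  have hfin := finrank_eq_uFix ρ hQ0 (le_refl (Vw ρ (E01 k F))) hst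
    (fun w _ hx => gu_mem ρ hx _ w) (fun w _ hx => gu_mem ρ hx _ w)
  have h1 : finrank ℂ (uFix ρ (Vw ρ (E01 k F)) (Pi.single 0 1)) = 1 := by
    rw [eV] at hd
    rw [hd] at hfin
    exact (Nat.mul_eq_left (pow_ne_zero _ Fintype.card_ne_zero)).1 hfin.symm
  obtain ⟨⟨v, hv⟩, hv0, hspan⟩ := finrank_eq_one_iff'.1 h1
  have hv' : v ≠ 0 := fun h => hv0 (Subtype.ext h)
  have hfix : YFix (E01 k F) := fun b hb => by rw [E01_row0, Pi.single_eq_of_ne hb]
  have hY : ∀ t, ∃ lam : ℂ, ρ (gY t) v = lam • v := fun t => by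
    obtain ⟨lam, hlam⟩ := hspan ⟨ρ (gY t) v, gY_mem_Vw ρ hfix t hv.1, fun w => by
      rw [← Module.End.mul_apply, ← map_mul, ← gY_gu_zero, map_mul, Module.End.mul_apply,
        hv.2 w]⟩
    exact ⟨lam, (congrArg Subtype.val hlam).symm⟩
  have hD : ∃ mu : ℂ, ρ (gl Q0 (dSL a)) v = mu • v := by
    obtain ⟨mu, hmu⟩ := hspan ⟨ρ (gl Q0 (dSL a)) v, gl_dSL_mem_E01 ρ a hv.1, fun w => by
      have h : gu Q0 (Pi.single 0 1) w * gl Q0 (dSL (k := k) a) =
          gl Q0 (dSL a) * gu Q0 (Pi.single 0 1) ((a : F)⁻¹ • w) := by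
        rw [gl_dSL_gu, smul_inv_smul₀ (Units.ne_zero a)]
      rw [← Module.End.mul_apply, ← map_mul, h, map_mul, Module.End.mul_apply, hv.2]⟩
    exact ⟨mu, (congrArg Subtype.val hmu).symm⟩
  choose lam hlam using hY
  obtain ⟨mu, hmu⟩ := hD
  refine ⟨v, hv.1, hv', fun t => ?_⟩
  set e := ((a : F) * a - 1)
  have he : e ≠ 0 := sub_ne_zero.2 ha
  obtain ⟨u, rfl⟩ : ∃ u, e * u = t := ⟨t / e, by field_simp⟩
  have h1 : ρ (gl Q0 (dSL a)) (ρ (gY u) v) =
      ρ (gY (e * u)) (ρ (gY u) (ρ (gl Q0 (dSL a)) v)) := by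
    rw [← rho_gY_add, show e * u + u = (a : F) * a * u by ring, ← Module.End.mul_apply, ← map_mul,
      gl_dSL_gY, map_mul, Module.End.mul_apply]
  rw [hlam u, map_smul, hmu, map_smul, hlam u, map_smul, map_smul, smul_smul, smul_smul,
    mul_comm mu] at h1
  have hne : ∀ (g : GG (k + 3) Q0) (c : ℂ), ρ g v = c • v → c ≠ 0 := by
    intro g c hg hc
    have := congrArg (ρ g⁻¹) hg
    rw [hc, zero_smul, map_zero, ← Module.End.mul_apply, rho_inv_mul, Module.End.one_apply] at this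
    exact hv' this
  exact (smul_right_injective V (mul_ne_zero (hne _ _ (hlam u)) (hne _ _ hmu)) h1).symm

end H19.OM
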