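import Cfsg.Agent.H19.OM.Constituent

/-!
# The vectors fixed by the upper unipotent group when every translation character occurs once
-/

set_option autoImplicit false
set_option linter.unusedSectionVars false

namespace H19.OM

open Module Matrix
open H40.MinDeg
open H40 (leviSL translSL levi transl)

universe v

variable {F : Type*} [Field F] [Fintype F] [DecidableEq F]
variable {V : Type v} [AddCommGroup V] [Module ℂ V] [FiniteDimensional ℂ V]

/-- the vectors fixed by all upper transvections -/
noncomputable def upFix {n : ℕ} (ρ : Representation ℂ (SpecialLinearGroup (Fin n) F) V) :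
    Submodule ℂ V where
  carrier := {v | ∀ (i j : Fin n) (h : i < j) (t : F),
    ρ (SpecialLinearGroup.transvection (ne_of_lt h) t) v = v}
  add_mem' {x y} hx hy i j h t := by rw [map_add, hx i j h t, hy i j h t]
  zero_mem' i j h t := map_zero _
  smul_mem' c x hx i j h t := by rw [map_smul, hx i j h t]

theorem mem_upFix {n : ℕ} {ρ : Representation ℂ (SpecialLinearGroup (Fin n) F) V} {v : V} :
    v ∈ upFix ρ ↔ ∀ (i j : Fin n) (h : i < j) (t : F),
      ρ (SpecialLinearGroup.transvection (ne_of_lt h) t) v = v := Iff.rfl

theorem translSL_single {m : ℕ} (j : Fin m) (t : F) :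
    translSL (Pi.single j t) =
      SpecialLinearGroup.transvection (ne_of_lt (Fin.succ_pos j)) t := by
  apply Subtype.ext
  show transl _ = Matrix.transvection 0 j.succ t
  ext a b
  refine Fin.cases ?_ (fun a => ?_) a <;> refine Fin.cases ?_ (fun b => ?_) b <;>
    simp [transl, Matrix.transvection, Matrix.single_apply, Pi.single_apply, Matrix.one_apply,
      Fin.succ_ne_zero, (Fin.succ_ne_zero _).symm, eq_comm]

theorem leviSL_transvection {m : ℕ} {i j : Fin m} (h : i ≠ j) (t : F) :
    leviSL (SpecialLinearGroup.transvection h t) =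
      SpecialLinearGroup.transvection (i := i.succ) (j := j.succ)
        (fun e => h (Fin.succ_injective _ e)) t := by
  apply Subtype.ext
  show levi (Matrix.transvection i j t) = Matrix.transvection i.succ j.succ t
  ext a b
  refine Fin.cases ?_ (fun a => ?_) a <;> refine Fin.cases ?_ (fun b => ?_) b <;>
    simp [levi, Matrix.transvection, Matrix.single_apply, Matrix.one_apply, Fin.succ_ne_zero,
      (Fin.succ_ne_zero _).symm]

theorem proj_zero_of_fixed {m : ℕ} (ρ : Representation ℂ (SpecialLinearGroup (Fin (m + 1)) F) V)
    {v : V} (h : ∀ z, ρ (translSL z) v = v) : proj ρ 0 v = v := by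
  have hz : ∀ z : Fin m → F, psi F (-(z ⬝ᵥ 0)) • ρ (translSL z) v = v := fun z => by
    rw [h, dotProduct_zero, neg_zero, AddChar.map_zero_eq_one, one_smul]
  simp only [proj, LinearMap.smul_apply, LinearMap.sum_apply, hz, Finset.sum_const,
    Finset.card_univ, Fintype.card_fun, Fintype.card_fin]
  rw [← Nat.cast_smul_eq_nsmul ℂ, smul_smul, Nat.cast_pow, inv_mul_cancel₀ card_pow_ne_zero,
    one_smul]

theorem fixed_of_proj_zero {m : ℕ} (ρ : Representation ℂ (SpecialLinearGroup (Fin (m + 1)) F) V)
    {v : V} (h : proj ρ 0 v = v) (z : Fin m → F) : ρ (translSL z) v = v := by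
  have h1 := LinearMap.congr_fun (transl_mul_proj ρ z 0) v
  rwa [Module.End.mul_apply, h, LinearMap.smul_apply, h, dotProduct_zero,
    AddChar.map_zero_eq_one, one_smul] at h1

theorem transl_fixed_of_upFix {m : ℕ}
    (ρ : Representation ℂ (SpecialLinearGroup (Fin (m + 1)) F) V) {v : V} (hv : v ∈ upFix ρ)
    (z : Fin m → F) : ρ (translSL z) v = v := by
  rw [← Finset.univ_sum_single z]
  induction (Finset.univ : Finset (Fin m)) using Finset.induction_on with
  | empty => rw [Finset.sum_empty, translSL_zero, map_one, Module.End.one_apply]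
  | insert a t ha ih =>
    rw [Finset.sum_insert ha, H40.translSL_add, map_mul, Module.End.mul_apply, ih, translSL_single]
    exact hv _ _ (Fin.succ_pos a) _

/-- The step to the Levi complement. -/
theorem finrank_upFix_succ {l : ℕ} [NeZero l]
    (ρ : Representation ℂ (SpecialLinearGroup (Fin (l + 1 + 1)) F) V) :
    finrank ℂ (upFix ρ) = finrank ℂ (upFix (levRep ρ)) := by
  refine le_antisymm ?_ ?_
  · let f : upFix ρ →ₗ[ℂ] upFix (levRep ρ) :=
      { toFun := fun v => ⟨⟨v.1, v.1, proj_zero_of_fixed ρ (transl_fixed_of_upFix ρ v.2)⟩,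
          fun i j h t => Subtype.ext (by
            show ρ (leviSL _) v.1 = v.1
            rw [leviSL_transvection]
            exact v.2 _ _ (Fin.succ_lt_succ_iff.2 h) t)⟩
        map_add' := fun a b => rfl
        map_smul' := fun c a => rfl }
    refine LinearMap.finrank_le_finrank_of_injective (f := f) fun a b h => ?_
    exact Subtype.ext (congrArg (fun x : upFix (levRep ρ) => x.1.1) h)
  · let f : upFix (levRep ρ) →ₗ[ℂ] upFix ρ :=
      { toFun := fun v => ⟨v.1.1, fun i j h t => by
          obtain ⟨y, hy⟩ := v.1.2
          have hp : proj ρ 0 v.1.1 = v.1.1 := by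
            rw [← hy, ← Module.End.mul_apply, proj_mul_proj, if_pos rfl]
          induction i using Fin.cases with
          | zero =>
            induction j using Fin.cases with
            | zero => exact absurd h (lt_irrefl _)
            | succ j => rw [← translSL_single]; exact fixed_of_proj_zero ρ hp _
          | succ i =>
            induction j using Fin.cases with
            | zero => exact absurd h (Fin.not_lt_zero _)
            | succ j =>
              rw [← leviSL_transvection (ne_of_lt (Fin.succ_lt_succ_iff.1 h)) t]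
              exact congrArg Subtype.val (v.2 i j (Fin.succ_lt_succ_iff.1 h) t)⟩
        map_add' := fun a b => rfl
        map_smul' := fun c a => rfl }
    refine LinearMap.finrank_le_finrank_of_injective (f := f) fun a b h => ?_
    exact Subtype.ext (Subtype.ext (congrArg (fun x : upFix ρ => x.1) h))

theorem finrank_upFix_two (ρ : Representation ℂ (SpecialLinearGroup (Fin (1 + 1)) F) V) :
    finrank ℂ (upFix ρ) = cdim ρ := by
  refine le_antisymm ?_ ?_
  · exact Submodule.finrank_mono fun v hv => ⟨v, proj_zero_of_fixed ρ (transl_fixed_of_upFix ρ hv)⟩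
  · refine Submodule.finrank_mono ?_
    rintro v ⟨y, rfl⟩ i j h t
    have h1 : i = 0 ∧ j = Fin.succ 0 := by
      fin_cases i <;> fin_cases j <;> simp_all
    obtain ⟨rfl, rfl⟩ := h1
    rw [← translSL_single]
    exact fixed_of_proj_zero ρ (by rw [← Module.End.mul_apply, proj_mul_proj, if_pos rfl]) _

/-- The dimension of the fixed space of the upper unipotent group. -/
theorem finrank_upFix_eq (hq : 3 < Fintype.card F) (hodd : Odd (Fintype.card F)) :
    ∀ (l : ℕ) (V : Type v) [AddCommGroup V] [Module ℂ V] [FiniteDimensional ℂ V]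
      (ρ : Representation ℂ (SpecialLinearGroup (Fin (l + 1 + 1)) F) V),
      ConstOnTransl ρ → mult₁ ρ = 1 →
      finrank ℂ (upFix ρ) + ∑ j ∈ Finset.range (l + 1), (Fintype.card F ^ (j + 1) - 1) =
        finrank ℂ V := by
  intro l
  induction l with
  | zero =>
    intro V _ _ _ ρ hc hm
    rw [finrank_upFix_two, finrank_eq ρ hc, hm, mul_one, Finset.sum_range_one]
  | succ l ih =>
    intro V _ _ _ ρ hc hm
    have hgood : Good F (l + 1) := by
      constructor <;> intro _ <;> refine ⟨by omega, ?_⟩
      · intro h4; rw [h4] at hodd; exact (Nat.not_odd_iff_even.2 ⟨2, rfl⟩) hodd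
      · omega
    obtain ⟨hc', hm', hcd⟩ := levRep_spec ρ hgood hm
    have h := ih _ (levRep ρ) hc' hm'
    rw [finrank_upFix_succ ρ, finrank_eq ρ hc, hm, mul_one, Finset.sum_range_succ, ← add_assoc, h]
    rfl

end H19.OM
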