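import Cfsg.Agent.H19.OM.SquareGL

/-!
# Weights on the vectors fixed by the upper unipotent group
-/

set_option autoImplicit false
set_option linter.unusedSectionVars false

namespace H19.OM

open Module Matrix
open H40.MinDeg
open H40 (leviSL translSL)

variable {F : Type*} [Field F] [Fintype F] [DecidableEq F] {k : ℕ}
variable {W : Type*} [AddCommGroup W] [Module ℂ W] [FiniteDimensional ℂ W]
variable (σ : Representation ℂ (sqDet (k + 3) F) W)

/-- the restriction to the special linear group -/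
noncomputable abbrev slPart : Representation ℂ (SpecialLinearGroup (Fin (k + 2 + 1)) F) W :=
  σ.comp (slIn (k + 3) F)

theorem comp_apply (g : SpecialLinearGroup (Fin (k + 2 + 1)) F) :
    slPart σ g = σ (slIn (k + 3) F g) := rfl

theorem rep_mul_apply {G : Type*} [Group G] (τ : Representation ℂ G W) (g h : G) (v : W) :
    τ (g * h) v = τ g (τ h v) := by rw [map_mul, Module.End.mul_apply]

theorem rep_inv_apply {G : Type*} [Group G] (τ : Representation ℂ G W) (g : G) (v : W) :
    τ g⁻¹ (τ g v) = v := by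
  rw [← rep_mul_apply, inv_mul_cancel, map_one, Module.End.one_apply]

/-- every translation character occurs once -/
def LineCond : Prop :=
  ∀ w : Fin (k + 2) → F, w ≠ 0 → finrank ℂ (LinearMap.range (proj (slPart σ) w)) = 1

variable {σ}

/-- the root groups away from the first two coordinates fix the lines along the first one -/
theorem far_fix (hq : 3 < Fintype.card F) (hline : LineCond σ) {i j : Fin (k + 2)} (hi : i ≠ 0)
    (hj : j ≠ 0) (hij : i ≠ j) (t s : F) (hs : s ≠ 0) :
    slPart σ (leviSL (SpecialLinearGroup.transvection hij t)) *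
      proj (slPart σ) (Pi.single 0 s) = proj (slPart σ) (Pi.single 0 s) := by
  set w : Fin (k + 2) → F := Pi.single 0 s
  obtain ⟨b, hb⟩ := exists_pow_ne_one (F := F) (k := 2)
    fun h => by have := Nat.le_of_dvd (by omega) h; omega
  set e := (b : F) * b - 1
  have he : e ≠ 0 := sub_ne_zero.2 fun h => hb (Units.ext (by rw [sq, Units.val_mul, h, Units.val_one]))
  set d : Fin (k + 2) → F := fun l => if l = i then (b : F) else if l = j then (b⁻¹ : Fˣ).1 else 1
  have hd : ∏ l, d l = 1 := by
    rw [← Finset.mul_prod_erase _ _ (Finset.mem_univ i),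
      ← Finset.mul_prod_erase _ _ (Finset.mem_erase.2 ⟨hij.symm, Finset.mem_univ j⟩),
      Finset.prod_eq_one]
    · simp [d, hij.symm]
    · intro l hl
      simp only [Finset.mem_erase] at hl
      simp [d, hl.2.1, hl.1]
  set T : F → SpecialLinearGroup (Fin (k + 2)) F := fun u =>
    SpecialLinearGroup.transvection hij u
  have hTw : ∀ u, (T u).1 *ᵥ w = w := fun u => by
    show Matrix.transvection i j u *ᵥ w = w
    rw [transvection_mulVec]
    simp [w, hj]
  have hDw : (diagElt d hd).1 *ᵥ w = w := by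
    funext l
    show (Matrix.diagonal d *ᵥ w) l = w l
    rw [mulVec_diagonal]
    by_cases hl : l = 0
    · subst hl; simp [d, Ne.symm hi, Ne.symm hj]
    · simp [w, hl]
  have hcomm : diagElt d hd * T (t / e) = T t * (T (t / e) * diagElt d hd) := by
    apply Subtype.ext
    show Matrix.diagonal d * Matrix.transvection i j (t / e) =
      Matrix.transvection i j t * (Matrix.transvection i j (t / e) * Matrix.diagonal d)
    rw [← Matrix.mul_assoc, Matrix.transvection_mul_transvection_same _ _ hij]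
    ext a c
    rw [Matrix.diagonal_mul, Matrix.mul_diagonal, Matrix.transvection, Matrix.transvection,
      Matrix.add_apply, Matrix.add_apply, Matrix.one_apply, Matrix.single_apply, Matrix.single_apply]
    by_cases hac : a = c
    · subst hac
      rw [if_pos rfl, if_neg fun h => hij (h.1.trans h.2.symm),
        if_neg fun h => hij (h.1.trans h.2.symm)]
      simp [mul_comm]
    · rw [if_neg hac]
      by_cases h : i = a ∧ j = c
      · obtain ⟨rfl, rfl⟩ := h
        rw [if_pos ⟨rfl, rfl⟩, if_pos ⟨rfl, rfl⟩]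
        simp [d, hij.symm]
        have := Units.ne_zero b
        field_simp
        ring
      · rw [if_neg h, if_neg h]; simp
  refine commutator_mul_line (slPart σ) (by rw [proj_mul_proj, if_pos rfl])
    (hline w fun h => hs (by simpa [w] using congrFun h 0))
    (g := leviSL (diagElt d hd)) (h := leviSL (T (t / e))) (levi_commute_proj _ hDw)
    (levi_commute_proj _ (hTw _)) ?_
  rw [← leviSL_mul, ← leviSL_mul, ← leviSL_mul, hcomm]

variable (σ)

/-- vectors fixed by the roots from the first two coordinates to the others -/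
noncomputable def pairFix : Submodule ℂ W where
  carrier := {x | ∀ (a r : Fin (k + 3)) (hr : a ≠ r), (a = 0 ∨ a = 1) → r ≠ 0 → r ≠ 1 →
    ∀ t, σ (xT hr t) x = x}
  add_mem' {x y} hx hy a r h1 h2 h3 h4 t := by
    rw [map_add, hx a r h1 h2 h3 h4 t, hy a r h1 h2 h3 h4 t]
  zero_mem' a r h1 h2 h3 h4 t := map_zero _
  smul_mem' c x hx a r h1 h2 h3 h4 t := by rw [map_smul, hx a r h1 h2 h3 h4 t]

theorem upFix_le_pairFix : upFix (slPart σ) ≤ pairFix σ := by
  intro x hx a r har ha hr0 hr1 t
  have hlt : a < r := by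
    rcases ha with rfl | rfl
    · exact Fin.pos_iff_ne_zero.2 hr0
    · have h0 : r.val ≠ 0 := fun h => hr0 (Fin.ext h)
      have h1 : r.val ≠ 1 := fun h => hr1 (Fin.ext (by simpa using h))
      show (1 : Fin (k + 3)).val < r.val
      simp; omega
  exact hx a r hlt t

theorem zero_ne_one'' : (0 : Fin (k + 3)) ≠ 1 := by simp

theorem pairFix_inv {g : sqDet (k + 3) F} {x : W} (hx : x ∈ pairFix σ)
    (hg : ∀ (a r : Fin (k + 3)) (har : a ≠ r), (a = 0 ∨ a = 1) → r ≠ 0 → r ≠ 1 → ∀ t : F,
      ∃ t0 t1 : F, ∃ (h0 : (0 : Fin (k + 3)) ≠ r) (h1 : (1 : Fin (k + 3)) ≠ r),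
        xT har t * g = g * (xT h0 t0 * xT h1 t1)) :
    σ g x ∈ pairFix σ := by
  intro a r har ha hr0 hr1 t
  obtain ⟨t0, t1, h0, h1, he⟩ := hg a r har ha hr0 hr1 t
  rw [← rep_mul_apply, he, rep_mul_apply, rep_mul_apply, hx 1 r h1 (Or.inr rfl) hr0 hr1 t1,
    hx 0 r h0 (Or.inl rfl) hr0 hr1 t0]

theorem pairFix_xT01 (u : F) {x : W} (hx : x ∈ pairFix σ) :
    σ (xT (zero_ne_one'' (k := k)) u) x ∈ pairFix σ := by
  refine pairFix_inv σ hx fun a r har ha hr0 hr1 t => ?_
  rcases ha with rfl | rfl
  · refine ⟨t, 0, har, Ne.symm hr1, sqDet_ext fun y => ?_⟩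
    simp only [mul_mulVec_sq, xT_mulVec, xT_zero, OneMemClass.coe_one, Units.val_one, one_mulVec]
    funext c
    by_cases c0 : c = 0 <;> simp [c0, hr0, Ne.symm hr1] <;> ring
  · refine ⟨-(u * t), t, Ne.symm hr0, har, sqDet_ext fun y => ?_⟩
    simp only [mul_mulVec_sq, xT_mulVec]
    funext c
    by_cases c0 : c = 0 <;> by_cases c1 : c = 1 <;>
      simp_all [Pi.single_apply, eq_comm] <;> ring

theorem pairFix_xT10 (u : F) {x : W} (hx : x ∈ pairFix σ) :
    σ (xT (zero_ne_one'' (k := k)).symm u) x ∈ pairFix σ := by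
  refine pairFix_inv σ hx fun a r har ha hr0 hr1 t => ?_
  rcases ha with rfl | rfl
  · refine ⟨t, -(u * t), har, Ne.symm hr1, sqDet_ext fun y => ?_⟩
    simp only [mul_mulVec_sq, xT_mulVec]
    funext c
    by_cases c0 : c = 0 <;> by_cases c1 : c = 1 <;>
      simp_all [Pi.single_apply, eq_comm] <;> ring
  · refine ⟨0, t, Ne.symm hr0, har, sqDet_ext fun y => ?_⟩
    simp only [mul_mulVec_sq, xT_mulVec, xT_zero, OneMemClass.coe_one, Units.val_one, one_mulVec]
    funext c
    by_cases c1 : c = 1 <;> simp [c1, hr1, Ne.symm hr0] <;> ring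

theorem translSL_fix_of_pairFix {x : W} (hx : x ∈ pairFix σ) {w : Fin (k + 2) → F}
    (hw : ∀ s, w ≠ Pi.single 0 s) : proj (slPart σ) w x = 0 := by
  obtain ⟨j, hj, hwj⟩ : ∃ j, j ≠ 0 ∧ w j ≠ 0 := by
    by_contra h
    push Not at h
    refine hw (w 0) (funext fun l => ?_)
    by_cases hl : l = 0
    · subst hl; simp
    · rw [Pi.single_eq_of_ne hl, h l hl]
  obtain ⟨u, hu⟩ : ∃ u, psi F (u * w j) ≠ 1 := by
    by_contra h
    push Not at h
    apply psi_ne_one (F := F)
    refine DFunLike.ext _ _ fun y => ?_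
    have := h (y / w j)
    rwa [div_mul_cancel₀ y hwj] at this
  have hfix : slPart σ (translSL (Pi.single j u)) x = x := by
    rw [translSL_single, comp_apply]
    exact hx 0 j.succ (ne_of_lt (Fin.succ_pos j)) (Or.inl rfl) (Fin.succ_ne_zero _)
      (fun h => hj (Fin.succ_injective _ h)) u
  have h1 : proj (slPart σ) w * slPart σ (translSL (Pi.single j u)) =
      psi F (u * w j) • proj (slPart σ) w := by
    have h := transl_mul_proj (slPart σ) (Pi.single j u) w
    rw [single_dotProduct] at h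
    rw [← h]
    simp only [proj, smul_mul_assoc, mul_smul_comm, Finset.sum_mul, Finset.mul_sum]
    congr 1
    refine Finset.sum_congr rfl fun z _ => ?_
    rw [← map_mul, ← map_mul, ← H40.translSL_add, ← H40.translSL_add, add_comm z (Pi.single j u)]
  have h2 := LinearMap.congr_fun h1 x
  rw [Module.End.mul_apply, hfix, LinearMap.smul_apply] at h2
  by_contra hne
  exact hu (smul_left_injective ℂ hne (by simp only; rw [one_smul]; exact h2.symm))

variable {σ}

/-- the moved part along the first root is a combination of the lines -/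
theorem diff_eig {x : W} (hx : x ∈ pairFix σ) {C : Module.End ℂ W} {c : ℂ}
    (hC : ∀ s : F, s ≠ 0 →
      C * proj (slPart σ) (Pi.single 0 s) = c • proj (slPart σ) (Pi.single 0 s)) (t : F) :
    C (σ (xT (zero_ne_one'' (k := k)) t) x - x) =
      c • (σ (xT (zero_ne_one'' (k := k)) t) x - x) := by
  have he : σ (xT (zero_ne_one'' (k := k)) t) = slPart σ (translSL (Pi.single 0 t)) := by
    rw [translSL_single, comp_apply]; rfl
  have hsum : σ (xT (zero_ne_one'' (k := k)) t) x - x =
      ∑ w : Fin (k + 2) → F,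
        (psi F (Pi.single 0 t ⬝ᵥ w) - 1) • proj (slPart σ) w x := by
    have h1 := LinearMap.congr_fun (sum_proj (slPart σ)) x
    rw [LinearMap.sum_apply, Module.End.one_apply] at h1
    conv_lhs => rw [← h1]
    rw [map_sum, ← Finset.sum_sub_distrib]
    refine Finset.sum_congr rfl fun w _ => ?_
    rw [sub_smul, one_smul, he, ← Module.End.mul_apply, transl_mul_proj, LinearMap.smul_apply]
  rw [hsum, map_sum, Finset.smul_sum]
  refine Finset.sum_congr rfl fun w _ => ?_
  rw [map_smul]
  by_cases hw : ∃ s, w = Pi.single 0 s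
  · obtain ⟨s, rfl⟩ := hw
    by_cases hs : s = 0
    · subst hs; simp
    · rw [← Module.End.mul_apply, hC s hs, LinearMap.smul_apply, smul_comm]
  · push Not at hw
    rw [translSL_fix_of_pairFix σ hx hw]
    simp

/-- a common scalar on the lines propagates to the pair subgroup -/
theorem pair_eig {g0 : sqDet (k + 3) F} {c : ℂ}
    (h01 : ∀ u : F, Commute g0 (xT (zero_ne_one'' (k := k)) u))
    (h10 : ∀ u : F, Commute g0 (xT (zero_ne_one'' (k := k)).symm u))
    (hC : ∀ s : F, s ≠ 0 →
      σ g0 * proj (slPart σ) (Pi.single 0 s) = c • proj (slPart σ) (Pi.single 0 s))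
    {g : sqDet (k + 3) F}
    (hg : g ∈ Subgroup.closure
      (Set.range (xT (zero_ne_one'' (k := k))) ∪ Set.range (xT (zero_ne_one'' (k := k)).symm)))
    {x : W} (hx : x ∈ pairFix σ) : σ g0 (σ g x - x) = c • (σ g x - x) := by
  let Kg : Subgroup (sqDet (k + 3) F) :=
    { carrier := {g | Commute g0 g ∧ (∀ y ∈ pairFix σ, σ g y ∈ pairFix σ) ∧
        (∀ y ∈ pairFix σ, σ g⁻¹ y ∈ pairFix σ)}
      mul_mem' := fun {a b} ha hb => ⟨ha.1.mul_right hb.1,
        fun y hy => by rw [rep_mul_apply]; exact ha.2.1 _ (hb.2.1 y hy),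
        fun y hy => by rw [_root_.mul_inv_rev, rep_mul_apply]; exact hb.2.2 _ (ha.2.2 y hy)⟩
      one_mem' := ⟨Commute.one_right _, fun y hy => by simpa using hy,
        fun y hy => by simpa using hy⟩
      inv_mem' := fun {a} ha => ⟨ha.1.inv_right, ha.2.2, fun y hy => by
        rw [inv_inv]; exact ha.2.1 y hy⟩ }
  have hinv : ∀ {i j : Fin (k + 3)} (h : i ≠ j) (u : F), (xT h u)⁻¹ = xT h (-u) := fun h u =>
    inv_eq_of_mul_eq_one_right (by rw [← xT_add, add_neg_cancel, xT_zero])
  have h01K : ∀ u, xT (zero_ne_one'' (k := k)) u ∈ Kg := fun u => ⟨h01 u,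
    fun y hy => pairFix_xT01 σ u hy, fun y hy => by rw [hinv]; exact pairFix_xT01 σ _ hy⟩
  have h10K : ∀ u, xT (zero_ne_one'' (k := k)).symm u ∈ Kg := fun u => ⟨h10 u,
    fun y hy => pairFix_xT10 σ u hy, fun y hy => by rw [hinv]; exact pairFix_xT10 σ _ hy⟩
  let S : Subgroup (sqDet (k + 3) F) :=
    { carrier := {g | g ∈ Kg ∧ ∀ y ∈ pairFix σ, σ g0 (σ g y - y) = c • (σ g y - y)}
      mul_mem' := fun {a b} ha hb => ⟨mul_mem ha.1 hb.1, fun y hy => by
        have e : σ (a * b) y - y = σ a (σ b y - y) + (σ a y - y) := by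
          rw [rep_mul_apply, map_sub]; abel
        rw [e, map_add, smul_add, ha.2 y hy]
        congr 1
        rw [← rep_mul_apply, ha.1.1.eq, rep_mul_apply, hb.2 y hy, map_smul]⟩
      one_mem' := ⟨one_mem _, fun y _ => by simp⟩
      inv_mem' := fun {a} ha => ⟨inv_mem ha.1, fun y hy => by
        have h := ha.2 _ (ha.1.2.2 y hy)
        rw [← rep_mul_apply, mul_inv_cancel, map_one, Module.End.one_apply] at h
        rw [← neg_sub, map_neg, h, smul_neg]⟩ }
  have hS01 : ∀ u, xT (zero_ne_one'' (k := k)) u ∈ S := fun u =>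
    ⟨h01K u, fun y hy => diff_eig hy hC u⟩
  set w := wEx (F := F) (zero_ne_one'' (k := k)) with hw
  have hwK : w ∈ Kg := mul_mem (mul_mem (h01K 1) (h10K _)) (h01K 1)
  have hS10 : ∀ u, xT (zero_ne_one'' (k := k)).symm u ∈ S := by
    intro u
    obtain ⟨s, hs⟩ := wEx_xT (zero_ne_one'' (k := k)) (zero_ne_one'' (k := k)).symm u
    have hs' : w * xT (zero_ne_one'' (k := k)).symm u = xT (zero_ne_one'' (k := k)) s * w := by
      rw [hw, hs]
      congr 2 <;> simp
    have e : xT (zero_ne_one'' (k := k)).symm u =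
        w⁻¹ * xT (zero_ne_one'' (k := k)) s * w := by rw [mul_assoc, ← hs', inv_mul_cancel_left]
    refine ⟨h10K u, fun y hy => ?_⟩
    have hwy := hwK.2.1 y hy
    have e2 : σ (xT (zero_ne_one'' (k := k)).symm u) y - y =
        σ w⁻¹ (σ (xT (zero_ne_one'' (k := k)) s) (σ w y) - σ w y) := by
      rw [map_sub, rep_inv_apply, ← rep_mul_apply, ← rep_mul_apply, ← e]
    rw [e2, ← rep_mul_apply, hwK.1.inv_right.eq, rep_mul_apply, diff_eig hwy hC s, map_smul]
  have hcl : Subgroup.closure
      (Set.range (xT (zero_ne_one'' (k := k))) ∪ Set.range (xT (zero_ne_one'' (k := k)).symm)) ≤ S := by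
    rw [Subgroup.closure_le]
    rintro g (⟨u, rfl⟩ | ⟨u, rfl⟩)
    · exact hS01 u
    · exact hS10 u
  exact (hcl hg).2 x hx

end H19.OM
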